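import Cfsg.Prelude.Def_FusionSystem
import Cfsg.Agent.Fusion.Saturation

/-!
Generation of a saturated fusion system by the automorphism groups of fully normalized, centric,
radical subgroups (Alperin), in a form that also gives access to the inductive hypothesis.
-/

set_option autoImplicit false

namespace CfsgLib.FusionSub

open Cfsg Cfsg.FusionSystem CfsgLib.Fusion

variable {Ω : Type*} [Group Ω] {S : Subgroup Ω} {F : FusionSystem S} {p : ℕ}
variable {P Q : Subgroup Ω}

/-- A normal `p`-subgroup of `Aut_F(Q)` lies in `Aut_S(Q)` when `Q` is fully automized. -/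
theorem pCore_map_le_autInducedBy [Finite S] [Fact p.Prime] (hQ : F.IsFullyAutomized p Q) :
    (pCore p (F.autGroup Q)).map (F.autGroup Q).subtype ≤ autInducedBy S Q := by
  have := finite_of_le hQ.1
  obtain ⟨T, hT⟩ := hQ.2
  have hle : pCore p (F.autGroup Q) ≤ (T : Subgroup (F.autGroup Q)) := by
    refine sSup_le fun N ⟨hN, hNp⟩ x hx => ?_
    obtain ⟨a, ha⟩ := exists_conj_mem_sylow T hNp
    have h1 := ha (a⁻¹ * x * a) (by simpa using hN.conj_mem x hx a⁻¹)
    simpa [mul_assoc] using h1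
  rintro _ ⟨x, hx, rfl⟩
  exact (hT ▸ hle hx : x ∈ (autInducedBy S Q).subgroupOf (F.autGroup Q))

/-- `Inn(Q)` lies in `O_p(Aut_F(Q))`. -/
theorem Inn_le_pCore_map [Finite S] [Fact p.Prime] (hS : IsPGroup p S) (hQ : Q ≤ S) :
    Inn Q ≤ (pCore p (F.autGroup Q)).map (F.autGroup Q).subtype := by
  intro α hα
  refine ⟨⟨α, Inn_le_autGroup hQ hα⟩, ?_, rfl⟩
  have hn : ((Inn Q).subgroupOf (F.autGroup Q)).Normal :=
    (Inn_normal Q).subgroupOf _
  have hp : IsPGroup p ((Inn Q).subgroupOf (F.autGroup Q)) :=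
    (Inn_eq Q ▸ isPGroup_autInducedBy (isPGroup_of_le_S hS hQ) Q :
      IsPGroup p (Inn Q)).comap_subtype
  exact (le_sSup ⟨hn, hp⟩ : (Inn Q).subgroupOf (F.autGroup Q) ≤ pCore p (F.autGroup Q)) hα

/-- The whole of `S` is radical when it is fully automized. -/
theorem isRadical_self [Finite S] [Fact p.Prime] (hS : IsPGroup p S)
    (hF : F.IsSaturated p) : F.IsRadical p S :=
  ⟨le_rfl, le_antisymm ((pCore_map_le_autInducedBy
    (automized_receptive hS hF isFullyNormalized_self).1).trans (Inn_eq S).ge)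
    (Inn_le_pCore_map hS le_rfl)⟩

/-- If an automorphism of the fully normalized `Q` normalizes `Aut_S(Q)` it extends to `N_S(Q)`. -/
theorem exists_extension_normalizerIn [Finite S] [Fact p.Prime] (hQ : F.IsReceptive Q)
    {α : MulAut Q} (hα : α ∈ F.autGroup Q)
    (h : ∀ β ∈ autInducedBy S Q, α * β * α⁻¹ ∈ autInducedBy S Q) :
    ∃ ψ ∈ F.Hom (normalizerIn S Q), ∀ (x : Q) (hx : (x : Ω) ∈ normalizerIn S Q),
      ψ ⟨x, hx⟩ = (α x : Ω) :=
  exists_extension hQ ((mem_autGroup_iff hQ.1).1 hα) fun g hg =>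
    mem_extender_of_congr hg (α := Q.normalizerMonoidHom ⟨g, hg.2⟩) (fun _ => rfl)
      (congr_self_eq α _ ▸ h _ (mem_autInducedBy_iff.2 ⟨g, hg.1, hg.2, fun _ => rfl⟩))

/-- **Alperin's theorem**, inductive form: to see that a saturated system `F` lies in a system `E`
it suffices to treat automorphisms of fully normalized centric radical subgroups, knowing already
that all maps with larger source lie in `E`. -/
theorem le_of_autGroups_induction [Finite S] [Fact p.Prime] (hS : IsPGroup p S)
    (hF : F.IsSaturated p) (E : FusionSystem S)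
    (h : ∀ Q : Subgroup Ω, F.IsFullyNormalized Q → F.IsCentric Q → F.IsRadical p Q →
      (∀ R : Subgroup Ω, Nat.card Q < Nat.card R → F.Hom R ⊆ E.Hom R) →
      F.autGroup Q ≤ E.autGroup Q) : F ≤ E := by
  intro P
  by_cases hPS : P ≤ S
  swap
  · exact fun φ hφ => absurd (le_left hφ) hPS
  induction hd : Nat.card S - Nat.card P using Nat.strong_induction_on generalizing P with
  | _ d ih =>
  have hbig : ∀ R : Subgroup Ω, Nat.card P < Nat.card R → F.Hom R ⊆ E.Hom R := by
    intro R hR φ hφ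
    have : Nat.card R ≤ Nat.card S :=
      Nat.card_le_card_of_injective _ (Subgroup.inclusion_injective (le_left hφ))
    exact ih _ (by omega) R (le_left hφ) rfl hφ
  obtain ⟨Q, hPQ, hQ⟩ := exists_fullyNormalized (F := F) hPS
  obtain ⟨hQa, hQr⟩ := automized_receptive hS hF hQ
  have hcardQ : Nat.card P = Nat.card Q := card_eq_of_isConj hPQ
  have : Finite Q := finite_of_le hQ.1
  -- an automorphism extending to a larger subgroup lies in `E`
  have hext : ∀ α : MulAut Q, ∀ T : Subgroup Ω, Q < T → T ≤ S → ∀ ψ ∈ F.Hom T,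
      (∀ (x : Q) (hx : (x : Ω) ∈ T), ψ ⟨x, hx⟩ = (α x : Ω)) → IsIso E α := by
    intro α T hT hTS ψ hψ hv
    have := finite_of_le hTS
    exact mem_of_agree (hbig T (hcardQ ▸ Set.Finite.card_lt_card (Set.toFinite _) hT) hψ) hT.le
      fun x => (hv x (hT.le x.2)).symm
  have hE : F.autGroup Q ≤ E.autGroup Q := by
    by_cases hc : centralizerIn S Q ≤ Q
    · have hcen : F.IsCentric Q :=
        isCentric_of_fullyCentralized hS hF (fullyCentralized_of_normalized hS hF hQ) hc
      by_cases hr : F.IsRadical p Q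
      · exact h Q hQ hcen hr fun R hR => hbig R (hcardQ ▸ hR)
      · intro α hα
        set K := (pCore p (F.autGroup Q)).map (F.autGroup Q).subtype with hK
        have hKn : ∀ β ∈ K, α * β * α⁻¹ ∈ K := by
          rintro _ ⟨b, hb, rfl⟩
          have hn : (pCore p (F.autGroup Q)).Normal := by
            refine Subgroup.sSup_normal _ fun N hN => hN.1
          exact ⟨_, hn.conj_mem b hb ⟨α, hα⟩, rfl⟩
        let T : Subgroup Ω := ((K.comap Q.normalizerMonoidHom).map
          (Subgroup.normalizer (Q : Set Ω)).subtype) ⊓ S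
        have hQT : Q ≤ T := fun g hg => ⟨⟨⟨g, Subgroup.le_normalizer hg⟩,
          Inn_le_pCore_map hS hQ.1
            ⟨⟨g, hg⟩, MulEquiv.ext fun x => Subtype.ext rfl⟩, rfl⟩, hQ.1 hg⟩
        obtain ⟨β, hβ, hβI⟩ := SetLike.exists_of_lt
          (lt_of_le_of_ne (Inn_le_pCore_map hS hQ.1) fun e => hr ⟨hQ.1, e.symm⟩)
        obtain ⟨g, hgS, hgN, hg⟩ := mem_autInducedBy_iff.1 (pCore_map_le_autInducedBy hQa hβ)
        have hgT : g ∈ T := ⟨⟨⟨g, hgN⟩, by
          show Q.normalizerMonoidHom ⟨g, hgN⟩ ∈ K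
          rwa [show Q.normalizerMonoidHom ⟨g, hgN⟩ = β from
            MulEquiv.ext fun x => Subtype.ext (hg x).symm], rfl⟩, hgS⟩
        have hlt : Q < T := lt_of_le_of_ne hQT fun e => hβI
          ⟨⟨g, e.symm ▸ hgT⟩, MulEquiv.ext fun x => Subtype.ext (hg x).symm⟩
        obtain ⟨ψ, hψ, hv⟩ := exists_extension (T := T) hQr ((mem_autGroup_iff hQ.1).1 hα) <| by
          rintro k ⟨⟨n, hn, rfl⟩, hkS⟩
          refine mem_extender_of_congr ⟨hkS, n.2⟩ (α := Q.normalizerMonoidHom n) (fun _ => rfl) ?_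
          rw [congr_self_eq]
          exact pCore_map_le_autInducedBy hQa (hKn _ hn)
        exact (mem_autGroup_iff hQ.1).2 (hext α T hlt inf_le_right ψ hψ hv)
    · intro α hα
      obtain ⟨ψ, hψ, hv⟩ := exists_extension (T := Q ⊔ centralizerIn S Q) hQr
        ((mem_autGroup_iff hQ.1).1 hα)
        (sup_le (le_extender hQ.1 fun x => hQ.1 (α x).2) (centralizerIn_le_extender _))
      refine (mem_autGroup_iff hQ.1).2 (hext α _ ?_ (sup_le hQ.1 (centralizerIn_le S Q)) ψ hψ hv)
      exact lt_of_le_of_ne le_sup_left fun e => hc (le_sup_right.trans e.ge)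
  intro φ hφ
  rcases hPS.eq_or_lt with rfl | hlt
  · have hQP : Q = P := eq_S_of_isConj hPQ
    subst hQP
    obtain ⟨e, he, hev⟩ := exists_iso hφ (eq_S_of_isConj ⟨φ, hφ, rfl⟩)
    exact mem_congr ((mem_autGroup_iff hQ.1).1 (hE he.mem_autGroup)) fun x => (hev x).symm
  · have key : ∀ R : Subgroup Ω, F.IsConj R Q → ∃ e : R ≃* Q, IsIso F e ∧ IsIso E e := by
      intro R hR
      obtain ⟨χ, hχ, -, himg⟩ := exists_map_normalizerIn hS hQa hQr hR
      have hRS := le_of_isConj_left hR
      have hRlt : R < S := by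
        refine lt_of_le_of_ne hRS fun e => ?_
        have h1 := card_eq_of_isConj hR
        have h2 : Nat.card P < Nat.card S := Set.Finite.card_lt_card (Set.toFinite _) hlt
        rw [e] at h1
        omega
      have hN := lt_normalizerIn hS hRlt
      have := finite_of_le (normalizerIn_le S R)
      have hcard : Nat.card P < Nat.card (normalizerIn S R) := by
        rw [hcardQ, ← card_eq_of_isConj hR]
        exact Set.Finite.card_lt_card (Set.toFinite _) hN
      obtain ⟨e, he, hev⟩ := exists_iso (restrict_mem hχ hN.le)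
        ((range_restrictHom χ _).trans himg)
      exact ⟨e, he, mem_congr (restrict_mem (hbig _ hcard hχ) hN.le) hev⟩
    obtain ⟨f, hf, hfv⟩ := exists_iso_range hφ
    obtain ⟨e₁, he₁, he₁'⟩ := key P hPQ
    obtain ⟨e₂, he₂, he₂'⟩ := key φ.range (isConj_trans (isConj_symm hf.isConj) hPQ)
    have hα : IsIso F ((e₁.symm.trans f).trans e₂) := (he₁.symm.trans hf).trans he₂
    have hαE : IsIso E ((e₁.symm.trans f).trans e₂) :=
      (mem_autGroup_iff hQ.1).1 (hE hα.mem_autGroup)
    refine mem_congr ((he₁'.trans hαE).trans he₂'.symm) fun x => ?_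
    simp [← hfv x]

/-- **Alperin's theorem** for saturated fusion systems. -/
theorem le_of_autGroups [Finite S] [Fact p.Prime] (hS : IsPGroup p S)
    (hF : F.IsSaturated p) (E : FusionSystem S)
    (h : ∀ Q : Subgroup Ω, F.IsFullyNormalized Q → F.IsCentric Q → F.IsRadical p Q →
      F.autGroup Q ≤ E.autGroup Q) : F ≤ E :=
  le_of_autGroups_induction hS hF E fun Q h1 h2 h3 _ => h Q h1 h2 h3

/-- Mutual inclusion gives equality of the map sets. -/
theorem hom_eq_of_le {E : FusionSystem S} (h₁ : F ≤ E) (h₂ : E ≤ F) (P : Subgroup Ω) :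
    F.Hom P = E.Hom P := Set.Subset.antisymm (h₁ P) (h₂ P)

end CfsgLib.FusionSub
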