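import Cfsg.Prelude.Def_FusionSystem
import Cfsg.Agent.FusionSub.Generation

/-!
Maps on overgroups of centric subgroups are determined by their restriction up to the centre, so a
saturated subsystem contains a map as soon as it contains its restriction to a centric subgroup.
-/

set_option autoImplicit false

namespace CfsgLib.FusionSub

open Cfsg Cfsg.FusionSystem CfsgLib.Fusion

variable {Ω : Type*} [Group Ω] {S : Subgroup Ω} {F : FusionSystem S} {p : ℕ}
variable {P Q R A : Subgroup Ω}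

/-- An automorphism of `A ≤ N_S(Q)` in `F` fixing the centric subgroup `Q` pointwise is conjugation
by an element of `Q`. -/
theorem exists_conj_of_fix [Finite S] [Fact p.Prime] (hS : IsPGroup p S) (hF : F.IsSaturated p)
    (hQ : F.IsCentric Q) (hQA : Q ≤ A) (hA : A ≤ normalizerIn S Q) {β : MulAut A}
    (hβ : IsIso F β) (hfix : ∀ x : A, (x : Ω) ∈ Q → β x = x) :
    ∃ z ∈ Q, ∀ x : A, (β x : Ω) = z * x * z⁻¹ := by
  have hAS : A ≤ S := hA.trans (normalizerIn_le S Q)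
  have := finite_of_le hAS
  have := finite_of_le hQ.1
  -- `β` has `p`-power order
  have hdiff : ∀ x : A, ((x⁻¹ * β x : A) : Ω) ∈ Q := by
    intro x
    refine centralizerIn_le_of_centric hQ (mem_centralizerIn'.2 ⟨hAS (x⁻¹ * β x).2, fun q hq => ?_⟩)
    have hxq : ((x : Ω) * q * (x : Ω)⁻¹) ∈ Q :=
      (Subgroup.mem_normalizer_iff.1 (hA x.2).2 q).1 hq
    have h1 : β (x * ⟨q, hQA hq⟩ * x⁻¹) = x * ⟨q, hQA hq⟩ * x⁻¹ := hfix _ hxq
    rw [map_mul, map_mul, map_inv, hfix ⟨q, hQA hq⟩ hq] at h1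
    have h2 : (x⁻¹ * β x) * ⟨q, hQA hq⟩ * (x⁻¹ * β x)⁻¹ = ⟨q, hQA hq⟩ := by
      rw [show (x⁻¹ * β x) * ⟨q, hQA hq⟩ * (x⁻¹ * β x)⁻¹ =
        x⁻¹ * (β x * ⟨q, hQA hq⟩ * (β x)⁻¹) * x by group, h1]
      group
    exact congrArg Subtype.val h2
  obtain ⟨k, hk⟩ := (isPGroup_of_le_S hS hQ.1).exists_card_eq
  have hpow : (β : MulAut A) ^ p ^ k = 1 := by
    ext x
    have hit : ∀ n : ℕ, ((β : MulAut A) ^ n) x = x * (x⁻¹ * β x) ^ n := by
      intro n
      induction n with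
      | zero => simp
      | succ n ih =>
        rw [pow_succ', MulAut.mul_apply, ih, map_mul, map_pow, hfix _ (hdiff x), pow_succ', ← mul_assoc,
          mul_inv_cancel_left]
    rw [hit, MulAut.one_apply]
    have h1 : (x⁻¹ * β x : A) ^ p ^ k = 1 := by
      have h2 : (⟨_, hdiff x⟩ : Q) ^ Nat.card Q = 1 := pow_card_eq_one'
      rw [hk] at h2
      exact Subtype.ext (congrArg Subtype.val h2 :)
    rw [h1, mul_one]
  obtain ⟨B, hAB, hB⟩ := exists_fullyNormalized (F := F) hAS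
  obtain ⟨e, he⟩ := isConj_iff.1 hAB
  obtain ⟨γ, hγ, hγc⟩ := exists_conj_autInducedBy (automized_receptive hS hF hB).1
    (X := Subgroup.zpowers (MulAut.congr e β))
    (Subgroup.zpowers_le.2 (congr_mem_autGroup he hβ.mem_autGroup))
    (isPGroup_zpowers_of_pow_eq_one (k := k) (by rw [← map_pow, hpow, map_one]))
  have he' : IsIso F (e.trans γ) := he.trans ((mem_autGroup_iff hB.1).1 hγ)
  have hc : MulAut.congr (e.trans γ) β ∈ autInducedBy S B := by
    rw [congr_trans, congr_self_eq]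
    exact hγc _ (Subgroup.mem_zpowers _)
  generalize e.trans γ = f at he' hc
  obtain ⟨s, hsS, -, hs⟩ := mem_autInducedBy_iff.1 hc
  have hsQ : s ∈ centralizerIn S (imgHom (B.subtype.comp f.toMonoidHom) Q) := by
    refine mem_centralizerIn'.2 ⟨hsS, ?_⟩
    rintro _ ⟨x, hx, rfl⟩
    have := hs (f x)
    rw [congr_apply, hfix x hx] at this
    exact this.symm
  obtain ⟨z, hz, hzs⟩ :=
    (isCentric_of_isConj hQ (isConj_restrict he' hQA)).2 _ (isConj_refl (imgHom_le he' Q)) hsQ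
  refine ⟨z, hz, fun x => ?_⟩
  have h1 : f (β x) = f (z * x * z⁻¹) := by
    refine Subtype.ext ?_
    rw [← congr_apply, hs, ← hzs]
    simp
  exact congrArg Subtype.val (f.injective h1)

/-- Two maps on `A ≤ N_S(Q)` agreeing on the centric subgroup `Q` differ by conjugation by an
element of `Q`. -/
theorem exists_conj_of_agree [Finite S] [Fact p.Prime] (hS : IsPGroup p S) (hF : F.IsSaturated p)
    (hQ : F.IsCentric Q) (hQA : Q ≤ A) (hA : A ≤ normalizerIn S Q) {ψ₁ ψ₂ : A →* Ω}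
    (h₁ : ψ₁ ∈ F.Hom A) (h₂ : ψ₂ ∈ F.Hom A) (hagree : ∀ x : A, (x : Ω) ∈ Q → ψ₁ x = ψ₂ x) :
    ∃ z : A, (z : Ω) ∈ Q ∧ ∀ x : A, ψ₂ x = ψ₁ (z * x * z⁻¹) := by
  have := finite_of_le (hA.trans (normalizerIn_le S Q))
  have hle : ψ₂.range ≤ ψ₁.range := by
    rintro _ ⟨a, rfl⟩
    have hc : (ψ₁ a)⁻¹ * ψ₂ a ∈ centralizerIn S (imgHom ψ₁ Q) := by
      refine mem_centralizerIn'.2 ⟨S.mul_mem (S.inv_mem (apply_mem h₁ a)) (apply_mem h₂ a), ?_⟩
      rintro _ ⟨q, hq, rfl⟩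
      have haq : ((a * q * a⁻¹ : A) : Ω) ∈ Q :=
        (Subgroup.mem_normalizer_iff.1 (hA a.2).2 q).1 hq
      have h3 := hagree _ haq
      rw [map_mul, map_mul, map_inv, map_mul, map_mul, map_inv, ← hagree q hq] at h3
      calc _ = (ψ₁ a)⁻¹ * (ψ₂ a * ψ₁ q * (ψ₂ a)⁻¹) * ψ₁ a := by simp [mul_assoc]
        _ = ψ₁ q := by rw [← h3]; simp [mul_assoc]
    obtain ⟨w, hw⟩ := imgHom_le_range ψ₁ Q
      ((isCentric_of_isConj hQ (isConj_restrict h₁ hQA)).2 _ (isConj_refl (imgHom_le h₁ Q)) hc)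
    exact ⟨a * w, by rw [map_mul, hw, mul_inv_cancel_left]⟩
  obtain ⟨e₁, he₁, hv₁⟩ := exists_iso_range h₁
  have := Finite.of_equiv A e₁.toEquiv
  obtain ⟨e₂, he₂, hv₂⟩ := exists_iso h₂ (Q := ψ₁.range) (Subgroup.eq_of_le_of_card_ge hle (by
    rw [← imgHom_self, ← imgHom_self, card_imgHom (F.injective_of_mem h₁) le_rfl,
      card_imgHom (F.injective_of_mem h₂) le_rfl]))
  obtain ⟨z, hz, hzv⟩ := exists_conj_of_fix hS hF hQ hQA hA (he₂.trans he₁.symm) fun x hx => by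
    refine (MulEquiv.symm_apply_eq e₁).2 (Subtype.ext ?_)
    exact (hv₂ x).trans ((hagree x hx).symm.trans (hv₁ x).symm)
  refine ⟨⟨z, hQA hz⟩, hz, fun x => ?_⟩
  have h := hzv x
  rw [← hv₂, ← hv₁]
  refine congrArg Subtype.val ?_
  rw [← MulEquiv.symm_apply_eq]
  exact Subtype.ext h

/-- A fully centralized subgroup in a subsystem: every conjugate of a centric subgroup. -/
theorem isFullyCentralized_of_centric [Finite S] (hQ : F.IsCentric Q) {E : FusionSystem S}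
    (hEF : E ≤ F) : E.IsFullyCentralized Q := by
  refine ⟨hQ.1, fun R ⟨χ, hχ, hr⟩ => ?_⟩
  obtain ⟨e, he, -⟩ := exists_iso (hEF Q hχ) hr
  have hRc := hQ.2 R he.isConj
  have := finite_of_le (centralizerIn_le S Q)
  refine Nat.card_le_card_of_injective (fun c : centralizerIn S R =>
    (⟨(e.symm ⟨c, hRc c.2⟩ : Q), mem_centralizerIn'.2 ⟨hQ.1 (e.symm ⟨c, hRc c.2⟩).2,
      fun x hx => ?_⟩⟩ : centralizerIn S Q)) ?_
  · have h1 := (mem_centralizerIn'.1 c.2).2 (e ⟨x, hx⟩) (e ⟨x, hx⟩).2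
    refine congrArg Subtype.val (e.injective (?_ : e (e.symm ⟨c, hRc c.2⟩ * ⟨x, hx⟩ *
      (e.symm ⟨c, hRc c.2⟩)⁻¹) = e ⟨x, hx⟩))
    simp only [map_mul, map_inv, MulEquiv.apply_symm_apply]
    exact Subtype.ext h1
  · intro a b h
    exact Subtype.ext (congrArg Subtype.val
      (e.symm.injective (Subtype.ext (congrArg (fun z : centralizerIn S Q => (z : Ω)) h))) :)

/-- A map whose restriction to a centric subgroup lies in a saturated subsystem lies in it. -/
theorem mem_of_restrict_centric [Finite S] [Fact p.Prime] (hS : IsPGroup p S)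
    (hF : F.IsSaturated p) {E : FusionSystem S} (hE : E.IsSaturated p) (hEF : E ≤ F)
    (hQ : F.IsCentric Q) {ψ : R →* Ω} (hψ : ψ ∈ F.Hom R) (hQR : Q ≤ R)
    (hres : restrictHom ψ hQR ∈ E.Hom Q) : ψ ∈ E.Hom R := by
  induction hd : Nat.card R - Nat.card Q using Nat.strong_induction_on generalizing Q with
  | _ d ih =>
  have := finite_of_le (le_left hψ)
  rcases hQR.eq_or_lt with rfl | hlt
  · exact hres
  have hAlt : Q < normalizerIn R Q := lt_normalizerIn (isPGroup_of_le_S hS (le_left hψ)) hlt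
  have hAR : normalizerIn R Q ≤ R := normalizerIn_le R Q
  have hAN : normalizerIn R Q ≤ normalizerIn S Q := fun g hg => ⟨le_left hψ hg.1, hg.2⟩
  have hfc : E.IsFullyCentralized (restrictHom ψ hQR).range :=
    isFullyCentralized_of_centric (isCentric_of_isConj hQ ⟨_, restrict_mem hψ hQR, rfl⟩) hEF
  obtain ⟨f, hf, hfv⟩ := exists_iso_range hres
  obtain ⟨ψ', hψ', hv⟩ := exists_extension (T := normalizerIn R Q)
    (receptive_of_fullyCentralized hS hE hfc) hf fun g hg =>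
      inf_normalizer_le_extender (F := F)
        (φ := (restrictHom ψ hQR).range.subtype.comp f.toMonoidHom) hψ hQR
        (fun x => (hfv x).symm) ⟨hg.1, hg.2⟩
  have hag : ∀ x : normalizerIn R Q, (x : Ω) ∈ Q → ψ' x = restrictHom ψ hAR x := fun x hx =>
    (hv ⟨x, hx⟩ x.2).trans (hfv ⟨x, hx⟩)
  obtain ⟨z, hz, hzv⟩ := exists_conj_of_agree hS hF hQ hAlt.le hAN (hEF _ hψ')
    (restrict_mem hψ hAR) hag
  have hres' : restrictHom ψ hAR ∈ E.Hom (normalizerIn R Q) := by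
    refine mem_of_comp (E.conj_mem (hAR.trans (le_left hψ)) (hAN z.2).1) hψ'
      (fun x => (z * x * z⁻¹).2) fun x => ?_
    exact hzv x
  have hcard : Nat.card Q < Nat.card (normalizerIn R Q) := by
    have := finite_of_le (hAR.trans (le_left hψ))
    exact Set.Finite.card_lt_card (Set.toFinite _) hAlt
  have hcardle : Nat.card (normalizerIn R Q) ≤ Nat.card R :=
    Nat.card_le_card_of_injective _ (Subgroup.inclusion_injective hAR)
  exact ih _ (by omega) (isCentric_of_le hQ hAlt.le (hAR.trans (le_left hψ))) hAR hres' rfl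

/-- A saturated subsystem containing all maps on minimal centric subgroups is the whole system. -/
theorem hom_eq_of_minimal_centric [Finite S] [Fact p.Prime] (hS : IsPGroup p S)
    (hF : F.IsSaturated p) {E : FusionSystem S} (hE : E.IsSaturated p) (hEF : E ≤ F)
    (hmin : ∀ Q : Subgroup Ω, F.IsCentric Q → (∀ R : Subgroup Ω, R < Q → ¬ F.IsCentric R) →
      F.Hom Q = E.Hom Q) (P : Subgroup Ω) : F.Hom P = E.Hom P := by
  refine hom_eq_of_le (le_of_autGroups hS hF E fun Q _ hQ _ α hα => ?_) hEF P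
  have hI := (mem_autGroup_iff hQ.1).1 hα
  obtain ⟨R, ⟨hR, hRQ⟩, hminR⟩ := Set.exists_min_image
    {R : Subgroup Ω | F.IsCentric R ∧ R ≤ Q} (fun R => Nat.card R)
    (finite_subgroups.subset fun R hR => hR.1.1) ⟨Q, hQ, le_rfl⟩
  refine (mem_autGroup_iff hQ.1).2 (mem_of_restrict_centric hS hF hE hEF hR hI hRQ ?_)
  rw [← hmin R hR fun T hT hTc => ?_]
  · exact restrict_mem hI hRQ
  · have := finite_of_le hR.1
    exact (hminR T ⟨hTc, hT.le.trans hRQ⟩).not_gt (Set.Finite.card_lt_card (Set.toFinite _) hT)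

/-- The two-out-of-three property for a saturated subsystem at centric subgroups. -/
theorem three_of_two [Finite S] [Fact p.Prime] (hS : IsPGroup p S)
    (hF : F.IsSaturated p) {E : FusionSystem S} (hE : E.IsSaturated p) (hEF : E ≤ F)
    (hQ : F.IsCentric Q) {φ : Q →* Ω} (hφ : φ ∈ F.Hom Q) (hφR : ∀ x : Q, φ x ∈ R)
    {ψ : R →* Ω} (hψ : ψ ∈ F.Hom R) :
    (φ ∈ E.Hom Q → ψ ∈ E.Hom R → ψ.comp (φ.codRestrict R hφR) ∈ E.Hom Q) ∧
      (ψ ∈ E.Hom R → ψ.comp (φ.codRestrict R hφR) ∈ E.Hom Q → φ ∈ E.Hom Q) ∧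
      (φ ∈ E.Hom Q → ψ.comp (φ.codRestrict R hφR) ∈ E.Hom Q → ψ ∈ E.Hom R) := by
  refine ⟨fun h1 h2 => E.comp_mem h1 h2 hφR, fun h2 h3 => ?_, fun h1 h3 => ?_⟩
  · obtain ⟨χ, hχ, hχv⟩ := E.inv_mem h2
    exact mem_of_comp h3 hχ (fun x => ⟨⟨φ x, hφR x⟩, rfl⟩) fun x => (hχv ⟨φ x, hφR x⟩).symm
  · have hrR : φ.range ≤ R := by
      rintro _ ⟨x, rfl⟩
      exact hφR x
    refine mem_of_restrict_centric hS hF hE hEF (isCentric_of_isConj hQ ⟨φ, hφ, rfl⟩) hψ hrR ?_
    obtain ⟨χ, hχ, hχv⟩ := E.inv_mem h1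
    have hin : ∀ y : φ.range, χ y ∈ Q := by
      rintro ⟨_, x, rfl⟩
      rw [hχv]
      exact x.2
    refine mem_of_comp hχ h3 hin ?_
    rintro ⟨_, x, rfl⟩
    have : (⟨χ ⟨φ x, x, rfl⟩, hin _⟩ : Q) = x := Subtype.ext (hχv x)
    rw [this]
    rfl

/-- An invariant saturated subsystem over `S` with the same automorphisms of `S` is everything. -/
theorem hom_eq_of_invariant [Finite S] [Fact p.Prime] (hS : IsPGroup p S) (hF : F.IsSaturated p)
    {E : FusionSystem S} (hE : E.IsSaturated p) (hEF : E ≤ F)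
    (hinv : ∀ Q : Subgroup Ω, Q ≤ S → ∀ α ∈ F.autGroup Q, ∀ β ∈ E.autGroup Q,
      α * β * α⁻¹ ∈ E.autGroup Q)
    (htop : E.autGroup S = F.autGroup S) (P : Subgroup Ω) : E.Hom P = F.Hom P := by
  refine (hom_eq_of_le (le_of_autGroups_induction hS hF E fun Q hQ _ _ hIH α hα => ?_) hEF P).symm
  rcases hQ.1.eq_or_lt with rfl | hlt
  · rwa [htop]
  obtain ⟨-, hQr⟩ := automized_receptive hS hF hQ
  have hQE : E.IsFullyNormalized Q :=
    ⟨hQ.1, fun R ⟨χ, hχ, hr⟩ => hQ.2 R ⟨χ, hEF Q hχ, hr⟩⟩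
  obtain ⟨a, ha, hac⟩ := exists_conj_autInducedBy (automized_receptive (p := p) hS hE hQE).1
    (X := (autInducedBy S Q).map (MulAut.conj α).toMonoidHom)
    (by
      rintro _ ⟨β, hβ, rfl⟩
      exact hinv Q hQ.1 α hα β (autInducedBy_le_autGroup hQ.1 hβ))
    ((isPGroup_autInducedBy hS Q).map _)
  have haF : a ∈ F.autGroup Q :=
    (mem_autGroup_iff hQ.1).2 (hEF Q ((mem_autGroup_iff hQ.1).1 ha))
  obtain ⟨ψ, hψ, hv⟩ := exists_extension_normalizerIn (p := p) hQr (mul_mem haF hα) fun β hβ => by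
    have := hac _ ⟨β, hβ, rfl⟩
    simpa [mul_assoc] using this
  have hN := lt_normalizerIn hS hlt
  have := finite_of_le (normalizerIn_le S Q)
  have hψE := hIH _ (Set.Finite.card_lt_card (Set.toFinite _) hN) hψ
  have : a * α ∈ E.autGroup Q :=
    (mem_autGroup_iff hQ.1).2 (mem_of_agree hψE hN.le fun x => (hv x (hN.le x.2)).symm)
  simpa using mul_mem (inv_mem ha) this

end CfsgLib.FusionSub
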