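import Cfsg.Prelude.Def_FusionSystem
import Cfsg.Agent.EvenType.StronglyEmbedded
import Cfsg.Agent.FusionSub.Extension

/-!
An essential subgroup is needed to generate a fusion system.
-/

set_option autoImplicit false

namespace CfsgLib.FusionSub

open Cfsg Cfsg.FusionSystem CfsgLib.Fusion

/-- An element conjugating a nontrivial `p`-subgroup of a strongly `p`-embedded subgroup into that
subgroup lies in it. -/
theorem mem_of_conj_le_stronglyPEmbedded {G : Type*} [Group G] [Finite G] {p : ℕ} [Fact p.Prime]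
    {Y : Subgroup G} (hY : IsStronglyPEmbedded p Y) {X : Subgroup G} (hXY : X ≤ Y)
    (hX : IsPGroup p X) (hne : X ≠ ⊥) {g : G} (hg : ∀ x ∈ X, g * x * g⁻¹ ∈ Y) : g ∈ Y := by
  induction hd : Nat.card G - Nat.card X using Nat.strong_induction_on generalizing X with
  | _ d ih =>
  obtain ⟨P, -, hPY, -⟩ := EvenType.exists_sylow_le_of_isStronglyPEmbedded hY
  obtain ⟨T, hT⟩ := hX.exists_le_sylow
  let X' : Subgroup G := X.map (MulAut.conj g).toMonoidHom
  have hX'Y : X' ≤ Y := by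
    rintro _ ⟨x, hx, rfl⟩
    exact hg x hx
  have hX'ne : X' ≠ ⊥ := by
    rw [ne_eq, Subgroup.map_eq_bot_iff_of_injective _ (MulEquiv.injective _)]
    exact hne
  have hN' := EvenType.normalizer_le_of_isStronglyPEmbedded hY hX'Y (hX.map _) hX'ne
  have hN := EvenType.normalizer_le_of_isStronglyPEmbedded hY hXY hX hne
  have hconjN : ∀ n ∈ Subgroup.normalizer (X : Set G), g * n * g⁻¹ ∈ Y := by
    intro n hn
    refine hN' (Subgroup.mem_normalizer_iff.2 fun z => ?_)
    have hmem : ∀ z : G, z ∈ X' ↔ g⁻¹ * z * g ∈ X := by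
      intro z
      refine ⟨?_, fun hz => ⟨_, hz, by simp [mul_assoc]⟩⟩
      rintro ⟨w, hw, rfl⟩
      simpa [mul_assoc] using hw
    rw [hmem, hmem, Subgroup.mem_normalizer_iff.1 hn]
    simp [mul_assoc]
  rcases (hT : X ≤ T).eq_or_lt with rfl | hlt
  · -- both are Sylow subgroups of `Y`
    let T' : Sylow p G := g • T
    have hT'Y : (T' : Subgroup G) ≤ Y := hX'Y
    obtain ⟨y, hy⟩ := MulAction.exists_smul_eq Y (T'.subtype hT'Y) (T.subtype hXY)
    have h2 : ((y : G) * g) • T = T := by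
      rw [mul_smul]
      refine Sylow.ext ?_
      have h1 := congrArg (fun U : Sylow p Y => (U : Subgroup Y).map Y.subtype) hy
      simp only [Sylow.coe_subgroup_smul, Sylow.coe_subtype,
        Subgroup.map_subgroupOf_eq_of_le hXY] at h1
      rw [Sylow.coe_subgroup_smul]
      refine Eq.trans ?_ h1
      ext z
      constructor
      · intro hz
        rw [Subgroup.mem_pointwise_smul_iff_inv_smul_mem] at hz
        simp only [MulAut.inv_apply, MulAut.smul_def, MulAut.conj_symm_apply] at hz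
        have hzY : z ∈ Y := by
          have h3 := Y.mul_mem (Y.mul_mem y.2 (hT'Y hz)) (Y.inv_mem y.2)
          simpa [mul_assoc] using h3
        refine ⟨⟨z, hzY⟩, ?_, rfl⟩
        rw [SetLike.mem_coe, Subgroup.mem_pointwise_smul_iff_inv_smul_mem, Subgroup.mem_subgroupOf]
        simpa [MulAut.smul_def] using hz
      · rintro ⟨w, hw, rfl⟩
        rw [SetLike.mem_coe, Subgroup.mem_pointwise_smul_iff_inv_smul_mem,
          Subgroup.mem_subgroupOf] at hw
        rw [Subgroup.mem_pointwise_smul_iff_inv_smul_mem]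
        simpa [MulAut.smul_def] using hw
    have h3 := hN (Sylow.smul_eq_iff_mem_normalizer.1 h2)
    simpa using Y.mul_mem (Y.inv_mem y.2) h3
  · have hlt' : X < T.1 ⊓ Subgroup.normalizer (X : Set G) :=
      lt_normalizerIn (S := T.1) T.isPGroup' hlt
    have hcard := Set.Finite.card_lt_card (Set.toFinite _) hlt'
    have hle := Subgroup.card_le_card_group (T.1 ⊓ Subgroup.normalizer (X : Set G))
    exact ih _ (by simp only [SetLike.coe_sort_coe] at hcard; omega) (inf_le_right.trans hN)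
      (T.isPGroup'.to_le inf_le_left)
      (ne_bot_of_gt hlt')
      (fun n hn => hconjN n hn.2) rfl

variable {Ω : Type*} [Group Ω] {S : Subgroup Ω}

/-- Conjugating twice through the same isomorphism composes. -/
theorem exists_proper_subsystem [Finite S] {p : ℕ} [Fact p.Prime] (hS : IsPGroup p S)
    {F : FusionSystem S} (hF : F.IsSaturated p) {Q : Subgroup Ω} (hQ : F.IsEssential p Q) :
    ∃ E : FusionSystem S, (∀ R : Subgroup Ω, R ≤ S → ¬ F.IsConj Q R →
      F.autGroup R ≤ E.autGroup R) ∧ ¬ F ≤ E := by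
  classical
  obtain ⟨hQc, hQn, hnorm, E₁, hE₁⟩ := hQ
  have := finite_of_le hQn.1
  obtain ⟨hQa, hQr⟩ := automized_receptive hS hF hQn
  let I := (Inn Q).subgroupOf (F.autGroup Q)
  let mkQ : F.autGroup Q →* F.autGroup Q ⧸ I := QuotientGroup.mk' I
  obtain ⟨T, hT⟩ := hQa.2
  -- a conjugate of the strongly embedded subgroup containing the image of `Aut_S(Q)`
  obtain ⟨Y, hY, hSY⟩ : ∃ Y : Subgroup (F.autGroup Q ⧸ I),
      IsStronglyPEmbedded p Y ∧ (T : Subgroup (F.autGroup Q)).map mkQ ≤ Y := by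
    obtain ⟨P, -, hPY, -⟩ := EvenType.exists_sylow_le_of_isStronglyPEmbedded hE₁
    obtain ⟨a, ha⟩ := exists_conj_mem_sylow P (T.isPGroup'.map mkQ)
    refine ⟨E₁.map (MulAut.conj a⁻¹).toMonoidHom, ⟨hE₁.1, ?_, ?_⟩, fun x hx => ?_⟩
    · intro htop
      refine hE₁.2.1 (Subgroup.map_injective (f := (MulAut.conj a⁻¹).toMonoidHom)
        (MulEquiv.injective _) ?_)
      exact htop.trans (Subgroup.map_top_of_surjective _ (MulEquiv.surjective _)).symm
    · obtain ⟨P₁, hP₁⟩ := hE₁.2.2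
      refine ⟨a⁻¹ • P₁, iSup_le ?_⟩
      rintro ⟨R, hRP, hR⟩ x hx
      have hR' : R.map (MulAut.conj a).toMonoidHom ≤ (P₁ : Subgroup _) := by
        rintro _ ⟨r, hr, rfl⟩
        have := hRP hr
        rw [Sylow.coe_subgroup_smul, Subgroup.mem_pointwise_smul_iff_inv_smul_mem] at this
        simpa [MulAut.smul_def] using this
      have hRne : R.map (MulAut.conj a).toMonoidHom ≠ ⊥ := by
        rw [ne_eq, Subgroup.map_eq_bot_iff_of_injective _ (MulEquiv.injective _)]
        rintro rfl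
        apply hR
        intro A _ _
        rw [Subgroup.eq_bot_of_subsingleton A, Subgroup.card_bot]
        exact Nat.one_le_pow _ _ (Fact.out : p.Prime).pos
      refine ⟨a * x * a⁻¹, hP₁ (EvenType.normalizer_le_kGeneratedCore_one P₁.isPGroup' hR' hRne
        ?_), by simp [mul_assoc]⟩
      rw [Subgroup.mem_normalizer_iff]
      intro z
      have hmem : ∀ z, z ∈ R.map (MulAut.conj a).toMonoidHom ↔ a⁻¹ * z * a ∈ R := by
        intro z
        refine ⟨?_, fun hz => ⟨_, hz, by simp [mul_assoc]⟩⟩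
        rintro ⟨w, hw, rfl⟩
        simpa [mul_assoc] using hw
      rw [hmem, hmem, Subgroup.mem_normalizer_iff.1 hx]
      simp [mul_assoc]
    · exact ⟨a * x * a⁻¹, hPY (ha x hx), by simp [mul_assoc]⟩
  let H : Subgroup (MulAut Q) := (Y.comap mkQ).map (F.autGroup Q).subtype
  have hAS : autInducedBy S Q ≤ H := fun α hα =>
    ⟨⟨α, autInducedBy_le_autGroup hQn.1 hα⟩, hSY ⟨_, hT.symm ▸ hα, rfl⟩, rfl⟩
  -- the key property
  have key : ∀ α ∈ F.autGroup Q, ∀ g ∈ normalizerIn S Q, g ∉ Q → ∀ β : MulAut Q,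
      (∀ x : Q, (β x : Ω) = g * x * g⁻¹) → α * β * α⁻¹ ∈ autInducedBy S Q → α ∈ H := by
    intro α hα g hg hgQ β hβ hαβ
    have hβA : β ∈ autInducedBy S Q := mem_autInducedBy_iff.2 ⟨g, hg.1, hg.2, hβ⟩
    set b : F.autGroup Q := ⟨β, autInducedBy_le_autGroup hQn.1 hβA⟩ with hb
    have hbX : Subgroup.zpowers (mkQ b) ≤ Y :=
      Subgroup.zpowers_le.2 (hSY ⟨b, hT.symm ▸ hβA, rfl⟩)
    have hbne : Subgroup.zpowers (mkQ b) ≠ ⊥ := by
      rw [ne_eq, Subgroup.zpowers_eq_bot]
      intro h1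
      obtain ⟨q, hq⟩ := ((QuotientGroup.eq_one_iff b).1 h1 : (b : MulAut Q) ∈ Inn Q)
      refine hgQ ?_
      have hc : (q : Ω)⁻¹ * g ∈ centralizerIn S Q := by
        refine mem_centralizerIn'.2 ⟨S.mul_mem (S.inv_mem (hQn.1 q.2)) hg.1, fun x hx => ?_⟩
        have h2 : (q : Ω) * x * (q : Ω)⁻¹ = g * x * g⁻¹ := by
          rw [← hβ ⟨x, hx⟩]
          exact congrArg (fun a : MulAut Q => (a ⟨x, hx⟩ : Ω)) hq
        calc _ = (q : Ω)⁻¹ * (g * x * g⁻¹) * q := by simp [mul_assoc]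
          _ = x := by rw [← h2]; simp [mul_assoc]
      simpa using Q.mul_mem q.2 (centralizerIn_le_of_centric hQc hc)
    obtain ⟨m, hm⟩ : ∃ m, b ^ p ^ m = 1 := by
      obtain ⟨m, hm⟩ := isPGroup_autInducedBy hS Q ⟨β, hβA⟩
      exact ⟨m, Subtype.ext (congrArg Subtype.val hm :)⟩
    refine ⟨⟨α, hα⟩, mem_of_conj_le_stronglyPEmbedded hY hbX ?_ hbne ?_, rfl⟩
    · exact isPGroup_zpowers_of_pow_eq_one (k := m) (by rw [← map_pow, hm, map_one])
    · rintro _ ⟨n, rfl⟩
      rw [show mkQ ⟨α, hα⟩ * mkQ b ^ n * (mkQ ⟨α, hα⟩)⁻¹ =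
        (mkQ ⟨α, hα⟩ * mkQ b * (mkQ ⟨α, hα⟩)⁻¹) ^ n by rw [conj_zpow]]
      refine Y.zpow_mem ?_ n
      rw [← map_inv, ← map_mul, ← map_mul]
      exact hSY ⟨_, hT.symm ▸ hαβ, rfl⟩
  -- reference isomorphisms extending to normalizers
  have href : ∀ P : Subgroup Ω, F.IsConj P Q → ∃ e : P ≃* Q, IsIso F e ∧
      ∃ χ ∈ F.Hom (normalizerIn S P), (∀ x, χ x ∈ normalizerIn S Q) ∧
        ∀ (x : P) (hx : (x : Ω) ∈ normalizerIn S P), χ ⟨x, hx⟩ = (e x : Ω) := by
    intro P hP
    obtain ⟨χ, hχ, hmem, himg⟩ := exists_map_normalizerIn hS hQa hQr hP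
    obtain ⟨e, he, hev⟩ := exists_iso (restrict_mem hχ (le_normalizerIn (le_of_isConj_left hP)))
      ((range_restrictHom χ _).trans himg)
    exact ⟨e, he, χ, hχ, hmem, fun x hx => (hev x).symm⟩
  choose ref href₁ χ hχ hχmem hχv using href
  -- good maps
  let good : ∀ P : Subgroup Ω, (P →* Ω) → Prop := fun P φ => ∀ (hP : F.IsConj P Q)
    (hR : F.IsConj φ.range Q) (f : P ≃* φ.range), (∀ x, (f x : Ω) = φ x) →
      ((ref P hP).symm.trans f).trans (ref φ.range hR) ∈ H
  have goodiff : ∀ (P : Subgroup Ω) (φ : P →* Ω) (R : Subgroup Ω) (hr : φ.range = R)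
      (hP : F.IsConj P Q) (hR : F.IsConj R Q) (f : P ≃* R), (∀ x, (f x : Ω) = φ x) →
      (good P φ ↔ ((ref P hP).symm.trans f).trans (ref R hR) ∈ H) := by
    intro P φ R hr hP hR f hf
    subst hr
    refine ⟨fun h => h hP hR f hf, fun h hP' hR' f' hf' => ?_⟩
    have : f' = f := MulEquiv.ext fun x => Subtype.ext ((hf' x).trans (hf x).symm)
    subst this
    exact h
  -- maps extending to a larger subgroup are good
  have hbig : ∀ (P R : Subgroup Ω) (φ : P →* Ω) (θ : R →* Ω) (hθ : θ ∈ F.Hom R) (hPR : P < R),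
      (∀ x : P, φ x = θ ⟨x, hPR.le x.2⟩) → good P φ := by
    intro P R φ θ hθ hPR hv hP hR' f hf
    have := finite_of_le (le_left hθ)
    obtain ⟨a, haA, haP⟩ := SetLike.exists_of_lt
      (lt_normalizerIn (isPGroup_of_le_S hS (le_left hθ)) hPR)
    have haN : a ∈ normalizerIn S P := ⟨le_left hθ haA.1, haA.2⟩
    have himg : imgHom θ P = φ.range := by
      ext y
      refine ⟨fun ⟨x, hx, hxy⟩ => ⟨⟨x, hx⟩, (hv _).trans hxy⟩, fun ⟨x, hxy⟩ => ?_⟩
      exact ⟨⟨x, hPR.le x.2⟩, x.2, (hv x).symm.trans hxy⟩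
    have hθa : θ ⟨a, haA.1⟩ ∈ normalizerIn S φ.range := by
      refine ⟨apply_mem hθ _, ?_⟩
      have := map_mem_normalizer (ψ := θ) hPR.le (g := ⟨a, haA.1⟩) haA.2
      rwa [himg] at this
    set g := χ P hP ⟨a, haN⟩ with hg
    set k := χ φ.range hR' ⟨θ ⟨a, haA.1⟩, hθa⟩ with hk
    have hgQ : g ∉ Q := by
      intro hgq
      obtain ⟨x, hx⟩ := (ref P hP).surjective ⟨g, hgq⟩
      have hxN := le_normalizerIn (le_of_isConj_left hP) x.2
      have h1 : χ P hP ⟨a, haN⟩ = χ P hP ⟨x, hxN⟩ := by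
        rw [hχv P hP x hxN, hx]
      have h4 : a = x := congrArg Subtype.val (F.injective_of_mem (hχ P hP) h1)
      exact haP (h4.symm ▸ x.2)
    have hfF : IsIso F f := mem_congr (mem_of_agree hθ hPR.le hv) hf
    refine key _ ((((href₁ P hP).symm.trans hfF).trans (href₁ _ hR')).mem_autGroup) g
      (hχmem P hP _) hgQ
      (Q.normalizerMonoidHom ⟨g, (hχmem P hP _).2⟩) (fun x => rfl) ?_
    refine mem_autInducedBy_iff.2 ⟨k, (hχmem _ hR' _).1, (hχmem _ hR' _).2, fun x => ?_⟩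
    obtain ⟨y, rfl⟩ := (((ref P hP).symm.trans f).trans (ref φ.range hR')).surjective x
    rw [← congr_self_eq, congr_apply]
    obtain ⟨y', rfl⟩ := (ref P hP).surjective y
    have hya : a * (y' : Ω) * a⁻¹ ∈ P := (Subgroup.mem_normalizer_iff.1 haA.2 y').1 y'.2
    have hPN := le_normalizerIn (le_of_isConj_left hP)
    have hRN := le_normalizerIn (le_of_isConj_left hR')
    have e1 : Q.normalizerMonoidHom ⟨g, (hχmem P hP _).2⟩ (ref P hP y') = ref P hP ⟨_, hya⟩ := by
      refine Subtype.ext ?_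
      show g * (ref P hP y' : Ω) * g⁻¹ = _
      rw [← hχv P hP y' (hPN y'.2), ← hχv P hP ⟨_, hya⟩ (hPN hya), hg, ← map_inv, ← map_mul,
        ← map_mul]
      rfl
    rw [e1]
    simp only [MulEquiv.trans_apply, MulEquiv.symm_apply_apply]
    rw [← hχv _ hR' (f y') (hRN (f y').2), ← hχv _ hR' (f ⟨_, hya⟩) (hRN (f ⟨_, hya⟩).2), hk,
      ← map_inv, ← map_mul, ← map_mul]
    refine congrArg _ (Subtype.ext ?_)
    show (f ⟨_, hya⟩ : Ω) = θ ⟨a, haA.1⟩ * (f y' : Ω) * (θ ⟨a, haA.1⟩)⁻¹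
    rw [hf, hf, hv, hv, ← map_inv, ← map_mul, ← map_mul]
    rfl
  have hlt : ∀ P : Subgroup Ω, F.IsConj P Q → P < S := by
    intro P hP
    refine lt_of_le_of_ne (le_of_isConj_left hP) fun e => ?_
    subst e
    obtain rfl := eq_S_of_isConj hP
    obtain ⟨hd, -⟩ := hE₁
    have hall : autInducedBy Q Q = Inn Q := (Inn_eq Q).symm
    obtain ⟨T', hT'⟩ := hQa.2
    have hp : ¬ p ∣ ((Inn Q).subgroupOf (F.autGroup Q)).index := by
      rw [← hall, ← hT']
      exact Sylow.not_dvd_index T'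
    exact hp (by rwa [Subgroup.index_eq_card])
  let E : FusionSystem S :=
    { Hom := fun P => {φ | φ ∈ F.Hom P ∧ good P φ}
      le_of_mem := fun h => F.le_of_mem h.1
      injective_of_mem := fun h => F.injective_of_mem h.1
      conj_mem := fun {P g} hP hg => ⟨F.conj_mem hP hg, fun hPQ hR f hf =>
        hbig P S _ (conjHom S g) (F.conj_mem le_rfl hg) (hlt P hPQ) (fun x => rfl) hPQ hR f hf⟩
      comp_mem := by
        rintro P R φ ψ ⟨hφ, gφ⟩ ⟨hψ, gψ⟩ h
        refine ⟨F.comp_mem hφ hψ h, fun hP hR f hf => ?_⟩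
        have hle : φ.range ≤ R := by
          rintro _ ⟨x, rfl⟩
          exact h x
        obtain ⟨f₁, hf₁, hf₁v⟩ := exists_iso_range hφ
        have hr : (restrictHom ψ hle).range = (ψ.comp (φ.codRestrict R h)).range := by
          ext y
          refine ⟨?_, fun ⟨x, hx⟩ => ⟨⟨φ x, x, rfl⟩, hx⟩⟩
          rintro ⟨⟨_, x, rfl⟩, hx⟩
          exact ⟨x, hx⟩
        obtain ⟨f₂, hf₂, hf₂v⟩ := exists_iso (restrict_mem hψ hle) hr
        have hM : F.IsConj φ.range Q := isConj_trans hf₂.isConj hR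
        have g₂ : good φ.range (restrictHom ψ hle) := by
          rcases hle.eq_or_lt with e | e
          · have hres : ∀ (R' : Subgroup Ω) (ψ' : R' →* Ω), good R' ψ' →
                ∀ (M : Subgroup Ω) (e : M = R'), good M (restrictHom ψ' e.le) := by
              intro R' ψ' g' M e
              subst e
              exact g'
            exact hres R ψ gψ φ.range e
          · exact hbig φ.range R _ ψ hψ e fun x => rfl
        have h1 := (goodiff P φ _ rfl hP hM f₁ hf₁v).1 gφ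
        have h2 := (goodiff φ.range _ _ hr hM hR f₂ hf₂v).1 g₂
        have h3 := H.mul_mem h2 h1
        convert h3 using 1
        refine MulEquiv.ext fun x => ?_
        simp only [MulAut.mul_apply, MulEquiv.trans_apply, MulEquiv.symm_apply_apply]
        refine congrArg _ (Subtype.ext ?_)
        rw [hf, hf₂v]
        exact congrArg ψ (Subtype.ext (hf₁v _).symm)
      inv_mem := by
        rintro P φ ⟨hφ, gφ⟩
        obtain ⟨ψ, hψ, hv⟩ := F.inv_mem hφ
        refine ⟨ψ, ⟨hψ, ?_⟩, hv⟩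
        obtain ⟨f, hf, hfv⟩ := exists_iso_range hφ
        have hr : ψ.range = P := by
          ext y
          refine ⟨?_, fun hy => ⟨⟨φ ⟨y, hy⟩, _, rfl⟩, hv ⟨y, hy⟩⟩⟩
          rintro ⟨⟨_, x, rfl⟩, rfl⟩
          rw [hv]
          exact x.2
        intro hP' hR' f' hf'
        have hPQ : F.IsConj P Q := isConj_trans hf.isConj hP'
        refine (goodiff φ.range ψ P hr hP' hPQ f.symm ?_).2 ?_ hP' hR' f' hf'
        · rintro ⟨_, x, rfl⟩
          rw [hv]
          exact congrArg Subtype.val ((MulEquiv.symm_apply_eq f).2 (Subtype.ext (hfv x).symm))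
        · have h1 := H.inv_mem ((goodiff P φ _ rfl hPQ hP' f hfv).1 gφ)
          convert h1 using 1
          rfl }
  refine ⟨E, fun R hR hnc α hα => ?_, fun hle => ?_⟩
  · refine (mem_autGroup_iff hR).2 ⟨(mem_autGroup_iff hR).1 hα, fun hP => ?_⟩
    exact absurd (isConj_symm hP) hnc
  · obtain ⟨α, -, hαY⟩ : ∃ α : F.autGroup Q, True ∧ mkQ α ∉ Y := by
      by_contra hcon
      refine hY.2.1 (eq_top_iff.2 fun x _ => ?_)
      obtain ⟨a, rfl⟩ := QuotientGroup.mk'_surjective I x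
      exact not_not.1 fun hn => hcon ⟨a, trivial, hn⟩
    have hQQ : F.IsConj Q Q := isConj_refl hQn.1
    have hidF : IsIso F (MulEquiv.refl Q) := IsIso.refl hQn.1
    have hαE : ∀ β : MulAut Q, β ∈ F.autGroup Q →
        ((ref Q hQQ).symm.trans β).trans (ref Q hQQ) ∈ H := fun β hβ =>
      (goodiff Q _ Q (range_subtype_comp β) hQQ hQQ β fun _ => rfl).1
        (hle Q ((mem_autGroup_iff hQn.1).1 hβ)).2
    have href' : (ref Q hQQ : MulAut Q) ∈ F.autGroup Q := (href₁ Q hQQ).mem_autGroup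
    have h := hαE ((ref Q hQQ : MulAut Q)⁻¹ * α * (ref Q hQQ : MulAut Q))
      (mul_mem (mul_mem (inv_mem href') α.2) href')
    obtain ⟨b, hb, hbv⟩ := h
    refine hαY ?_
    have : b = α := Subtype.ext (hbv.trans (MulEquiv.ext fun x => by simp))
    subst this
    exact hb

end CfsgLib.FusionSub
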