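import Cfsg.Agent.FusionSub.Simple
import Cfsg.Agent.Fusion.Realized
import Cfsg.Agent.Linear.SL2Sylow
import Cfsg.Agent.Linear.Basic
import Cfsg.Agent.SL2Trace.Basic
import Cfsg.Agent.S3116

/-!
The 2-fusion system of `PSL(2,q)` with dihedral Sylow subgroups of order at least 8 is simple.
-/

set_option autoImplicit false

namespace CfsgLib.FusionSub

open Cfsg Cfsg.FusionSystem CfsgLib.Fusion
open scoped MatrixGroups

/-- If `Aut S` is a `p`-group, `Aut_F(S)` consists of inner automorphisms. -/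
theorem autGroup_eq_Inn_of_isPGroup {Ω : Type*} [Group Ω] {S : Subgroup Ω} [Finite S] {p : ℕ}
    [Fact p.Prime] (hS : IsPGroup p S) {F : FusionSystem S} (hF : F.IsSaturated p)
    (h : IsPGroup p (MulAut S)) : F.autGroup S = Inn S := by
  obtain ⟨R, hR⟩ := (automized_receptive hS hF isFullyNormalized_self).1.2
  have htop : (R : Subgroup (F.autGroup S)) = ⊤ :=
    (R.is_maximal' ((h.to_subgroup _).to_subgroup ⊤) le_top).symm
  rw [Inn_eq S]
  refine le_antisymm (fun α hα => ?_) (autInducedBy_le_autGroup le_rfl)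
  have h1 : (⟨α, hα⟩ : F.autGroup S) ∈ (R : Subgroup (F.autGroup S)) := htop ▸ Subgroup.mem_top _
  rw [hR] at h1
  exact h1

variable {K : Type*} [Field K] [Fintype K]

/-- `PSL(2,q)`, `q` odd, has one class of involutions. -/
theorem isConj_involutions_PSL_two (hodd : Odd (Fintype.card K))
    {x y : Matrix.ProjectiveSpecialLinearGroup (Fin 2) K} (hx : orderOf x = 2)
    (hy : orderOf y = 2) : IsConj x y := by
  have key : ∀ z : Matrix.ProjectiveSpecialLinearGroup (Fin 2) K, orderOf z = 2 →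
      ∃ g : SL(2, K), SL2Trace.proj g = z ∧ Matrix.trace g.1 = 0 := by
    intro z hz
    obtain ⟨g, rfl⟩ := SL2Trace.proj_surjective z
    refine ⟨g, rfl, ?_⟩
    have hg1 : SL2Trace.proj g ≠ 1 := fun h => by simp [h] at hz
    have hsq : SL2Trace.proj (g ^ 2) = 1 := by
      have h2 := pow_orderOf_eq_one (SL2Trace.proj g)
      rw [hz] at h2
      exact h2
    rw [SL2Trace.proj_eq_one_iff] at hsq
    rcases hsq with h | h
    · exfalso
      rw [ne_eq, SL2Trace.proj_eq_one_iff, not_or] at hg1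
      exact hg1.2 (Linear.eq_neg_one_of_sq hodd g hg1.1 h)
    · have h' := congrArg Subtype.val h
      rw [Matrix.SpecialLinearGroup.coe_pow, sq] at h'
      have e00 := congrFun (congrFun h' 0) 0
      have e11 := congrFun (congrFun h' 1) 1
      simp [Matrix.mul_apply, Fin.sum_univ_two] at e00 e11
      have hd := SL2Trace.det_eq_one g
      rw [Matrix.trace_fin_two]
      have h1 : (g.1 0 0 + g.1 1 1) ^ 2 = 0 := by linear_combination e00 + e11 + 2 * hd
      simpa using h1
  obtain ⟨g, rfl, hg⟩ := key x hx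
  obtain ⟨h, rfl, hh⟩ := key y hy
  refine SL2Trace.isConj_proj_of_trace g h ?_ (Or.inl (hg.trans hh.symm))
  rw [hh]
  intro h4
  apply Linear.two_ne_zero_of_odd hodd
  have h2 : (2 : K) ^ 2 = 0 := by linear_combination -h4
  simpa using h2

open QuaternionGroup in
theorem isSimple_PSL_two (hodd : Odd (Fintype.card K)) (h16 : 16 ∣ Fintype.card K ^ 2 - 1)
    (S : Sylow 2 (Matrix.ProjectiveSpecialLinearGroup (Fin 2) K)) :
    (groupFusionSystem (S : Subgroup (Matrix.ProjectiveSpecialLinearGroup (Fin 2) K))).IsSimple 2 := by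
  have : Fact (Nat.Prime 2) := ⟨Nat.prime_two⟩
  set pr : SL(2, K) →* Matrix.ProjectiveSpecialLinearGroup (Fin 2) K := QuotientGroup.mk' _ with hpr
  have hsurj : Function.Surjective pr := QuotientGroup.mk'_surjective _
  have hone : ∀ g, pr g = 1 ↔ g = 1 ∨ g = -1 := SL2Trace.proj_eq_one_iff
  have hker : IsPGroup 2 pr.ker := by
    intro g
    refine ⟨1, Subtype.ext ?_⟩
    rcases (hone g).1 g.2 with h | h <;> simp [h]
  obtain ⟨P, hP⟩ := ((S.isPGroup').comap_of_ker_isPGroup pr hker).exists_le_sylow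
  have hPS : (P : Subgroup SL(2, K)).map pr = (S : Subgroup _) := by
    refine S.is_maximal' (P.isPGroup'.map pr) ?_
    intro x hx
    obtain ⟨g, rfl⟩ := hsurj x
    exact ⟨g, hP hx, rfl⟩
  obtain ⟨m, hm, ⟨e⟩⟩ := Linear.sylow_two_quaternion hodd P
  let π : QuaternionGroup (2 ^ m) →* Matrix.ProjectiveSpecialLinearGroup (Fin 2) K :=
    (pr.comp (P : Subgroup SL(2, K)).subtype).comp e.symm.toMonoidHom
  have hrange : π.range = (S : Subgroup _) := by
    rw [← hPS]
    ext x
    constructor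
    · rintro ⟨q, rfl⟩
      exact ⟨e.symm q, (e.symm q).2, rfl⟩
    · rintro ⟨g, hg, rfl⟩
      exact ⟨e ⟨g, hg⟩, by simp [π]⟩
  have hn0 : NeZero (2 ^ m) := ⟨pow_ne_zero _ two_ne_zero⟩
  set z : QuaternionGroup (2 ^ m) := a ((2 ^ m : ℕ) : ZMod (2 * 2 ^ m)) with hz
  have hnat : ∀ k : ℕ, ((k : ZMod (2 * 2 ^ m)) = 0 ↔ 2 * 2 ^ m ∣ k) := fun k =>
    ZMod.natCast_eq_zero_iff k (2 * 2 ^ m)
  have hz1 : z ≠ 1 := by
    rw [hz, QuaternionGroup.one_def, ne_eq, QuaternionGroup.a.injEq, hnat]
    intro h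
    have h1 := Nat.le_of_dvd (pow_pos two_pos m) h
    have h2 := pow_pos two_pos m (M₀ := ℕ)
    omega
  have hz2 : z ^ 2 = 1 := by
    rw [hz, sq, a_mul_a, QuaternionGroup.one_def, ← Nat.cast_add, QuaternionGroup.a.injEq, hnat,
      two_mul]
  have hez : ((e.symm z : (P : Subgroup SL(2, K))) : SL(2, K)) = -1 := by
    refine Linear.eq_neg_one_of_sq hodd _ (fun h => hz1 ?_) ?_
    · have h' : e.symm z = 1 := Subtype.ext h
      simpa using h'
    · rw [← Subgroup.coe_pow, ← map_pow, hz2, map_one, Subgroup.coe_one]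
  have hπ1 : ∀ q, π q = 1 ↔ q = 1 ∨ q = z := by
    intro q
    show pr ((e.symm q : (P : Subgroup SL(2, K))) : SL(2, K)) = 1 ↔ _
    rw [hone, ← hez, Subtype.coe_inj, e.symm.injective.eq_iff]
    exact or_congr_left ⟨fun h => e.symm.injective ((Subtype.ext h).trans (map_one _).symm),
      fun h => by simp [h]⟩
  have hzpi : π z = 1 := (hπ1 z).2 (Or.inr rfl)
  have hox : orderOf (π (a 1)) = 2 ^ m := by
    refine Nat.dvd_antisymm (orderOf_dvd_of_pow_eq_one ?_) ?_
    · rw [← map_pow, a_one_pow]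
      exact hzpi
    · have h1 := pow_orderOf_eq_one (π (a 1))
      rw [← map_pow, a_one_pow, hπ1, hz, QuaternionGroup.one_def, QuaternionGroup.a.injEq,
        QuaternionGroup.a.injEq, hnat] at h1
      rcases h1 with h1 | h1
      · exact (dvd_mul_left _ _).trans h1
      · rw [ZMod.natCast_eq_natCast_iff] at h1
        exact ((h1.of_mul_left 2).dvd_iff dvd_rfl).2 dvd_rfl
  have hcardker : Nat.card π.ker = 2 := by
    have h1 : (π.ker : Set (QuaternionGroup (2 ^ m))) = {1, z} := Set.ext fun q => by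
      simpa using hπ1 q
    rw [← SetLike.coe_sort_coe, Nat.card_coe_set_eq, h1, Set.ncard_pair hz1.symm]
  have hcardS : Nat.card (S : Subgroup (Matrix.ProjectiveSpecialLinearGroup (Fin 2) K)) =
      2 * 2 ^ m := by
    have h1 := Subgroup.card_mul_index π.ker
    rw [Subgroup.index_ker, hcardker, hrange, Nat.card_eq_fintype_card (α := QuaternionGroup _),
      QuaternionGroup.card] at h1
    have h2 : Nat.card (S : Subgroup (Matrix.ProjectiveSpecialLinearGroup (Fin 2) K)) =
      Nat.card ↥(S : Subgroup (Matrix.ProjectiveSpecialLinearGroup (Fin 2) K)) := rfl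
    omega
  have hm2 : 2 ≤ m := by
    have h1 : 2 ^ 3 ∣ Nat.card (Matrix.ProjectiveSpecialLinearGroup (Fin 2) K) := by
      obtain ⟨c, hc⟩ := h16
      refine ⟨Fintype.card K * c, Nat.eq_of_mul_eq_mul_left two_pos ?_⟩
      rw [Linear.card_PSL_two_odd hodd, hc]
      ring
    obtain ⟨Q, hQ⟩ := Sylow.exists_subgroup_card_pow_prime 2 h1
    obtain ⟨R, hR⟩ := (IsPGroup.of_card hQ).exists_le_sylow
    have h2 := Subgroup.card_dvd_of_le hR
    rw [hQ, Nat.card_congr (Sylow.equiv R S).toEquiv, hcardS, ← pow_succ',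
      Nat.pow_dvd_pow_iff_le_right Nat.one_lt_two] at h2
    omega
  -- the elements outside the cyclic subgroup are involutions
  have hxa : ∀ i, orderOf (π (xa i)) = 2 := by
    intro i
    refine orderOf_eq_prime ?_ fun h => ?_
    · rw [← map_pow, QuaternionGroup.xa_sq]
      exact hzpi
    · rcases (hπ1 _).1 h with h' | h'
      · rw [QuaternionGroup.one_def] at h'
        cases h'
      · rw [hz] at h'
        cases h'
  have hne : (S : Subgroup (Matrix.ProjectiveSpecialLinearGroup (Fin 2) K)) ≠ ⊥ := by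
    intro h
    have h1 : π (xa 0) ∈ (S : Subgroup _) := hrange ▸ ⟨_, rfl⟩
    rw [h, Subgroup.mem_bot] at h1
    have := hxa 0
    rw [h1, orderOf_one] at this
    omega
  have hgen : Subgroup.closure {x | x ∈ (S : Subgroup _) ∧ orderOf x = 2} =
      (S : Subgroup (Matrix.ProjectiveSpecialLinearGroup (Fin 2) K)) := by
    refine le_antisymm ((Subgroup.closure_le _).2 fun x hx => hx.1) ?_
    rw [← hrange]
    rintro _ ⟨q, rfl⟩
    have hin : ∀ i, π (xa i) ∈ Subgroup.closure {x | x ∈ π.range ∧ orderOf x = 2} := fun i =>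
      Subgroup.subset_closure ⟨⟨_, rfl⟩, hxa i⟩
    cases q with
    | xa i => exact hin i
    | a j =>
      have h1 : π (a j) = π (xa 0) * π (xa (j - ((2 ^ m : ℕ) : ZMod (2 * 2 ^ m)))) := by
        rw [← map_mul, xa_mul_xa]
        congr 2
        ring
      rw [h1]
      exact mul_mem (hin _) (hin _)
  have haut : IsPGroup 2 (MulAut (S : Subgroup (Matrix.ProjectiveSpecialLinearGroup (Fin 2) K))) := by
    let X : (S : Subgroup (Matrix.ProjectiveSpecialLinearGroup (Fin 2) K)) := ⟨π (a 1), hrange ▸ ⟨_, rfl⟩⟩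
    have hX : orderOf X = 2 ^ m := by rw [← Subgroup.orderOf_coe]; exact hox
    have hlt : ∀ g : (S : Subgroup (Matrix.ProjectiveSpecialLinearGroup (Fin 2) K)),
        g ∉ Subgroup.zpowers X → g ^ 2 = 1 := by
      intro g hg
      obtain ⟨q, hq⟩ := (hrange.ge g.2)
      cases q with
      | xa i =>
        refine Subtype.ext ?_
        have h2 := pow_orderOf_eq_one (π (xa i))
        rw [hxa, hq] at h2
        rw [Subgroup.coe_pow]
        exact h2
      | a j =>
        refine absurd ⟨(j.val : ℤ), Subtype.ext ?_⟩ hg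
        show (X ^ (j.val : ℤ)).val = _
        rw [zpow_natCast, Subgroup.coe_pow, ← hq, ← map_pow, a_one_pow, ZMod.natCast_zmod_val]
    obtain ⟨Y, hY⟩ : ∃ Y, Y ∉ Subgroup.zpowers X := by
      by_contra h
      push Not at h
      have h1 : Nat.card (Subgroup.zpowers X) = Nat.card (S : Subgroup (Matrix.ProjectiveSpecialLinearGroup (Fin 2) K)) := by
        rw [(Subgroup.eq_top_iff' _).2 h, Subgroup.card_top]
      rw [Nat.card_zpowers, hX, hcardS] at h1
      have := pow_pos two_pos m (M₀ := ℕ)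
      omega
    refine Cfsg.Agent.S3116.aut_two_group hX hY (by rw [hcardS, pow_succ']) fun g hg => ?_
    obtain ⟨c, hc⟩ : 2 ∣ 2 ^ (m - 1) := dvd_pow_self 2 (by omega)
    rw [hc, pow_mul, hlt g hg, one_pow]
  refine isSimple_of_transitive S.isPGroup' (isSaturated_groupFusion S) hne hgen
    (fun A B hA hB hcA hcB => ?_)
    (autGroup_eq_Inn_of_isPGroup S.isPGroup' (isSaturated_groupFusion S) haut)
  rw [isConj_iff_conj (groupFusion_isRealizedBy _)]
  have hgenA : ∀ A : Subgroup (Matrix.ProjectiveSpecialLinearGroup (Fin 2) K), Nat.card A = 2 →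
      ∃ u, orderOf u = 2 ∧ A = Subgroup.zpowers u := by
    intro A hA
    obtain ⟨u, hu⟩ := exists_prime_orderOf_dvd_card' (G := A) 2 hA.symm.dvd
    refine ⟨(u : Matrix.ProjectiveSpecialLinearGroup (Fin 2) K), by rw [Subgroup.orderOf_coe]; exact hu, (Subgroup.eq_of_le_of_card_ge
      (Subgroup.zpowers_le.2 u.2) ?_).symm⟩
    rw [Nat.card_zpowers, Subgroup.orderOf_coe, hu, hA]
  obtain ⟨u, hu, rfl⟩ := hgenA A hcA
  obtain ⟨v, hv, rfl⟩ := hgenA B hcB
  obtain ⟨c, hc⟩ := isConj_iff.1 (isConj_involutions_PSL_two hodd hu hv)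
  refine ⟨hA, hB, c, ?_⟩
  rw [im_subtype hA, im_subtype hB, MonoidHom.map_zpowers]
  exact congrArg Subgroup.zpowers hc

end CfsgLib.FusionSub
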