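import Cfsg.Agent.Linear.SL2Sylow
import Cfsg.Agent.Linear.Basic
import Cfsg.Agent.SL2Trace.Basic
import Cfsg.Agent.Transfer.Residual
import Cfsg.Agent.S1202
import Cfsg.Agent.S3116
import Cfsg.Agent.Inv53.SmallCentralizer

/-!
A Sylow 2-subgroup of `GL(2,q)`, `q` odd, containing the monomial 2-group: its intersection with
`SL(2,q)` and its automorphism group.
-/

set_option autoImplicit false

namespace CfsgLib.FusionSub.GLTwo

open Matrix
open scoped MatrixGroups

variable {F : Type*} [Field F]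

/-- `diag(a,b)` as an element of `GL(2,F)`. -/
def Δ : Fˣ × Fˣ →* GL (Fin 2) F where
  toFun x := ⟨!![(x.1 : F), 0; 0, (x.2 : F)], !![((x.1⁻¹ : Fˣ) : F), 0; 0, ((x.2⁻¹ : Fˣ) : F)],
    by ext i j; fin_cases i <;> fin_cases j <;> simp [Matrix.mul_apply],
    by ext i j; fin_cases i <;> fin_cases j <;> simp [Matrix.mul_apply]⟩
  map_one' := by ext i j; fin_cases i <;> fin_cases j <;> simp
  map_mul' x y := by ext i j; fin_cases i <;> fin_cases j <;> simp [Matrix.mul_apply]

theorem coe_Δ (a b : Fˣ) :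
    ((Δ (a, b) : GL (Fin 2) F) : Matrix (Fin 2) (Fin 2) F) = !![(a : F), 0; 0, (b : F)] := rfl

theorem Δ_injective : Function.Injective (Δ (F := F)) := by
  rintro ⟨a, b⟩ ⟨c, d⟩ h
  have h0 := congrArg (fun g : GL (Fin 2) F => (g : Matrix (Fin 2) (Fin 2) F) 0 0) h
  have h1 := congrArg (fun g : GL (Fin 2) F => (g : Matrix (Fin 2) (Fin 2) F) 1 1) h
  simp [coe_Δ] at h0 h1
  rw [Units.ext h0, Units.ext h1]

/-- The antidiagonal involution. -/
def swap : GL (Fin 2) F :=
  ⟨!![0, 1; 1, 0], !![0, 1; 1, 0],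
    by ext i j; fin_cases i <;> fin_cases j <;> simp [Matrix.mul_apply],
    by ext i j; fin_cases i <;> fin_cases j <;> simp [Matrix.mul_apply]⟩

theorem coe_swap : ((swap : GL (Fin 2) F) : Matrix (Fin 2) (Fin 2) F) = !![0, 1; 1, 0] := rfl

theorem swap_mul_swap : (swap : GL (Fin 2) F) * swap = 1 := by
  ext i j
  fin_cases i <;> fin_cases j <;> simp [coe_swap, Matrix.mul_apply]

theorem swap_inv : (swap : GL (Fin 2) F)⁻¹ = swap := inv_eq_of_mul_eq_one_right swap_mul_swap

theorem swap_conj_Δ (a b : Fˣ) :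
    swap * Δ (a, b) * (swap : GL (Fin 2) F)⁻¹ = Δ (b, a) := by
  rw [swap_inv]
  ext i j
  fin_cases i <;> fin_cases j <;> simp [coe_swap, coe_Δ, Matrix.mul_apply]

theorem swap_ne_Δ (a b : Fˣ) : (swap : GL (Fin 2) F) ≠ Δ (a, b) := by
  intro h
  have := congrArg (fun g : GL (Fin 2) F => (g : Matrix (Fin 2) (Fin 2) F) 0 1) h
  simp [coe_swap, coe_Δ] at this

theorem det_Δ (a b : Fˣ) : Matrix.GeneralLinearGroup.det (Δ (a, b)) = a * b := by
  ext
  simp [coe_Δ, Matrix.det_fin_two]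

/-- The inclusion of `SL(2,F)`. -/
abbrev inc : SL(2, F) →* GL (Fin 2) F := Matrix.SpecialLinearGroup.toGL

theorem inc_injective : Function.Injective (inc (F := F)) := fun g h e =>
  Subtype.ext (congrArg (fun u : GL (Fin 2) F => (u : Matrix (Fin 2) (Fin 2) F)) e)

theorem exists_inc_of_det {g : GL (Fin 2) F} (h : Matrix.GeneralLinearGroup.det g = 1) :
    ∃ a : SL(2, F), inc a = g :=
  ⟨⟨g, congrArg Units.val h⟩, Units.ext rfl⟩

theorem det_inc (a : SL(2, F)) : Matrix.GeneralLinearGroup.det (inc a) = 1 :=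
  Units.ext a.2

variable [Fintype F]

theorem exists_sylow (hodd : Odd (Fintype.card F)) :
    ∃ P : Sylow 2 (GL (Fin 2) F), swap ∈ (P : Subgroup (GL (Fin 2) F)) ∧
      (∀ a b : Fˣ, (∃ k : ℕ, orderOf a = 2 ^ k) → (∃ k : ℕ, orderOf b = 2 ^ k) →
        Δ (a, b) ∈ (P : Subgroup (GL (Fin 2) F))) := by
  have : Fact (Nat.Prime 2) := ⟨Nat.prime_two⟩
  obtain ⟨U⟩ : Nonempty (Sylow 2 Fˣ) := inferInstance
  let A : Subgroup (GL (Fin 2) F) := ((U : Subgroup Fˣ).prod (U : Subgroup Fˣ)).map Δ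
  have hA : IsPGroup 2 A := by
    obtain ⟨k, hk⟩ := U.isPGroup'.exists_card_eq
    refine IsPGroup.map (IsPGroup.of_card (n := k + k) ?_) _
    rw [Nat.card_congr (Subgroup.prodEquiv (U : Subgroup Fˣ) (U : Subgroup Fˣ)).toEquiv, Nat.card_prod, hk,
      pow_add]
  have hU : ∀ a : Fˣ, (∃ k : ℕ, orderOf a = 2 ^ k) → a ∈ (U : Subgroup Fˣ) := by
    rintro a ⟨k, hk⟩
    have h1 : IsPGroup 2 (Subgroup.zpowers a) := IsPGroup.of_card (by rw [Nat.card_zpowers, hk])
    rw [← U.is_maximal' (h1.to_sup_of_normal_right U.isPGroup') le_sup_right]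
    exact Subgroup.mem_sup_left (Subgroup.mem_zpowers a)
  have hw : IsPGroup 2 (Subgroup.zpowers (swap : GL (Fin 2) F)) := by
    have h1 : orderOf (swap : GL (Fin 2) F) ∣ 2 := orderOf_dvd_of_pow_eq_one (by rw [sq, swap_mul_swap])
    obtain ⟨k, -, hk⟩ := (Nat.dvd_prime_pow Nat.prime_two).1 (by rwa [pow_one] : orderOf (swap : GL (Fin 2) F) ∣ 2 ^ 1)
    exact IsPGroup.of_card (by rw [Nat.card_zpowers, hk])
  have hnorm : Subgroup.zpowers (swap : GL (Fin 2) F) ≤ Subgroup.normalizer (A : Set (GL (Fin 2) F)) := by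
    rw [Subgroup.zpowers_le]
    refine Subgroup.mem_normalizer_fintype ?_
    rintro _ ⟨⟨a, b⟩, ⟨ha, hb⟩, rfl⟩
    exact ⟨(b, a), ⟨hb, ha⟩, (swap_conj_Δ a b).symm⟩
  obtain ⟨P, hP⟩ := (IsPGroup.to_sup_of_normal_left' hA hw hnorm).exists_le_sylow
  exact ⟨P, hP (Subgroup.mem_sup_right (Subgroup.mem_zpowers _)), fun a b ha hb =>
    hP (Subgroup.mem_sup_left ⟨(a, b), ⟨hU a ha, hU b hb⟩, rfl⟩)⟩

theorem inc_preimage_quaternion (hodd : Odd (Fintype.card F)) (P : Sylow 2 (GL (Fin 2) F)) :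
    ∃ m : ℕ, 1 ≤ m ∧
      Nonempty ((P : Subgroup (GL (Fin 2) F)).comap inc ≃* QuaternionGroup (2 ^ m)) := by
  have : Fact (Nat.Prime 2) := ⟨Nat.prime_two⟩
  have hrange : (inc (F := F)).range = (Matrix.GeneralLinearGroup.det : GL (Fin 2) F →* Fˣ).ker := by
    ext g
    exact ⟨fun ⟨a, ha⟩ => ha ▸ det_inc a, fun h => exists_inc_of_det h⟩
  have hidx : ¬ 2 ∣ ((P : Subgroup (GL (Fin 2) F)).comap inc).index := by
    rw [Subgroup.index_comap, hrange]
    exact CfsgLib.Transfer.not_dvd_relIndex_of_normal P _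
  exact Linear.sylow_two_quaternion hodd
    ((P.isPGroup'.comap_of_injective inc inc_injective).toSylow hidx)

theorem card_two_part (hodd : Odd (Fintype.card F)) (n : ℕ) (U : Sylow 2 Fˣ)
    (hn : Nat.card (U : Subgroup Fˣ) = 2 ^ n) :
    ∃ o : ℕ, ¬ 2 ∣ o ∧ Fintype.card F - 1 = 2 ^ n * o := by
  have : Fact (Nat.Prime 2) := ⟨Nat.prime_two⟩
  refine ⟨(U : Subgroup Fˣ).index, U.not_dvd_index, ?_⟩
  rw [← Linear.card_units, ← Subgroup.card_mul_index (U : Subgroup Fˣ), hn]

/-- The automorphism group of a Sylow 2-subgroup of `GL(2,q)`, `q` odd, is a 2-group. -/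
theorem isPGroup_mulAut (hodd : Odd (Fintype.card F)) (P : Sylow 2 (GL (Fin 2) F))
    (hw : swap ∈ (P : Subgroup (GL (Fin 2) F)))
    (hΔ : ∀ a b : Fˣ, (∃ k : ℕ, orderOf a = 2 ^ k) → (∃ k : ℕ, orderOf b = 2 ^ k) →
      Δ (a, b) ∈ (P : Subgroup (GL (Fin 2) F))) :
    IsPGroup 2 (MulAut (P : Subgroup (GL (Fin 2) F))) := by
  have : Fact (Nat.Prime 2) := ⟨Nat.prime_two⟩
  obtain ⟨q', hq'⟩ := hodd
  have hodd : Odd (Fintype.card F) := ⟨q', hq'⟩
  have h2 : (2 : F) ≠ 0 := Linear.two_ne_zero_of_odd hodd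
  have hq3 : 3 ≤ Fintype.card F := by
    have := Fintype.one_lt_card (α := F)
    omega
  obtain ⟨U⟩ : Nonempty (Sylow 2 Fˣ) := inferInstance
  obtain ⟨n, hn⟩ := U.isPGroup'.exists_card_eq
  obtain ⟨o, ho, hqo⟩ := card_two_part hodd n U hn
  have hUord : ∀ a ∈ (U : Subgroup Fˣ), ∃ k : ℕ, orderOf a = 2 ^ k := by
    intro a ha
    obtain ⟨k, -, hk⟩ := (Nat.dvd_prime_pow Nat.prime_two).1
      (hn ▸ Subgroup.orderOf_dvd_natCard (U : Subgroup Fˣ) ha)
    exact ⟨k, hk⟩
  obtain ⟨t₀, ht₀⟩ := IsCyclic.exists_generator (α := (U : Subgroup Fˣ))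
  have hot : orderOf (t₀ : Fˣ) = 2 ^ n := by
    rw [Subgroup.orderOf_coe, orderOf_eq_card_of_forall_mem_zpowers ht₀, hn]
  have hcardGL : Nat.card (GL (Fin 2) F) =
      Fintype.card F * (Fintype.card F - 1) * (Fintype.card F ^ 2 - 1) := Linear.card_GL_two
  have hsq : Fintype.card F ^ 2 - 1 = (Fintype.card F + 1) * (Fintype.card F - 1) := by
    rw [← Nat.sq_sub_sq, one_pow]
  have hP2 : IsPGroup 2 (P : Subgroup (GL (Fin 2) F)) := P.isPGroup'
  have hcardP : ∀ (j o' : ℕ), ¬ 2 ∣ o' → Nat.card (GL (Fin 2) F) = 2 ^ j * o' →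
      Nat.card (P : Subgroup (GL (Fin 2) F)) = 2 ^ j := by
    intro j o' ho' hj
    have h1 := P.card_eq_multiplicity
    rw [hj, Nat.factorization_mul (pow_ne_zero _ two_ne_zero) (fun h => ho' (by rw [h]; exact dvd_zero 2)),
      Nat.prime_two.factorization_pow, Finsupp.add_apply, Finsupp.single_eq_same,
      Nat.factorization_eq_zero_of_not_dvd ho', add_zero] at h1
    exact h1
  by_cases h4 : Fintype.card F % 4 = 1
  · -- wreathed
    have hn2 : 2 ≤ n := by
      by_contra hlt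
      have : n = 0 ∨ n = 1 := by omega
      rcases this with rfl | rfl
      · omega
      · obtain ⟨c, hc⟩ : Odd o := Nat.not_even_iff_odd.1 fun he => ho he.two_dvd
        omega
    have hw' : Cfsg.IsWreathed (P : Subgroup (GL (Fin 2) F)) := by
      refine ⟨n, hn2, hcardP (2 * n + 1) (Fintype.card F * o * (((Fintype.card F + 1) / 2) * o)) ?_ ?_,
        ⟨Δ (t₀, 1), hΔ _ _ (hUord _ t₀.2) ⟨0, by simp⟩⟩,
        ⟨Δ (1, t₀), hΔ _ _ ⟨0, by simp⟩ (hUord _ t₀.2)⟩, ⟨swap, hw⟩, ?_, ?_, ?_, ?_, ?_⟩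
      · have hodd1 : Odd ((Fintype.card F + 1) / 2) := by rw [Nat.odd_iff]; omega
        have hoddo : Odd o := Nat.not_even_iff_odd.1 fun he => ho he.two_dvd
        have := (hodd.mul hoddo).mul (hodd1.mul hoddo)
        exact fun hd => Nat.not_even_iff_odd.2 this (even_iff_two_dvd.2 hd)
      · rw [hcardGL, hsq, hqo]
        have he : Fintype.card F + 1 = 2 * ((Fintype.card F + 1) / 2) := by omega
        rw [show Fintype.card F + 1 = 2 * ((Fintype.card F + 1) / 2) from he]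
        rw [← he]
        conv_lhs => rw [he]
        ring
      · rw [← Subgroup.orderOf_coe, orderOf_injective Δ Δ_injective, Prod.orderOf, hot, orderOf_one,
          Nat.lcm_one_right]
      · refine Subtype.ext ?_
        rw [Subgroup.coe_mul, Subgroup.coe_mul, ← map_mul, ← map_mul]
        simp [mul_comm]
      · rw [eq_bot_iff]
        rintro x ⟨⟨i, hi⟩, ⟨j, hj⟩⟩
        rw [Subgroup.mem_bot]
        have hi' := congrArg Subtype.val hi
        have hj' := congrArg Subtype.val hj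
        simp only [Subgroup.coe_zpow, ← map_zpow] at hi' hj'
        have h := congrArg Prod.fst (Δ_injective (hi'.trans hj'.symm))
        simp only [Prod.pow_fst, _root_.one_zpow] at h
        refine Subtype.ext ?_
        rw [Subgroup.coe_one, ← hi', map_eq_one_iff Δ Δ_injective]
        exact Prod.ext h (by simp)
      · rw [← Subgroup.orderOf_coe]
        refine orderOf_eq_prime (by rw [sq, swap_mul_swap]) fun h => ?_
        exact swap_ne_Δ 1 1 (h.trans (map_one Δ).symm)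
      · exact Subtype.ext (swap_conj_Δ _ _)
    obtain ⟨k, -, hk, -⟩ := id hw'
    by_contra hA
    have hA' : ¬ IsPGroup 2 (MulAut (⊤ : Subgroup (P : Subgroup (GL (Fin 2) F)))) := fun h =>
      hA (h.of_equiv (MulAut.congr Subgroup.topEquiv))
    have h1 := (Cfsg.Agent.S1202.result hw' k hk ⊤ le_top hA').1
    have h3 : (⊤ : Subgroup (P : Subgroup (GL (Fin 2) F))).relIndex
        (Subgroup.normalizer ((⊤ : Subgroup (P : Subgroup (GL (Fin 2) F))) : Set _)) = 1 :=
      Subgroup.relIndex_eq_one.2 le_top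
    omega
  · -- semidihedral
    have hn1 : n = 1 := by
      rcases n with _ | _ | n
      · simp at hqo; omega
      · rfl
      · rw [show n + 1 + 1 = n + 2 from rfl, pow_add] at hqo
        have : 4 ∣ Fintype.card F - 1 := ⟨2 ^ n * o, by rw [hqo]; ring⟩
        omega
    have hpm : ∀ a : Fˣ, (∃ k : ℕ, orderOf a = 2 ^ k) → a = 1 ∨ a = -1 := by
      rintro a ⟨k, hk⟩
      have hd : 2 ^ k ∣ Fintype.card F - 1 := by
        rw [← hk, ← Linear.card_units]
        exact orderOf_dvd_natCard a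
      have hk1 : k ≤ 1 := by
        by_contra hk1
        have h44 : 4 ∣ Fintype.card F - 1 :=
          (pow_dvd_pow 2 (show 2 ≤ k by omega)).trans hd
        omega
      have ha : (a : F) ^ 2 = 1 := by
        rw [← Units.val_pow_eq_pow_val, orderOf_dvd_iff_pow_eq_one.1
          (show orderOf a ∣ 2 by rw [hk]; simpa using pow_dvd_pow 2 hk1), Units.val_one]
      rcases sq_eq_one_iff.1 ha with h | h
      · exact Or.inl (Units.ext h)
      · exact Or.inr (Units.ext (by simpa using h))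
    have hm1 : ∃ k : ℕ, orderOf (-1 : Fˣ) = 2 ^ k := by
      obtain ⟨k, -, hk⟩ := (Nat.dvd_prime_pow Nat.prime_two).1
        (orderOf_dvd_of_pow_eq_one (by simp : (-1 : Fˣ) ^ (2 ^ 1) = 1))
      exact ⟨k, hk⟩
    have hone : ∃ k : ℕ, orderOf (1 : Fˣ) = 2 ^ k := ⟨0, by simp⟩
    have hne : (-1 : Fˣ) ≠ 1 := fun h => h2 (by
      have := congrArg Units.val h
      simp at this
      linear_combination -this)
    let s : (P : Subgroup (GL (Fin 2) F)) := ⟨Δ (-1, 1), hΔ _ _ hm1 hone⟩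
    have hs : orderOf s = 2 := by
      refine orderOf_eq_prime (Subtype.ext ?_) fun h => hne ?_
      · rw [Subgroup.coe_pow, ← map_pow]
        exact (congrArg Δ (Prod.ext (by simp) (by simp) : ((-1, 1) : Fˣ × Fˣ) ^ 2 = 1)).trans (map_one Δ)
      · exact congrArg Prod.fst (Δ_injective ((congrArg Subtype.val h).trans (map_one Δ).symm))
    have hC : Nat.card (Subgroup.centralizer ({s} : Set (P : Subgroup (GL (Fin 2) F)))) = 4 := by
      let f : Fin 2 → Fˣ := ![1, -1]
      have hf : ∀ i, ∃ k : ℕ, orderOf (f i) = 2 ^ k := fun i => by fin_cases i <;> [exact hone; exact hm1]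
      have hfi : Function.Injective f := fun i j h => by
        fin_cases i <;> fin_cases j <;> first | rfl | exact absurd h hne | exact absurd h.symm hne
      let g : Fin 2 × Fin 2 → Subgroup.centralizer ({s} : Set (P : Subgroup (GL (Fin 2) F))) := fun x =>
        ⟨⟨Δ (f x.1, f x.2), hΔ _ _ (hf _) (hf _)⟩, Subgroup.mem_centralizer_singleton_iff.2
          (Subtype.ext (by
            show Δ (f x.1, f x.2) * Δ (-1, 1) = Δ (-1, 1) * Δ (f x.1, f x.2)
            rw [← map_mul, ← map_mul, mul_comm]))⟩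
      rw [← Nat.card_eq_of_bijective g ⟨?_, ?_⟩, Nat.card_eq_fintype_card, Fintype.card_prod]
      · rfl
      · intro x y h
        have h' : (f x.1, f x.2) = (f y.1, f y.2) :=
          Δ_injective (congrArg Subtype.val (congrArg Subtype.val h) :)
        exact Prod.ext (hfi (congrArg Prod.fst h')) (hfi (congrArg Prod.snd h'))
      · rintro ⟨⟨x, hx⟩, hxs⟩
        have hc : x * Δ (-1, 1) = Δ (-1, 1) * x :=
          congrArg Subtype.val (Subgroup.mem_centralizer_singleton_iff.1 hxs)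
        have hc' := congrArg (fun u : GL (Fin 2) F => (u : Matrix (Fin 2) (Fin 2) F)) hc
        simp only [Units.val_mul, coe_Δ] at hc'
        have e01 := congrFun (congrFun hc' 0) 1
        have e10 := congrFun (congrFun hc' 1) 0
        simp [Matrix.mul_apply, Fin.sum_univ_two] at e01 e10
        have h01 : (x : Matrix (Fin 2) (Fin 2) F) 0 1 = 0 := by
          have : (2 : F) * (x : Matrix (Fin 2) (Fin 2) F) 0 1 = 0 := by linear_combination e01
          simpa [h2] using this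
        have h10 : (x : Matrix (Fin 2) (Fin 2) F) 1 0 = 0 := by
          have : (2 : F) * (x : Matrix (Fin 2) (Fin 2) F) 1 0 = 0 := by linear_combination -e10
          simpa [h2] using this
        have hdet : IsUnit (x : Matrix (Fin 2) (Fin 2) F).det :=
          (Matrix.GeneralLinearGroup.det x).isUnit
        rw [Matrix.det_fin_two, h01, zero_mul, sub_zero, IsUnit.mul_iff] at hdet
        have hxΔ : x = Δ (hdet.1.unit, hdet.2.unit) := by
          ext i j
          fin_cases i <;> fin_cases j <;> simp [coe_Δ, h01, h10]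
        obtain ⟨k, hk⟩ := hP2 ⟨x, hx⟩
        have hk' : x ^ 2 ^ k = 1 := congrArg Subtype.val hk
        rw [hxΔ, ← map_pow, map_eq_one_iff Δ Δ_injective, Prod.pow_mk, Prod.mk_eq_one] at hk'
        have hord : ∀ a : Fˣ, a ^ 2 ^ k = 1 → ∃ i : Fin 2, f i = a := by
          intro a ha
          obtain ⟨l, -, hl⟩ := (Nat.dvd_prime_pow Nat.prime_two).1 (orderOf_dvd_of_pow_eq_one ha)
          rcases hpm a ⟨l, hl⟩ with rfl | rfl
          · exact ⟨0, rfl⟩
          · exact ⟨1, rfl⟩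
        obtain ⟨i, hi⟩ := hord _ hk'.1
        obtain ⟨j, hj⟩ := hord _ hk'.2
        refine ⟨(i, j), Subtype.ext (Subtype.ext ?_)⟩
        show Δ (f i, f j) = x
        rw [hi, hj, ← hxΔ]
    obtain ⟨j, hj⟩ := hP2.exists_card_eq
    have h16 : 16 ≤ Nat.card (P : Subgroup (GL (Fin 2) F)) := by
      have hd : 2 ^ 4 ∣ Nat.card (GL (Fin 2) F) := by
        rw [hcardGL, hsq]
        have h8 : 4 ∣ Fintype.card F + 1 := by omega
        obtain ⟨c, hc⟩ := h8
        refine ⟨Fintype.card F * o * (c * o), ?_⟩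
        rw [hc, hqo, hn1]
        ring
      exact Nat.le_of_dvd Nat.card_pos (P.pow_dvd_card_of_pow_dvd_card hd)
    refine Cfsg.Agent.S3116.result hP2 ?_
    rcases CfsgLib.Inv53.dihedral_quasi_or_four hP2 s hs hC with ⟨m, ⟨e⟩⟩ | h | h
    · refine Or.inl ⟨m, ?_, ⟨e⟩⟩
      have := Nat.card_congr e.toEquiv
      rw [DihedralGroup.nat_card] at this
      omega
    · exact Or.inr h
    · omega

end CfsgLib.FusionSub.GLTwo
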