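import Cfsg.Agent.FusionSub.GUTwoSylow

/-!
The 2-fusion system of `PSU(3,q)`, `q` odd, is simple.
-/

set_option autoImplicit false

namespace CfsgLib.FusionSub

open Cfsg Cfsg.FusionSystem CfsgLib.Fusion Matrix CfsgLib.Forms
open scoped MatrixGroups

variable {F : Type*} [Field F] [Fintype F] {q : ℕ}

theorem embThree_mem_SU (hF : Fintype.card F = q ^ 2) (g : Cfsg.GU 2 F q) :
    embThree g.1 ∈ Cfsg.SU 3 F q := by
  obtain ⟨σ, hσ, -⟩ := CfsgLib.FieldEmb.exists_conj hF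
  have hd := GUTwo.mem_normOne.1 (GUTwo.det_mem_normOne hF g)
  rw [← hσ, Matrix.GeneralLinearGroup.val_det_apply] at hd
  have hd0 : g.1.1.det ≠ 0 := (Matrix.GeneralLinearGroup.det g.1).ne_zero
  have hdi : (g.1.1.det)⁻¹ * σ (g.1.1.det)⁻¹ = 1 := by
    rw [map_inv₀, ← mul_inv, hd, inv_one]
  intro u v
  show Cfsg.hermForm 3 F q ((embThree g.1).1 *ᵥ u) ((embThree g.1).1 *ᵥ v) = _
  have h := (GUTwo.mem_GU_two_iff.1 g.2) ![u 0, u 1] ![v 0, v 1]
  simp [Cfsg.hermForm, Matrix.mulVec, dotProduct, Matrix.vecHead, Matrix.vecTail, Fin.sum_univ_two,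
    ← hσ] at h
  simp [Cfsg.hermForm, coe_embThree, Matrix.mulVec, dotProduct, Matrix.vecHead, Matrix.vecTail,
    Fin.sum_univ_three, ← hσ]
  rw [map_inv₀] at hdi
  linear_combination h + (u 2 * σ (v 2)) * hdi

omit [Fintype F] in
theorem permThree_mem_SU (hodd : q % 2 = 1) : (permThree : SL(3, F)) ∈ Cfsg.SU 3 F q := by
  intro u v
  show Cfsg.hermForm 3 F q ((permThree : SL(3, F)).1 *ᵥ u) ((permThree : SL(3, F)).1 *ᵥ v) = _
  simp [Cfsg.hermForm, coe_permThree, Matrix.mulVec, dotProduct, Matrix.vecHead, Matrix.vecTail,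
    Fin.sum_univ_three]
  rw [Odd.neg_pow (Nat.odd_iff.2 hodd)]
  ring

/-- `g ↦ diag(g, det g⁻¹)` into `SU(3,q)`. -/
def embSU (hF : Fintype.card F = q ^ 2) : Cfsg.GU 2 F q →* Cfsg.SU 3 F q :=
  (embThree.comp (Cfsg.GU 2 F q).subtype).codRestrict _ (embThree_mem_SU hF)

theorem su_three_card_odd_index (hF : Fintype.card F = q ^ 2) (hodd : q % 2 = 1) :
    ∃ o : ℕ, ¬ 2 ∣ o ∧ Nat.card (Cfsg.SU 3 F q) = Nat.card (Cfsg.GU 2 F q) * o := by
  obtain ⟨k, hk⟩ := Nat.odd_iff.2 hodd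
  refine ⟨q ^ 2 * (4 * k ^ 2 + 2 * k + 1), ?_, ?_⟩
  · have h : Odd (q ^ 2 * (4 * k ^ 2 + 2 * k + 1)) :=
      Odd.mul (Odd.pow ⟨k, hk⟩) ⟨2 * k ^ 2 + k, by ring⟩
    exact fun hd => Nat.not_even_iff_odd.2 h (even_iff_two_dvd.2 hd)
  · refine Nat.eq_of_mul_eq_mul_left (show 0 < q + 1 by omega) ?_
    rw [Forms4.card_SU_mul_GU hF (by norm_num), card_GU hF, card_GU hF]
    have e3 : u q 3 = (q + 1) * (4 * k ^ 2 + 2 * k + 1) := by
      rw [u, if_neg (by decide), hk]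
      ring
    simp only [Finset.sum_range_succ, Finset.sum_range_zero, Finset.prod_range_succ,
      Finset.prod_range_zero, zero_add, one_mul, Nat.reduceAdd, e3]
    ring

theorem exists_transport_SU (hF : Fintype.card F = q ^ 2) (hodd : q % 2 = 1)
    (P : Sylow 2 (Cfsg.GU 2 F q)) (S : Sylow 2 (Cfsg.PSU 3 F q)) :
    ∃ k : Cfsg.SU 3 F q →* Cfsg.PSU 3 F q,
      Set.InjOn (k.comp (embSU hF)) (P : Subgroup (Cfsg.GU 2 F q)) ∧
      (P : Subgroup (Cfsg.GU 2 F q)).map (k.comp (embSU hF)) = (S : Subgroup _) := by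
  have : Fact (Nat.Prime 2) := ⟨Nat.prime_two⟩
  set mk : Cfsg.SU 3 F q →* Cfsg.PSU 3 F q := QuotientGroup.mk' _
  have hinj : ∀ g ∈ (P : Subgroup (Cfsg.GU 2 F q)), mk (embSU hF g) = 1 → g = 1 := by
    intro g hg h
    obtain ⟨r, hr⟩ := Forms4.exists_scalar_of_mem_center hF (by norm_num)
      ((QuotientGroup.eq_one_iff _).1 h)
    have hc : embThree g.1 ∈ Subgroup.center SL(3, F) := by
      have hr' : (embThree g.1).1 = r • 1 := hr
      have hd := (embThree g.1).2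
      rw [hr', Matrix.det_smul, Matrix.det_one, mul_one] at hd
      rw [Matrix.SpecialLinearGroup.mem_center_iff]
      exact ⟨r, hd, by rw [hr', Matrix.scalar_apply, Matrix.smul_one_eq_diagonal]⟩
    have h3 : g ^ 3 = 1 := Subtype.ext (by rw [Subgroup.coe_pow]; exact embThree_ker hc)
    obtain ⟨j, hj⟩ := P.isPGroup' ⟨g, hg⟩
    have hj' : g ^ 2 ^ j = 1 := congrArg Subtype.val hj
    have := pow_gcd_eq_one.2 ⟨h3, hj'⟩
    rwa [Nat.Coprime.pow_right _ (by norm_num : Nat.Coprime 3 2), pow_one] at this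
  have hinjOn : Set.InjOn (mk.comp (embSU hF)) (P : Subgroup (Cfsg.GU 2 F q)) := fun x hx y hy h =>
    inv_mul_eq_one.1 (hinj _ (mul_mem (inv_mem hx) hy) (by
      show (mk.comp (embSU hF)) (x⁻¹ * y) = 1
      rw [map_mul, map_inv, h, inv_mul_cancel]))
  let R := (P : Subgroup (Cfsg.GU 2 F q)).map (mk.comp (embSU hF))
  have hcard : Nat.card R = Nat.card (P : Subgroup (Cfsg.GU 2 F q)) :=
    (Nat.card_congr (Equiv.ofBijective
      (fun x : (P : Subgroup (Cfsg.GU 2 F q)) => (⟨(mk.comp (embSU hF)) x, x, x.2, rfl⟩ : R))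
      ⟨fun x y h => Subtype.ext (hinjOn x.2 y.2 (congrArg Subtype.val h)),
        by rintro ⟨_, x, hx, rfl⟩; exact ⟨⟨x, hx⟩, rfl⟩⟩)).symm
  obtain ⟨o, ho, hcardSU⟩ := su_three_card_odd_index hF hodd
  have hidx : ¬ 2 ∣ R.index := by
    intro h
    have h1 : R.index * Nat.card R ∣ Nat.card (Cfsg.SU 3 F q) := by
      rw [Subgroup.index_mul_card,
        Subgroup.card_eq_card_quotient_mul_card_subgroup (Subgroup.center (Cfsg.SU 3 F q))]
      exact dvd_mul_right _ _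
    rw [hcard, hcardSU, ← Subgroup.index_mul_card (P : Subgroup (Cfsg.GU 2 F q)),
      show (P : Subgroup (Cfsg.GU 2 F q)).index * Nat.card (P : Subgroup (Cfsg.GU 2 F q)) * o =
        ((P : Subgroup (Cfsg.GU 2 F q)).index * o) * Nat.card (P : Subgroup (Cfsg.GU 2 F q)) by ring]
      at h1
    have h2 := h.trans (Nat.dvd_of_mul_dvd_mul_right Nat.card_pos h1)
    rcases Nat.prime_two.dvd_mul.1 h2 with h3 | h3
    · exact P.not_dvd_index h3
    · exact ho h3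
  obtain ⟨a, ha⟩ := MulAction.exists_smul_eq (Cfsg.PSU 3 F q)
    ((P.isPGroup'.map _ : IsPGroup 2 R).toSylow hidx) S
  refine ⟨(MulAut.conj a).toMonoidHom.comp mk, fun x hx y hy h => hinjOn hx hy
    ((MulAut.conj a).injective h), ?_⟩
  rw [← ha, Sylow.coe_subgroup_smul, MonoidHom.comp_assoc, ← Subgroup.map_map]
  rfl

theorem isSimple_PSU_three (hF : Fintype.card F = q ^ 2) (hodd : q % 2 = 1)
    (S : Sylow 2 (Cfsg.PSU 3 F q)) :
    (groupFusionSystem (S : Subgroup (Cfsg.PSU 3 F q))).IsSimple 2 := by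
  have : Fact (Nat.Prime 2) := ⟨Nat.prime_two⟩
  obtain ⟨P, hw, hΔ⟩ := GUTwo.exists_sylow hF
  obtain ⟨k, hinj, hmap⟩ := exists_transport_SU hF hodd P S
  set j := k.comp (embSU hF) with hj
  have hjS : ∀ x ∈ (P : Subgroup (Cfsg.GU 2 F q)), j x ∈ (S : Subgroup _) := fun x hx =>
    hmap ▸ ⟨x, hx, rfl⟩
  have hoddF : Odd (Fintype.card F) := by rw [hF]; exact (Nat.odd_iff.2 hodd).pow
  have h2 : (2 : F) ≠ 0 := Linear.two_ne_zero_of_odd hoddF
  have hone : ∃ l : ℕ, orderOf (1 : Fˣ) = 2 ^ l := ⟨0, by simp⟩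
  have hm1 : ∃ l : ℕ, orderOf (-1 : Fˣ) = 2 ^ l := by
    obtain ⟨l, -, hl⟩ := (Nat.dvd_prime_pow Nat.prime_two).1
      (orderOf_dvd_of_pow_eq_one (by simp : (-1 : Fˣ) ^ (2 ^ 1) = 1))
    exact ⟨l, hl⟩
  have hn1 : (1 : Fˣ) ∈ GUTwo.normOne F q := one_mem _
  have hnm := GUTwo.neg_one_mem_normOne (F := F) hodd
  let wU : Cfsg.GU 2 F q := ⟨GLTwo.swap, GUTwo.swap_mem⟩
  let sU : Cfsg.GU 2 F q := ⟨GLTwo.Δ (-1, 1), GUTwo.Δ_mem hF hnm hn1⟩
  let zU : Cfsg.GU 2 F q := ⟨GLTwo.Δ (-1, -1), GUTwo.Δ_mem hF hnm hnm⟩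
  have hs : sU ∈ (P : Subgroup (Cfsg.GU 2 F q)) := hΔ _ _ hnm hn1 hm1 hone
  let e : (P : Subgroup (Cfsg.GU 2 F q)) ≃* (S : Subgroup (Cfsg.PSU 3 F q)) :=
    MulEquiv.ofBijective
      ((j.comp (P : Subgroup (Cfsg.GU 2 F q)).subtype).codRestrict _ fun x => hjS x x.2)
      ⟨fun x y h => Subtype.ext (hinj x.2 y.2 (congrArg Subtype.val h)), fun y => by
        obtain ⟨x, hx, hxy⟩ := hmap.ge y.2
        exact ⟨⟨x, hx⟩, Subtype.ext hxy⟩⟩
  have hne : (S : Subgroup (Cfsg.PSU 3 F q)) ≠ ⊥ := by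
    intro h
    have h1 := hjS _ hw
    rw [h, Subgroup.mem_bot, ← map_one j] at h1
    exact GLTwo.swap_ne_Δ 1 1
      ((congrArg Subtype.val (hinj hw (one_mem _) h1)).trans (map_one GLTwo.Δ).symm)
  refine isSimple_of_stronglyClosed (isSaturated_groupFusion S) hne
    (autGroup_eq_Inn_of_isPGroup S.isPGroup' (isSaturated_groupFusion S)
      ((GUTwo.isPGroup_mulAut hF hodd P hw hΔ).of_equiv (MulAut.congr e))) fun T hT => ?_
  refine or_iff_not_imp_left.2 fun hT1 => le_antisymm hT.1 ?_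
  have hcl := (FusionSimple.closed_of_stronglyClosed hT).2
  have hconj : ∀ (x y : Cfsg.GU 2 F q) (g : Cfsg.SU 3 F q),
      g.1 * embThree x.1 * g.1⁻¹ = embThree y.1 →
      y ∈ (P : Subgroup (Cfsg.GU 2 F q)) → j x ∈ T → j y ∈ T := by
    intro x y g hg hy hx
    have h1 : k g * j x * (k g)⁻¹ = j y := by
      show k g * k (embSU hF x) * (k g)⁻¹ = k (embSU hF y)
      rw [← map_inv, ← map_mul, ← map_mul]
      exact congrArg k (Subtype.ext hg)
    exact h1 ▸ hcl (j x) hx (k g) (h1.symm ▸ hjS y hy)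
  have hz : j zU ∈ T := by
    set T' := T.subgroupOf (S : Subgroup (Cfsg.PSU 3 F q))
    have hT'n : T'.Normal := ⟨fun n hn g => FusionClosed.conj_mem_stronglyClosed hT g.2 hn⟩
    have : Nontrivial T' := by
      rw [Subgroup.nontrivial_iff_ne_bot, ne_eq, Subgroup.subgroupOf_eq_bot, disjoint_iff,
        inf_eq_left.2 hT.1]
      exact hT1
    have hne := BlocksCharsC.inf_center_ne_bot S.isPGroup' T'
    obtain ⟨l, hl⟩ := (S.isPGroup'.to_subgroup
      (T' ⊓ Subgroup.center (S : Subgroup (Cfsg.PSU 3 F q)))).exists_card_eq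
    have hl0 : l ≠ 0 := fun h => hne (Subgroup.eq_bot_of_card_eq _ (by rw [hl, h, pow_zero]))
    obtain ⟨u, hu⟩ := exists_prime_orderOf_dvd_card'
      (G := ↥(T' ⊓ Subgroup.center (S : Subgroup (Cfsg.PSU 3 F q)))) 2 (hl ▸ dvd_pow_self 2 hl0)
    set a := e.symm u.1 with ha
    have hja : j a.1 = u.1.1 := congrArg Subtype.val (e.apply_symm_apply u.1)
    have hao : orderOf a = 2 := by rw [ha, MulEquiv.orderOf_eq, Subgroup.orderOf_coe, hu]
    have hac : ∀ b : (P : Subgroup (Cfsg.GU 2 F q)), b * a = a * b := fun b => by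
      have h1 := Subgroup.mem_center_iff.1 u.2.2 (e b)
      apply e.injective
      rw [map_mul, map_mul, ha, e.apply_symm_apply]
      exact h1
    have c1 := congrArg (fun b : (P : Subgroup (Cfsg.GU 2 F q)) => b.1.1.1) (hac ⟨_, hs⟩)
    have c2 := congrArg (fun b : (P : Subgroup (Cfsg.GU 2 F q)) => b.1.1.1) (hac ⟨_, hw⟩)
    have hsq := congrArg (fun b : (P : Subgroup (Cfsg.GU 2 F q)) => b.1.1.1)
      (orderOf_dvd_iff_pow_eq_one.1 hao.dvd)
    simp only [sU, Subgroup.coe_mul, Units.val_mul, GLTwo.coe_Δ, GLTwo.coe_swap] at c1 c2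
    simp only [Subgroup.coe_pow, Units.val_pow_eq_pow_val, Subgroup.coe_one, Units.val_one, sq] at hsq
    have e01 := congrFun (congrFun c1 0) 1
    have e10 := congrFun (congrFun c1 1) 0
    have e11 := congrFun (congrFun c2 0) 1
    have s00 := congrFun (congrFun hsq 0) 0
    simp [Matrix.mul_apply, Fin.sum_univ_two] at e01 e10 e11 s00
    have h01 : a.1.1.1 0 1 = 0 := by
      have : (2 : F) * a.1.1.1 0 1 = 0 := by linear_combination -e01
      simpa [h2] using this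
    have h10 : a.1.1.1 1 0 = 0 := by
      have : (2 : F) * a.1.1.1 1 0 = 0 := by linear_combination e10
      simpa [h2] using this
    rw [h01, zero_mul, add_zero, ← sq] at s00
    have hne1 : a.1.1.1 0 0 ≠ 1 := fun h => by
      have : a = 1 := by
        refine Subtype.ext (Subtype.ext (Units.ext ?_))
        ext i j
        fin_cases i <;> fin_cases j <;> simp [h01, h10, e11, h]
      rw [this, orderOf_one] at hao
      omega
    have h00 : a.1.1.1 0 0 = -1 := (sq_eq_one_iff.1 s00).resolve_left hne1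
    have haΔ : a.1 = zU := by
      refine Subtype.ext (Units.ext ?_)
      show a.1.1.1 = !![((-1 : Fˣ) : F), 0; 0, ((-1 : Fˣ) : F)]
      ext i j
      fin_cases i <;> fin_cases j <;> simp [h01, h10, e11, h00]
    rw [← haΔ, hja]
    exact u.2.1
  have hsT : j sU ∈ T := by
    refine hconj zU sU ⟨permThree, permThree_mem_SU hodd⟩ ?_ hs hz
    show permThree * embThree (GLTwo.Δ (-1, -1)) * permThree⁻¹ = _
    rw [permThree_conj]
    simp [sU]
  have hwT : j wU ∈ T := by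
    obtain ⟨c, hc⟩ := GUTwo.exists_swap_conj hF hodd
    refine hconj sU wU (embSU hF c) ?_ hw hsT
    show embThree c.1 * embThree sU.1 * (embThree c.1)⁻¹ = embThree wU.1
    rw [← map_inv, ← map_mul, ← map_mul, hc]
  obtain ⟨m, hm, ⟨eq⟩⟩ := GUTwo.inc_preimage_quaternion hF hodd P
  have : NeZero (2 ^ m) := ⟨pow_ne_zero _ two_ne_zero⟩
  obtain ⟨r, hr⟩ := GUTwo.exists_inc_of_det (g := sU * wU) (by
    show Matrix.GeneralLinearGroup.det (GLTwo.Δ (-1, 1) * GLTwo.swap) = 1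
    refine Units.ext ?_
    simp [GLTwo.coe_Δ, GLTwo.coe_swap, Matrix.det_fin_two])
  have hrT : j (GUTwo.inc r) ∈ T := by rw [hr, map_mul]; exact mul_mem hsT hwT
  have hro : orderOf r = 4 := by
    rw [← orderOf_injective GUTwo.inc GUTwo.inc_injective, hr, ← Subgroup.orderOf_coe]
    show orderOf (GLTwo.Δ (-1, 1) * GLTwo.swap) = 2 ^ (1 + 1)
    have hsq : (GLTwo.Δ (-1, 1) * GLTwo.swap : GL (Fin 2) F) ^ 2 = GLTwo.Δ (-1, -1) := by
      apply Units.ext
      rw [sq, Units.val_mul, Units.val_mul, GLTwo.coe_Δ, GLTwo.coe_Δ, GLTwo.coe_swap]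
      ext i j
      fin_cases i <;> fin_cases j <;> simp [Matrix.mul_apply]
    refine orderOf_eq_prime_pow ?_ ?_
    · rw [pow_one, hsq]
      intro h
      have h' := congrArg Units.val (congrArg Prod.fst (GLTwo.Δ_injective (h.trans (map_one GLTwo.Δ).symm)))
      simp at h'
      exact h2 (by linear_combination -h')
    · rw [show 2 ^ (1 + 1) = 2 * 2 from rfl, pow_mul, hsq, ← map_pow]
      exact (congrArg GLTwo.Δ (Prod.ext (by simp) (by simp) :
        ((-1, -1) : Fˣ × Fˣ) ^ 2 = 1)).trans (map_one GLTwo.Δ)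
  have hQ : ∀ x : Cfsg.SU 2 F q, GUTwo.inc x ∈ (P : Subgroup (Cfsg.GU 2 F q)) →
      j (GUTwo.inc x) ∈ T := by
    have hxa : ∀ i, j (GUTwo.inc (eq.symm (QuaternionGroup.xa i)).1) ∈ T := by
      intro i
      obtain ⟨g, hg⟩ := isConj_iff.1 ((GUTwo.order_four_and_quaternion hF hodd).1 r
        (eq.symm (QuaternionGroup.xa i)).1 hro
        (by rw [Subgroup.orderOf_coe, MulEquiv.orderOf_eq, QuaternionGroup.orderOf_xa]))
      refine hconj _ _ (embSU hF (GUTwo.inc g)) ?_ (eq.symm (QuaternionGroup.xa i)).2 hrT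
      show embThree (GUTwo.inc g).1 * embThree (GUTwo.inc r).1 * (embThree (GUTwo.inc g).1)⁻¹ = _
      rw [← map_inv, ← map_mul, ← map_mul, ← Subgroup.coe_inv, ← Subgroup.coe_mul, ← Subgroup.coe_mul,
        ← map_inv, ← map_mul, ← map_mul, hg]
    intro x hx
    have hxe : x = (eq.symm (eq ⟨x, hx⟩)).1 := by rw [eq.symm_apply_apply]
    rw [hxe]
    generalize eq ⟨x, hx⟩ = w
    cases w with
    | xa i => exact hxa i
    | a l =>
      have h1 : QuaternionGroup.a l = QuaternionGroup.xa 0 *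
          QuaternionGroup.xa (l - ((2 ^ m : ℕ) : ZMod (2 * 2 ^ m))) := by
        rw [QuaternionGroup.xa_mul_xa]
        congr 1
        ring
      rw [h1, map_mul, Subgroup.coe_mul, map_mul, map_mul]
      exact mul_mem (hxa _) (hxa _)
  intro y hy
  obtain ⟨x, hx, rfl⟩ := hmap.ge hy
  set t := Matrix.GeneralLinearGroup.det x.1 with htdef
  obtain ⟨l, hl⟩ : ∃ l, orderOf t = 2 ^ l := by
    obtain ⟨l, hl⟩ := P.isPGroup' ⟨x, hx⟩
    obtain ⟨i, -, hi⟩ := (Nat.dvd_prime_pow Nat.prime_two).1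
      (orderOf_dvd_of_pow_eq_one (show t ^ 2 ^ l = 1 by
        rw [htdef, ← map_pow, show x.1 ^ 2 ^ l = 1 from congrArg Subtype.val (congrArg Subtype.val hl :),
          map_one]))
    exact ⟨i, hi⟩
  have htn : t ∈ GUTwo.normOne F q := GUTwo.det_mem_normOne hF x
  have htinv : ∃ l : ℕ, orderOf t⁻¹ = 2 ^ l := ⟨l, by rw [orderOf_inv]; exact hl⟩
  let tU : Cfsg.GU 2 F q := ⟨GLTwo.Δ (t, 1), GUTwo.Δ_mem hF htn hn1⟩
  let dU : Cfsg.GU 2 F q := ⟨GLTwo.Δ (t, t⁻¹), GUTwo.Δ_mem hF htn (inv_mem htn)⟩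
  obtain ⟨r', hr'⟩ := GUTwo.exists_inc_of_det (g := x * tU⁻¹) (by
    show Matrix.GeneralLinearGroup.det (x.1 * (GLTwo.Δ (t, 1))⁻¹) = 1
    rw [map_mul, map_inv, GLTwo.det_Δ, mul_one, ← htdef, mul_inv_cancel])
  have hqP : GUTwo.inc r' ∈ (P : Subgroup (Cfsg.GU 2 F q)) :=
    hr' ▸ mul_mem hx (inv_mem (hΔ _ _ htn hn1 ⟨l, hl⟩ hone))
  obtain ⟨d, hd⟩ := GUTwo.exists_inc_of_det (g := dU)
    (by show Matrix.GeneralLinearGroup.det (GLTwo.Δ (t, t⁻¹)) = 1
        rw [GLTwo.det_Δ, mul_inv_cancel])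
  have hdT : j dU ∈ T := hd ▸ hQ d (hd ▸ hΔ _ _ htn (inv_mem htn) ⟨l, hl⟩ htinv)
  have htT : j tU ∈ T := by
    refine hconj dU tU ⟨permThree, permThree_mem_SU hodd⟩ ?_ (hΔ _ _ htn hn1 ⟨l, hl⟩ hone) hdT
    show permThree * embThree (GLTwo.Δ (t, t⁻¹)) * permThree⁻¹ = embThree (GLTwo.Δ (t, 1))
    rw [permThree_conj, mul_inv_cancel, inv_one]
  have : x = GUTwo.inc r' * tU := by rw [hr', inv_mul_cancel_right]
  show j x ∈ T
  rw [this, map_mul]
  exact mul_mem (hQ r' hqP) htT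

end CfsgLib.FusionSub
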