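import Cfsg.Prelude.Def_FusionComponents
import Cfsg.Agent.Fusion.NormalSubgroup
import Cfsg.Agent.FusionFactor.Lift
import Cfsg.Agent.FusionFactor.Elementary
import Cfsg.Agent.FusionSub.Generation

/-!
For a saturated system equal to its `p`-residual, the factor system by the centre has trivial centre.
-/

set_option autoImplicit false

namespace CfsgLib.FusionSub

open Cfsg Cfsg.FusionSystem CfsgLib.Fusion
open scoped commutatorElement

variable {Ω : Type*} [Group Ω] {S : Subgroup Ω}

/-- A subgroup of `Z(S)` fixed by all automorphisms in `F` of fully normalized centric radical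
subgroups is central. -/
theorem isCentral_of_fixed [Finite S] {p : ℕ} [Fact p.Prime] (hS : IsPGroup p S)
    {F : FusionSystem S} (hF : F.IsSaturated p) {Y : Subgroup Ω} (hY : Y ≤ S)
    (hYS : ∀ y ∈ Y, ∀ s ∈ S, s * y = y * s)
    (h : ∀ Q : Subgroup Ω, F.IsFullyNormalized Q → F.IsCentric Q → F.IsRadical p Q →
      ∀ α ∈ F.autGroup Q, ∀ x : Q, (x : Ω) ∈ Y → α x = x) : F.IsCentral Y := by
  let E : FusionSystem S :=
    { Hom := fun P => {φ | φ ∈ F.Hom P ∧ ∀ x : P, ((x : Ω) ∈ Y ∨ φ x ∈ Y) → φ x = x}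
      le_of_mem := fun h => F.le_of_mem h.1
      injective_of_mem := fun h => F.injective_of_mem h.1
      conj_mem := fun {P g} hP hg => ⟨F.conj_mem hP hg, fun x hx => by
        show g * x * g⁻¹ = x
        rcases hx with hx | hx
        · rw [hYS _ hx g hg, mul_inv_cancel_right]
        · have h1 : g * (g * x * g⁻¹) = g * x * g⁻¹ * g := hYS _ hx g hg
          rw [inv_mul_cancel_right] at h1
          exact mul_left_cancel h1⟩
      comp_mem := fun {P R φ ψ} hφ hψ hh => ⟨F.comp_mem hφ.1 hψ.1 hh, fun x hx => by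
        show ψ ⟨φ x, hh x⟩ = x
        rcases hx with hx | hx
        · have hx' : φ x ∈ Y := by
            rw [hφ.2 x (Or.inl hx)]
            exact hx
          rw [hψ.2 ⟨φ x, hh x⟩ (Or.inl hx')]
          exact hφ.2 x (Or.inl hx)
        · have h1 : ψ ⟨φ x, hh x⟩ = φ x := hψ.2 ⟨φ x, hh x⟩ (Or.inr hx)
          rw [h1]
          have hx' : φ x ∈ Y := by
            rw [← h1]
            exact hx
          exact hφ.2 x (Or.inr hx')⟩
      inv_mem := by
        rintro P φ ⟨hφ, hfix⟩
        obtain ⟨ψ, hψ, hv⟩ := F.inv_mem hφ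
        refine ⟨ψ, ⟨hψ, ?_⟩, hv⟩
        rintro ⟨_, x, rfl⟩ hy
        rw [hv] at hy ⊢
        exact (hfix x hy.symm).symm }
  have hle : F ≤ E := le_of_autGroups hS hF E fun Q h1 h2 h3 α hα =>
    (mem_autGroup_iff h1.1).2 ⟨(mem_autGroup_iff h1.1).1 hα, fun z hz => by
      rcases hz with hz | hz
      · exact congrArg Subtype.val (h Q h1 h2 h3 α hα z hz)
      · have h4 : α (α z) = α z := h Q h1 h2 h3 α hα (α z) hz
        exact congrArg Subtype.val (α.injective h4)⟩
  exact isCentral_of_forall hS hF hY fun x hx y ⟨φ, hφ, hy⟩ =>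
    hy.symm.trans ((hle _ hφ).2 _ (Or.inl hx))

/-- **The centre of the factor system by the centre is trivial** when the hyperfocal subgroup is
all of `S`. -/
theorem center_factor_eq_bot [Finite S] {p : ℕ} [Fact p.Prime] (hS : IsPGroup p S)
    {F : FusionSystem S} (hF : F.IsSaturated p) (hperf : F.hyperfocalSubgroup p = S)
    (E : FusionSystem (⊤ : Subgroup (↥S ⧸ (F.center).subgroupOf S)))
    (hE : F.IsFactorSystem F.center (QuotientGroup.mk' ((F.center).subgroupOf S)) E) :
    E.center = ⊥ := by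
  have hpr : p.Prime := Fact.out
  set Z := F.center with hZdef
  set θ := QuotientGroup.mk' (Z.subgroupOf S) with hθ
  have hZc : F.IsCentral Z := FusionFactor.isCentral_center F
  have hZcomm : ∀ z ∈ Z, ∀ s ∈ S, s * z = z * s := fun z hz s hs =>
    Subgroup.mem_centralizer_iff.1 (F.center_le_centralizer hz) s hs
  have hfixZ : ∀ {P : Subgroup Ω} {φ : P →* Ω}, φ ∈ F.Hom P → ∀ x : P, (x : Ω) ∈ Z → φ x = x := by
    intro P φ hφ x hx
    obtain ⟨ψ, -, h1, h2⟩ := hZc.2 P φ hφ
    rw [← h1 x]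
    exact h2 ⟨x, hx⟩
  have hZsc : F.StronglyClosed Z := ⟨hZc.1, fun R hR φ hφ x => (hfixZ hφ x (hR x.2)).symm ▸ hR x.2⟩
  obtain ⟨hmor, -, -⟩ := FusionFactor.isSurjectiveMorphism_of_isFactorSystem hS hF hZsc hE
  have hEc : E.IsCentral E.center := FusionFactor.isCentral_center E
  let Y : Subgroup Ω := (E.center.comap θ).map S.subtype
  have hYS : Y ≤ S := Subgroup.map_subtype_le _
  have hmemY : ∀ (y : Ω) (hy : y ∈ S), y ∈ Y ↔ θ ⟨y, hy⟩ ∈ E.center := fun y hy =>
    ⟨fun ⟨s, hs, hsy⟩ => (Subtype.ext hsy : s = ⟨y, hy⟩) ▸ hs, fun h => ⟨⟨y, hy⟩, h, rfl⟩⟩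
  have hθZ : ∀ s : S, θ s = 1 ↔ (s : Ω) ∈ Z := hE.2.1
  have hZY : Z ≤ Y := fun z hz => (hmemY z (hZc.1 hz)).2 (by
    rw [(hθZ ⟨z, hZc.1 hz⟩).2 hz]; exact one_mem _)
  -- every map moves elements of `Y` inside their coset of `Z`
  have hkey : ∀ {P : Subgroup Ω} {φ : P →* Ω}, φ ∈ F.Hom P → ∀ x : P, (x : Ω) ∈ Y →
      (x : Ω)⁻¹ * φ x ∈ Z := by
    intro P φ hφ x hx
    obtain ⟨φ', hφ', hP, hφS, hP', hind⟩ := hmor.2 P φ hφ
    obtain ⟨ψ, -, h1, h2⟩ := hEc.2 _ φ' hφ'
    have h3 : φ' ⟨θ ⟨x, hP x.2⟩, hP' x⟩ = θ ⟨x, hP x.2⟩ := by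
      rw [← h1]
      exact h2 ⟨θ ⟨x, hP x.2⟩, (hmemY x (hP x.2)).1 hx⟩
    rw [hind x] at h3
    have h4 : θ (⟨x, hP x.2⟩⁻¹ * ⟨φ x, hφS x⟩) = 1 := by rw [map_mul, map_inv, h3, inv_mul_cancel]
    exact (hθZ _).1 h4
  have hYsc : F.StronglyClosed Y := ⟨hYS, fun R hR φ hφ x => by
    simpa using Y.mul_mem (hR x.2) (hZY (hkey hφ x (hR x.2)))⟩
  have hcommY : ∀ s ∈ S, ∀ y ∈ Y, y⁻¹ * (s * y * s⁻¹) ∈ Z := fun s hs y hy =>
    hkey (F.conj_mem le_rfl hs) ⟨y, hYS hy⟩ hy
  -- `Y` is normal, by the series `1 ≤ Z ≤ Y`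
  have hYn : F.IsNormal Y := by
    refine isNormal_of_series hS hF 2 (fun i => if i = 0 then ⊥ else if i = 1 then Z else Y)
      (by simp) (by simp) ?_ ?_ ?_
    · intro i
      rcases i with - | - | i <;> simp [hZY]
    · intro i
      rcases i with - | - | i
      · simp only [if_pos rfl]
        exact ⟨bot_le, fun R hR φ _ x => by
          have hx : x = 1 := Subtype.ext (Subgroup.mem_bot.1 (hR x.2))
          simp [hx]⟩
      · simpa using hZsc
      · simpa using hYsc
    · intro i hi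
      rcases i with - | - | i
      · show ⁅Y, Z⁆ ≤ (⊥ : Subgroup Ω)
        rw [le_bot_iff, Subgroup.commutator_eq_bot_iff_le_centralizer]
        exact fun y hy => Subgroup.mem_centralizer_iff.2 fun z hz => (hZcomm z hz y (hYS hy)).symm
      · show ⁅Y, Y⁆ ≤ Z
        refine Subgroup.commutator_le.2 fun a ha b hb => ?_
        have h1 := hcommY a (hYS ha) b hb
        have h2 : b⁻¹ * (a * b * a⁻¹) = b⁻¹ * ⁅a, b⁆ * b := by
          simp [commutatorElement_def, mul_assoc]
        rw [h2] at h1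
        have h3 := hZcomm _ h1 b (hYS hb)
        have h4 : b⁻¹ * ⁅a, b⁆ * b = ⁅a, b⁆ := by
          calc b⁻¹ * ⁅a, b⁆ * b = b * (b⁻¹ * ⁅a, b⁆ * b) * b⁻¹ := by
                rw [h3, mul_inv_cancel_right]
            _ = ⁅a, b⁆ := by simp [mul_assoc]
        rwa [h4] at h1
      · omega
  -- automorphisms of `p'`-order fix `Y`
  have hfixY : ∀ (M : Subgroup Ω) (β : MulAut M), β ∈ F.autGroup M → M ≤ S →
      (orderOf β).Coprime p → ∀ x : M, (x : Ω) ∈ Y → β x = x := by
    intro M β hβ hMS hord x hx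
    have hI := (mem_autGroup_iff hMS).1 hβ
    have hd : ((x⁻¹ * β x : M) : Ω) ∈ Z := hkey hI x hx
    have hβd : β (x⁻¹ * β x) = x⁻¹ * β x := Subtype.ext (hfixZ hI _ hd)
    have hit : ∀ n : ℕ, (β ^ n) x = x * (x⁻¹ * β x) ^ n := by
      intro n
      induction n with
      | zero => simp
      | succ n ih =>
        rw [pow_succ', MulAut.mul_apply, ih, map_mul, map_pow, hβd, pow_succ', ← mul_assoc,
          mul_inv_cancel_left]
    have h1 := hit (orderOf β)
    rw [pow_orderOf_eq_one, MulAut.one_apply, left_eq_mul] at h1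
    have := finite_of_le hMS
    obtain ⟨k, hk⟩ := (hS.to_le hMS).exists_card_eq
    have h2 : orderOf (x⁻¹ * β x) = 1 := by
      have hfM := finite_of_le hMS
      exact Nat.eq_one_of_dvd_coprimes (hord.pow_right k) (orderOf_dvd_of_pow_eq_one h1)
        (hk ▸ orderOf_dvd_natCard _)
    rw [orderOf_eq_one_iff, inv_mul_eq_one] at h2
    exact h2.symm
  -- `S` centralises `Y`
  have hScent : ∀ y ∈ Y, ∀ s ∈ S, s * y = y * s := by
    have hgen : F.hyperfocalSubgroup p ≤ Subgroup.centralizer (Y : Set Ω) := by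
      refine (Subgroup.closure_le _).2 ?_
      rintro _ ⟨P, α, x, hP, hα, rfl⟩
      revert x
      have hfP := finite_of_le hP
      induction hα using Subgroup.closure_induction with
      | mem a ha =>
        intro x
        rw [SetLike.mem_coe, Subgroup.mem_centralizer_iff]
        intro y hy
        obtain ⟨ψ, hψ, hψ1, hψ2⟩ :=
          exists_normal_extension hYn ((mem_autGroup_iff hP).1 a.2)
        have hM : P ⊔ Y ≤ S := sup_le hP hYS
        have hfM := finite_of_le hM
        have hr : ψ.range = P ⊔ Y := by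
          refine Subgroup.eq_of_le_of_card_ge ?_ (card_eq_of_isConj ⟨ψ, hψ, rfl⟩).le
          rw [← imgHom_self, imgHom, Subgroup.subgroupOf_self, ← Subgroup.subgroupOf_self (P ⊔ Y),
            Subgroup.subgroupOf_sup le_sup_left le_sup_right, Subgroup.map_sup]
          refine sup_le_sup ?_ hψ2.le
          rintro _ ⟨z, hz, rfl⟩
          rw [show z = Subgroup.inclusion le_sup_left ⟨(z : Ω), hz⟩ from Subtype.ext rfl, hψ1]
          exact ((a : MulAut P) _).2
        obtain ⟨β, hβ, hβv⟩ := exists_iso hψ hr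
        -- replace `β` by a power of order prime to `p`
        obtain ⟨k, m, hm, hord⟩ := Nat.exists_eq_pow_mul_and_not_dvd
          (orderOf_pos (β : MulAut ↥(P ⊔ Y))).ne' p hpr.ne_one
        have hcop : (p ^ k).Coprime (orderOf (a : MulAut P)) := by
          refine Nat.Coprime.pow_left k ?_
          rw [show orderOf (a : MulAut P) = orderOf a from
            orderOf_injective _ (F.autGroup P).subtype_injective a]
          exact (ha : (orderOf a).Coprime p).symm
        obtain ⟨j, hj⟩ := exists_pow_eq_self_of_coprime hcop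
        let γ : MulAut ↥(P ⊔ Y) := ((β : MulAut ↥(P ⊔ Y)) ^ p ^ k) ^ j
        have hγ : γ ∈ F.autGroup (P ⊔ Y) :=
          Subgroup.pow_mem _ (Subgroup.pow_mem _ hβ.mem_autGroup _) _
        have hγord : (orderOf γ).Coprime p := by
          refine Nat.Coprime.coprime_dvd_left (k := m) (orderOf_dvd_of_pow_eq_one ?_)
            ((hpr.coprime_iff_not_dvd.2 hm).symm)
          rw [← pow_mul, mul_comm j, pow_mul, ← pow_mul _ (p ^ k), ← hord, pow_orderOf_eq_one,
            one_pow]
        have hrest : ∀ (n : ℕ) (z : P),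
            (((β : MulAut ↥(P ⊔ Y)) ^ n) (Subgroup.inclusion le_sup_left z) : Ω) =
              (((a : MulAut P) ^ n) z : Ω) := by
          intro n
          induction n with
          | zero => intro z; rfl
          | succ n ih =>
            intro z
            rw [pow_succ, pow_succ, MulAut.mul_apply, MulAut.mul_apply, ← ih ((a : MulAut P) z)]
            refine congrArg (fun w => (((β : MulAut ↥(P ⊔ Y)) ^ n) w : Ω)) (Subtype.ext ?_)
            rw [hβv, hψ1]
            rfl
        have hγx : (γ (Subgroup.inclusion le_sup_left x) : Ω) = ((a : MulAut P) x : Ω) := by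
          show ((((β : MulAut ↥(P ⊔ Y)) ^ p ^ k) ^ j) _ : Ω) = _
          rw [← pow_mul, hrest, pow_mul, hj]
        set x' : ↥(P ⊔ Y) := Subgroup.inclusion le_sup_left x
        set y' : ↥(P ⊔ Y) := ⟨y, Subgroup.mem_sup_right hy⟩
        have hy' : γ y' = y' := hfixY _ γ hγ hM hγord y' hy
        have hc : ((y'⁻¹ * (x' * y' * x'⁻¹) : ↥(P ⊔ Y)) : Ω) ∈ Z := hcommY x (hP x.2) y hy
        have h5 : γ (x' * y' * x'⁻¹) = x' * y' * x'⁻¹ := by
          have h6 : γ (y'⁻¹ * (x' * y' * x'⁻¹)) = y'⁻¹ * (x' * y' * x'⁻¹) :=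
            Subtype.ext (hfixZ ((mem_autGroup_iff hM).1 hγ) _ hc)
          rw [map_mul, map_inv, hy'] at h6
          exact mul_left_cancel h6
        rw [map_mul, map_mul, map_inv, hy'] at h5
        have h7 : y' * (x'⁻¹ * γ x') = x'⁻¹ * γ x' * y' := by
          calc y' * (x'⁻¹ * γ x') = x'⁻¹ * (x' * y' * x'⁻¹) * γ x' := by simp [mul_assoc]
            _ = x'⁻¹ * (γ x' * y' * (γ x')⁻¹) * γ x' := by rw [h5]
            _ = x'⁻¹ * γ x' * y' := by simp [mul_assoc]
        have h8 := congrArg Subtype.val h7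
        simp only [Subgroup.coe_mul, Subgroup.coe_inv, hγx] at h8
        exact h8
      | one => intro x; simp
      | mul a b _ _ ha hb =>
        intro x
        have h1 := Subgroup.mul_mem _ (hb x) (ha ((b : MulAut P) x))
        simpa [mul_assoc] using h1
      | inv a _ ha =>
        intro x
        have h1 := Subgroup.inv_mem _ (ha (((a⁻¹ : F.autGroup P) : MulAut P) x))
        simpa using h1
    intro y hy s hs
    rw [hperf] at hgen
    exact (Subgroup.mem_centralizer_iff.1 (hgen hs) y hy).symm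
  -- `Y` is central
  have hYcen : F.IsCentral Y := by
    refine isCentral_of_fixed hS hF hYS hScent fun Q hQ _ _ α hα x hx => ?_
    have hQS := hQ.1
    have hfQ := finite_of_le hQS
    obtain ⟨T, hT⟩ := (automized_receptive hS hF hQ).1.2
    let K : Subgroup (F.autGroup Q) :=
      { carrier := {a | (a : MulAut Q) x = x}
        one_mem' := rfl
        mul_mem' := fun {a b} ha hb => by
          show (a : MulAut Q) ((b : MulAut Q) x) = x
          rw [show (b : MulAut Q) x = x from hb, show (a : MulAut Q) x = x from ha]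
        inv_mem' := fun {a} ha => ((a : MulAut Q).symm_apply_eq).2 (ha : (a : MulAut Q) x = x).symm }
    have hTK : (T : Subgroup (F.autGroup Q)) ≤ K := by
      intro a ha
      rw [hT] at ha
      obtain ⟨g, hg, -, hv⟩ := mem_autInducedBy_iff.1 (ha : (a : MulAut Q) ∈ autInducedBy S Q)
      refine Subtype.ext ((hv x).trans ?_)
      rw [hScent _ hx g hg, mul_inv_cancel_right]
    obtain ⟨k, m, hm, hord⟩ := Nat.exists_eq_pow_mul_and_not_dvd
      (orderOf_pos (⟨α, hα⟩ : F.autGroup Q)).ne' p hpr.ne_one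
    set a : F.autGroup Q := ⟨α, hα⟩
    -- the part of order prime to `p`
    have hb1 : a ^ p ^ k ∈ K := by
      refine hfixY Q _ (a ^ p ^ k).2 hQS ?_ x hx
      rw [Subgroup.orderOf_coe]
      refine Nat.Coprime.coprime_dvd_left (k := m) (orderOf_dvd_of_pow_eq_one ?_)
        ((hpr.coprime_iff_not_dvd.2 hm).symm)
      rw [← pow_mul, ← hord, pow_orderOf_eq_one]
    -- the `p`-part
    have hb2 : a ^ m ∈ K := by
      obtain ⟨c, hc⟩ := exists_conj_mem_sylow T (X := Subgroup.zpowers (a ^ m))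
        (isPGroup_zpowers_of_pow_eq_one (k := k)
          (by rw [← pow_mul, mul_comm, ← hord, pow_orderOf_eq_one]))
      have h1 : ((c * a ^ m * c⁻¹ : F.autGroup Q) : MulAut Q) x = x :=
        hTK (hc _ (Subgroup.mem_zpowers _))
      -- elements fixing `x` fix its coset, so conjugation does not matter
      have hd : ∀ d : F.autGroup Q, ((x⁻¹ * (d : MulAut Q) x : Q) : Ω) ∈ Z := fun d =>
        hkey ((mem_autGroup_iff hQS).1 d.2) x hx
      set z := x⁻¹ * ((c⁻¹ : F.autGroup Q) : MulAut Q) x with hz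
      have hzfix : ∀ d : F.autGroup Q, (d : MulAut Q) z = z := fun d =>
        Subtype.ext (hfixZ ((mem_autGroup_iff hQS).1 d.2) z (hd c⁻¹))
      have hcx : ((c⁻¹ : F.autGroup Q) : MulAut Q) x = x * z := by rw [hz, mul_inv_cancel_left]
      have h2 := congrArg ((c⁻¹ : F.autGroup Q) : MulAut Q) h1
      simp only [Subgroup.coe_mul, MulAut.mul_apply, Subgroup.coe_inv,
        MulAut.inv_apply, MulEquiv.symm_apply_apply] at h2 hcx
      rw [hcx, map_mul, hzfix] at h2
      exact mul_right_cancel h2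
    have hg1 : Nat.gcd (p ^ k) m = 1 := (hpr.coprime_iff_not_dvd.2 hm).pow_left k
    have h3 : a ^ (Nat.gcd (p ^ k) m) ∈ K := pow_gcd_eq_one' K a hb1 hb2
    rw [hg1, pow_one] at h3
    exact h3
  rw [eq_bot_iff]
  intro q hq
  obtain ⟨s, rfl⟩ := QuotientGroup.mk'_surjective _ q
  rw [Subgroup.mem_bot]
  refine (hθZ s).2 ((le_sSup hYcen : Y ≤ F.center) ⟨s, hq, rfl⟩)
where
  pow_gcd_eq_one' {G : Type _} [Group G] (K : Subgroup G) (a : G) {u v : ℕ} (hu : a ^ u ∈ K)
      (hv : a ^ v ∈ K) : a ^ Nat.gcd u v ∈ K := by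
    rw [← zpow_natCast, Nat.gcd_eq_gcd_ab, zpow_add, zpow_mul, zpow_mul, zpow_natCast,
      zpow_natCast]
    exact K.mul_mem (K.zpow_mem hu _) (K.zpow_mem hv _)

end CfsgLib.FusionSub
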