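import Cfsg.Agent.FusionSub.PSLTwo
import Cfsg.Agent.FusionSub.GLTwoSylow
import Cfsg.Agent.FusionClosed.StronglyClosed
import Cfsg.Agent.FusionSimple.Generic
import Cfsg.Agent.BlocksCharsC.PGroupCenter

/-!
The 2-fusion system of `PSL(3,q)`, `q` odd, is simple.
-/

set_option autoImplicit false

namespace CfsgLib.FusionSub

open Cfsg Cfsg.FusionSystem CfsgLib.Fusion Matrix
open scoped MatrixGroups

variable {F : Type*} [Field F] [Fintype F]

omit [Fintype F] in
theorem embMat_mul (g h : Matrix (Fin 2) (Fin 2) F) :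
    !![(g * h) 0 0, (g * h) 0 1, 0; (g * h) 1 0, (g * h) 1 1, 0; 0, 0, ((g * h).det)⁻¹] =
      !![g 0 0, g 0 1, 0; g 1 0, g 1 1, 0; 0, 0, (g.det)⁻¹] *
        !![h 0 0, h 0 1, 0; h 1 0, h 1 1, 0; 0, 0, (h.det)⁻¹] := by
  ext i j
  fin_cases i <;> fin_cases j <;>
    simp [Matrix.mul_apply, Fin.sum_univ_three, Fin.sum_univ_two, Matrix.det_mul, mul_comm]

omit [Fintype F] in
theorem coe_inc (a : SL(2, F)) : (GLTwo.inc a).1 = a.1 := rfl

/-- `g ↦ diag(g, det g⁻¹)`. -/
def embThree : GL (Fin 2) F →* SL(3, F) where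
  toFun g := ⟨!![g.1 0 0, g.1 0 1, 0; g.1 1 0, g.1 1 1, 0; 0, 0, (g.1.det)⁻¹], by
    have h : g.1.det ≠ 0 := (Matrix.GeneralLinearGroup.det g).ne_zero
    rw [Matrix.det_fin_two] at h
    simp [Matrix.det_fin_three, Matrix.det_fin_two]
    field_simp⟩
  map_one' := by
    apply Subtype.ext
    ext i j
    fin_cases i <;> fin_cases j <;> simp
  map_mul' g h := Subtype.ext (embMat_mul g.1 h.1)

omit [Fintype F] in
theorem coe_embThree (g : GL (Fin 2) F) : (embThree g : SL(3, F)).1 =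
    !![g.1 0 0, g.1 0 1, 0; g.1 1 0, g.1 1 1, 0; 0, 0, (g.1.det)⁻¹] := rfl

/-- A monomial element exchanging the last two coordinates. -/
def permThree : SL(3, F) := ⟨!![-1, 0, 0; 0, 0, 1; 0, 1, 0], by simp [Matrix.det_fin_three]⟩

omit [Fintype F] in
theorem coe_permThree : (permThree : SL(3, F)).1 = !![-1, 0, 0; 0, 0, 1; 0, 1, 0] := rfl

omit [Fintype F] in
theorem permThree_conj (a b : Fˣ) :
    permThree * embThree (GLTwo.Δ (a, b)) * permThree⁻¹ =
      embThree (GLTwo.Δ (a, (a * b)⁻¹)) := by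
  rw [mul_inv_eq_iff_eq_mul]
  apply Subtype.ext
  rw [Matrix.SpecialLinearGroup.coe_mul, Matrix.SpecialLinearGroup.coe_mul]
  ext i j
  fin_cases i <;> fin_cases j <;>
    simp [coe_permThree, coe_embThree, GLTwo.coe_Δ, Matrix.mul_apply, Fin.sum_univ_three,
      Matrix.det_fin_two] <;> field_simp

omit [Fintype F] in
theorem embThree_ker {g : GL (Fin 2) F} (h : embThree g ∈ Subgroup.center SL(3, F)) : g ^ 3 = 1 := by
  rw [Matrix.SpecialLinearGroup.mem_center_iff] at h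
  obtain ⟨r, hr, hrg⟩ := h
  simp only [Fintype.card_fin] at hr
  rw [coe_embThree] at hrg
  have e00 := congrFun (congrFun hrg 0) 0
  have e01 := congrFun (congrFun hrg 0) 1
  have e10 := congrFun (congrFun hrg 1) 0
  have e11 := congrFun (congrFun hrg 1) 1
  simp at e00 e01 e10 e11
  have hg : g.1 = r • 1 := by
    ext i j
    fin_cases i <;> fin_cases j <;> simp [← e00, ← e11, ← e01, ← e10]
  apply Units.ext
  rw [Units.val_pow_eq_pow_val, hg, _root_.smul_pow, one_pow, hr, one_smul, Units.val_one]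

theorem sl_three_card_odd_index (hodd : Odd (Fintype.card F)) :
    ∃ o : ℕ, ¬ 2 ∣ o ∧ Nat.card SL(3, F) = Nat.card (GL (Fin 2) F) * o := by
  obtain ⟨k, hk⟩ := hodd
  have hq : 2 ≤ Fintype.card F := Fintype.one_lt_card
  refine ⟨Fintype.card F ^ 2 * (Fintype.card F ^ 2 + Fintype.card F + 1), ?_, ?_⟩
  · have h : Odd (Fintype.card F ^ 2 * (Fintype.card F ^ 2 + Fintype.card F + 1)) := by
      refine Odd.mul (Odd.pow ⟨k, hk⟩) ⟨(4 * k ^ 2 + 6 * k + 2) / 2, ?_⟩
      rw [hk]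
      have : (4 * k ^ 2 + 6 * k + 2) / 2 = 2 * k ^ 2 + 3 * k + 1 := by omega
      rw [this]; ring
    exact fun hd => Nat.not_even_iff_odd.2 h (even_iff_two_dvd.2 hd)
  · refine Nat.eq_of_mul_eq_mul_left (show 0 < Fintype.card F - 1 by omega) ?_
    rw [Linear.card_SL_mul, Matrix.card_GL_field, Linear.prod_pow_sub_pow, Linear.card_GL_two]
    simp only [Finset.prod_range_succ, Finset.prod_range_zero, one_mul, show 3 * (3 - 1) / 2 = 3 from rfl,
      zero_add, pow_one]
    obtain ⟨r, hr⟩ : ∃ r, Fintype.card F = r + 1 := ⟨Fintype.card F - 1, by omega⟩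
    have h3 : Fintype.card F ^ (2 + 1) - 1 =
        (Fintype.card F - 1) * (Fintype.card F ^ 2 + Fintype.card F + 1) := by
      rw [hr, show r + 1 - 1 = r from rfl]
      refine Nat.sub_eq_of_eq_add ?_
      ring
    rw [h3]
    ring

theorem exists_transport (hodd : Odd (Fintype.card F)) (P : Sylow 2 (GL (Fin 2) F))
    (S : Sylow 2 (Matrix.ProjectiveSpecialLinearGroup (Fin 3) F)) :
    ∃ k : SL(3, F) →* Matrix.ProjectiveSpecialLinearGroup (Fin 3) F,
      Set.InjOn (k.comp embThree) (P : Subgroup (GL (Fin 2) F)) ∧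
      (P : Subgroup (GL (Fin 2) F)).map (k.comp embThree) = (S : Subgroup _) := by
  have : Fact (Nat.Prime 2) := ⟨Nat.prime_two⟩
  set mk : SL(3, F) →* Matrix.ProjectiveSpecialLinearGroup (Fin 3) F := QuotientGroup.mk' _
  have hinj : ∀ g ∈ (P : Subgroup (GL (Fin 2) F)), mk (embThree g) = 1 → g = 1 := by
    intro g hg h
    have h3 := embThree_ker ((QuotientGroup.eq_one_iff _).1 h)
    obtain ⟨j, hj⟩ := P.isPGroup' ⟨g, hg⟩
    have hj' : g ^ 2 ^ j = 1 := congrArg Subtype.val hj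
    have := pow_gcd_eq_one.2 ⟨h3, hj'⟩
    rwa [Nat.Coprime.pow_right _ (by norm_num : Nat.Coprime 3 2), pow_one] at this
  have hinjOn : Set.InjOn (mk.comp embThree) (P : Subgroup (GL (Fin 2) F)) := fun x hx y hy h =>
    inv_mul_eq_one.1 (hinj _ (mul_mem (inv_mem hx) hy) (by
      show (mk.comp embThree) (x⁻¹ * y) = 1
      rw [map_mul, map_inv, h, inv_mul_cancel]))
  let R := (P : Subgroup (GL (Fin 2) F)).map (mk.comp embThree)
  have hcard : Nat.card R = Nat.card (P : Subgroup (GL (Fin 2) F)) :=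
    (Nat.card_congr (Equiv.ofBijective
      (fun x : (P : Subgroup (GL (Fin 2) F)) => (⟨(mk.comp embThree) x, x, x.2, rfl⟩ : R))
      ⟨fun x y h => Subtype.ext (hinjOn x.2 y.2 (congrArg Subtype.val h)),
        by rintro ⟨_, x, hx, rfl⟩; exact ⟨⟨x, hx⟩, rfl⟩⟩)).symm
  obtain ⟨o, ho, hcardSL⟩ := sl_three_card_odd_index hodd
  have hidx : ¬ 2 ∣ R.index := by
    intro h
    have h1 : R.index * Nat.card R ∣ Nat.card SL(3, F) := by
      rw [Subgroup.index_mul_card, ← Linear.card_PSL_mul]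
      exact dvd_mul_left _ _
    rw [hcard, hcardSL, ← Subgroup.index_mul_card (P : Subgroup (GL (Fin 2) F)),
      show (P : Subgroup (GL (Fin 2) F)).index * Nat.card (P : Subgroup (GL (Fin 2) F)) * o =
        ((P : Subgroup (GL (Fin 2) F)).index * o) * Nat.card (P : Subgroup (GL (Fin 2) F)) by ring]
      at h1
    have h2 := h.trans (Nat.dvd_of_mul_dvd_mul_right Nat.card_pos h1)
    rcases Nat.prime_two.dvd_mul.1 h2 with h3 | h3
    · exact P.not_dvd_index h3
    · exact ho h3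
  obtain ⟨a, ha⟩ := MulAction.exists_smul_eq (Matrix.ProjectiveSpecialLinearGroup (Fin 3) F)
    ((P.isPGroup'.map _ : IsPGroup 2 R).toSylow hidx) S
  refine ⟨(MulAut.conj a).toMonoidHom.comp mk, fun x hx y hy h => hinjOn hx hy
    ((MulAut.conj a).injective h), ?_⟩
  rw [← ha, Sylow.coe_subgroup_smul, MonoidHom.comp_assoc, ← Subgroup.map_map]
  rfl

theorem eq_zpow_of_orderOf_four (hodd : Odd (Fintype.card F)) {x : SL(2, F)} (hx : orderOf x = 4) :
    IsConj x (SL2Trace.companion 0) := by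
  have hsq : x ^ 2 = -1 := by
    refine Linear.eq_neg_one_of_sq hodd _ (fun h => ?_) (by rw [← pow_mul, show 2 * 2 = orderOf x by rw [hx], pow_orderOf_eq_one])
    have := Nat.le_of_dvd two_pos (orderOf_dvd_of_pow_eq_one h)
    omega
  refine SL2Trace.isConj_companion x 0 ?_ ?_
  · have h' := congrArg Subtype.val hsq
    rw [Matrix.SpecialLinearGroup.coe_pow, sq] at h'
    have e00 := congrFun (congrFun h' 0) 0
    have e11 := congrFun (congrFun h' 1) 1
    simp [Matrix.mul_apply, Fin.sum_univ_two] at e00 e11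
    have hd := SL2Trace.det_eq_one x
    rw [Matrix.trace_fin_two]
    have h1 : (x.1 0 0 + x.1 1 1) ^ 2 = 0 := by linear_combination e00 + e11 + 2 * hd
    simpa using h1
  · intro h4
    apply Linear.two_ne_zero_of_odd hodd
    have h2 : (2 : F) ^ 2 = 0 := by linear_combination -h4
    simpa using h2

theorem isSimple_PSL_three (hodd : Odd (Fintype.card F))
    (S : Sylow 2 (Matrix.ProjectiveSpecialLinearGroup (Fin 3) F)) :
    (groupFusionSystem (S : Subgroup (Matrix.ProjectiveSpecialLinearGroup (Fin 3) F))).IsSimple 2 := by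
  have : Fact (Nat.Prime 2) := ⟨Nat.prime_two⟩
  obtain ⟨P, hw, hΔ⟩ := GLTwo.exists_sylow (F := F) hodd
  obtain ⟨k, hinj, hmap⟩ := exists_transport hodd P S
  set j := k.comp embThree with hj
  have hjS : ∀ x ∈ (P : Subgroup (GL (Fin 2) F)), j x ∈ (S : Subgroup _) := fun x hx =>
    hmap ▸ ⟨x, hx, rfl⟩
  have h2 : (2 : F) ≠ 0 := Linear.two_ne_zero_of_odd hodd
  have hone : ∃ l : ℕ, orderOf (1 : Fˣ) = 2 ^ l := ⟨0, by simp⟩
  have hm1 : ∃ l : ℕ, orderOf (-1 : Fˣ) = 2 ^ l := by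
    obtain ⟨l, -, hl⟩ := (Nat.dvd_prime_pow Nat.prime_two).1
      (orderOf_dvd_of_pow_eq_one (by simp : (-1 : Fˣ) ^ (2 ^ 1) = 1))
    exact ⟨l, hl⟩
  have hs : GLTwo.Δ (-1, 1) ∈ (P : Subgroup (GL (Fin 2) F)) := hΔ _ _ hm1 hone
  let e : (P : Subgroup (GL (Fin 2) F)) ≃*
      (S : Subgroup (Matrix.ProjectiveSpecialLinearGroup (Fin 3) F)) :=
    MulEquiv.ofBijective
      ((j.comp (P : Subgroup (GL (Fin 2) F)).subtype).codRestrict _ fun x => hjS x x.2)
      ⟨fun x y h => Subtype.ext (hinj x.2 y.2 (congrArg Subtype.val h)), fun y => by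
        obtain ⟨x, hx, hxy⟩ := hmap.ge y.2
        exact ⟨⟨x, hx⟩, Subtype.ext hxy⟩⟩
  have hne : (S : Subgroup (Matrix.ProjectiveSpecialLinearGroup (Fin 3) F)) ≠ ⊥ := by
    intro h
    have h1 := hjS _ hw
    rw [h, Subgroup.mem_bot, ← map_one j] at h1
    exact GLTwo.swap_ne_Δ 1 1 ((hinj hw (one_mem _) h1).trans (map_one GLTwo.Δ).symm)
  refine isSimple_of_stronglyClosed (isSaturated_groupFusion S) hne
    (autGroup_eq_Inn_of_isPGroup S.isPGroup' (isSaturated_groupFusion S)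
      ((GLTwo.isPGroup_mulAut hodd P hw hΔ).of_equiv (MulAut.congr e))) fun T hT => ?_
  refine or_iff_not_imp_left.2 fun hT1 => le_antisymm hT.1 ?_
  have hcl := (FusionSimple.closed_of_stronglyClosed hT).2
  have hconj : ∀ (x y : GL (Fin 2) F) (g : SL(3, F)), g * embThree x * g⁻¹ = embThree y →
      y ∈ (P : Subgroup (GL (Fin 2) F)) → j x ∈ T → j y ∈ T := by
    intro x y g hg hy hx
    have h1 : k g * j x * (k g)⁻¹ = j y := by
      show k g * k (embThree x) * (k g)⁻¹ = k (embThree y)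
      rw [← map_inv, ← map_mul, ← map_mul, hg]
    exact h1 ▸ hcl (j x) hx (k g) (h1.symm ▸ hjS y hy)
  -- the central involution
  have hz : j (GLTwo.Δ (-1, -1)) ∈ T := by
    set T' := T.subgroupOf (S : Subgroup (Matrix.ProjectiveSpecialLinearGroup (Fin 3) F))
    have hT'n : T'.Normal := ⟨fun n hn g =>
      FusionClosed.conj_mem_stronglyClosed hT g.2 hn⟩
    have : Nontrivial T' := by
      rw [Subgroup.nontrivial_iff_ne_bot, ne_eq, Subgroup.subgroupOf_eq_bot, disjoint_iff,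
        inf_eq_left.2 hT.1]
      exact hT1
    have hne := BlocksCharsC.inf_center_ne_bot S.isPGroup' T'
    obtain ⟨l, hl⟩ := (S.isPGroup'.to_subgroup
      (T' ⊓ Subgroup.center (S : Subgroup (Matrix.ProjectiveSpecialLinearGroup (Fin 3) F)))).exists_card_eq
    have hl0 : l ≠ 0 := fun h => hne (Subgroup.eq_bot_of_card_eq _ (by rw [hl, h, pow_zero]))
    obtain ⟨u, hu⟩ := exists_prime_orderOf_dvd_card'
      (G := ↥(T' ⊓ Subgroup.center (S : Subgroup (Matrix.ProjectiveSpecialLinearGroup (Fin 3) F))))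
      2 (hl ▸ dvd_pow_self 2 hl0)
    set a := e.symm u.1 with ha
    have hja : j a.1 = u.1.1 := congrArg Subtype.val (e.apply_symm_apply u.1)
    have hao : orderOf a = 2 := by rw [ha, MulEquiv.orderOf_eq, Subgroup.orderOf_coe, hu]
    have hac : ∀ b : (P : Subgroup (GL (Fin 2) F)), b * a = a * b := fun b => by
      have h1 := Subgroup.mem_center_iff.1 u.2.2 (e b)
      apply e.injective
      rw [map_mul, map_mul, ha, e.apply_symm_apply]
      exact h1
    have c1 := congrArg (fun b : (P : Subgroup (GL (Fin 2) F)) => b.1.1) (hac ⟨_, hs⟩)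
    have c2 := congrArg (fun b : (P : Subgroup (GL (Fin 2) F)) => b.1.1) (hac ⟨_, hw⟩)
    have hsq := congrArg (fun b : (P : Subgroup (GL (Fin 2) F)) => b.1.1)
      (orderOf_dvd_iff_pow_eq_one.1 hao.dvd)
    simp only [Subgroup.coe_mul, Units.val_mul, GLTwo.coe_Δ, GLTwo.coe_swap] at c1 c2
    simp only [Subgroup.coe_pow, Units.val_pow_eq_pow_val, Subgroup.coe_one, Units.val_one, sq] at hsq
    have e01 := congrFun (congrFun c1 0) 1
    have e10 := congrFun (congrFun c1 1) 0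
    have e11 := congrFun (congrFun c2 0) 1
    have s00 := congrFun (congrFun hsq 0) 0
    simp [Matrix.mul_apply, Fin.sum_univ_two] at e01 e10 e11 s00
    have h01 : a.1.1 0 1 = 0 := by
      have : (2 : F) * a.1.1 0 1 = 0 := by linear_combination -e01
      simpa [h2] using this
    have h10 : a.1.1 1 0 = 0 := by
      have : (2 : F) * a.1.1 1 0 = 0 := by linear_combination e10
      simpa [h2] using this
    rw [h01, zero_mul, add_zero, ← sq] at s00
    have hne1 : a.1.1 0 0 ≠ 1 := fun h => by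
      have : a = 1 := by
        refine Subtype.ext (Units.ext ?_)
        ext i j
        fin_cases i <;> fin_cases j <;> simp [h01, h10, e11, h]
      rw [this, orderOf_one] at hao
      omega
    have h00 : a.1.1 0 0 = -1 := (sq_eq_one_iff.1 s00).resolve_left hne1
    have haΔ : a.1 = GLTwo.Δ (-1, -1) := by
      refine Units.ext ?_
      rw [GLTwo.coe_Δ]
      ext i j
      fin_cases i <;> fin_cases j <;> simp [h01, h10, e11, h00]
    rw [← haΔ, hja]
    exact u.2.1
  have hsT : j (GLTwo.Δ (-1, 1)) ∈ T := by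
    refine hconj (GLTwo.Δ (-1, -1)) _ permThree ?_ hs hz
    rw [permThree_conj]
    simp
  have hwT : j GLTwo.swap ∈ T := by
    let c : GL (Fin 2) F := Matrix.GeneralLinearGroup.mkOfDetNeZero !![1, 1; -1, 1] (by
      rw [Matrix.det_fin_two_of]; intro h; apply h2; linear_combination h)
    refine hconj (GLTwo.Δ (-1, 1)) _ (embThree c) ?_ hw hsT
    rw [← map_inv, ← map_mul, ← map_mul]
    congr 1
    rw [mul_inv_eq_iff_eq_mul]
    ext i j
    fin_cases i <;> fin_cases j <;>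
      simp [c, GLTwo.coe_Δ, GLTwo.coe_swap, Matrix.GeneralLinearGroup.mkOfDetNeZero, Matrix.mul_apply]
  have hrT : j (GLTwo.inc (SL2Trace.companion 0)) ∈ T := by
    have : GLTwo.inc (SL2Trace.companion (0 : F)) = GLTwo.Δ (-1, 1) * GLTwo.swap := by
      apply Units.ext
      rw [Units.val_mul, coe_inc, GLTwo.coe_Δ, GLTwo.coe_swap]
      ext i j
      fin_cases i <;> fin_cases j <;> simp [SL2Trace.companion, Matrix.mul_apply]
    rw [this, map_mul]
    exact mul_mem hsT hwT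
  obtain ⟨m, hm, ⟨eq⟩⟩ := GLTwo.inc_preimage_quaternion hodd P
  have : NeZero (2 ^ m) := ⟨pow_ne_zero _ two_ne_zero⟩
  have hQ : ∀ x : SL(2, F), GLTwo.inc x ∈ (P : Subgroup (GL (Fin 2) F)) →
      j (GLTwo.inc x) ∈ T := by
    have hxa : ∀ i, j (GLTwo.inc (eq.symm (QuaternionGroup.xa i)).1) ∈ T := by
      intro i
      obtain ⟨g, hg⟩ := isConj_iff.1 (eq_zpow_of_orderOf_four hodd (x := (eq.symm (QuaternionGroup.xa i)).1)
        (by rw [Subgroup.orderOf_coe, MulEquiv.orderOf_eq, QuaternionGroup.orderOf_xa])).symm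
      refine hconj _ _ (embThree (GLTwo.inc g)) ?_ (eq.symm (QuaternionGroup.xa i)).2 hrT
      rw [← map_inv, ← map_mul, ← map_mul, ← map_inv, ← map_mul, ← map_mul, hg]
    intro x hx
    have hxe : x = (eq.symm (eq ⟨x, hx⟩)).1 := by rw [eq.symm_apply_apply]
    rw [hxe]
    generalize eq ⟨x, hx⟩ = q
    cases q with
    | xa i => exact hxa i
    | a l =>
      have h1 : QuaternionGroup.a l = QuaternionGroup.xa 0 *
          QuaternionGroup.xa (l - ((2 ^ m : ℕ) : ZMod (2 * 2 ^ m))) := by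
        rw [QuaternionGroup.xa_mul_xa]
        congr 1
        ring
      rw [h1, map_mul, Subgroup.coe_mul, map_mul, map_mul]
      exact mul_mem (hxa _) (hxa _)
  intro y hy
  obtain ⟨x, hx, rfl⟩ := hmap.ge hy
  obtain ⟨l, hl⟩ : ∃ l, orderOf (Matrix.GeneralLinearGroup.det x) = 2 ^ l := by
    obtain ⟨l, hl⟩ := P.isPGroup' ⟨x, hx⟩
    obtain ⟨i, -, hi⟩ := (Nat.dvd_prime_pow Nat.prime_two).1
      (orderOf_dvd_of_pow_eq_one (show Matrix.GeneralLinearGroup.det x ^ 2 ^ l = 1 by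
        rw [← map_pow, show x ^ 2 ^ l = 1 from congrArg Subtype.val hl, map_one]))
    exact ⟨i, hi⟩
  set t := Matrix.GeneralLinearGroup.det x
  have htinv : ∃ l : ℕ, orderOf t⁻¹ = 2 ^ l := ⟨l, by rw [orderOf_inv]; exact hl⟩
  obtain ⟨q, hq⟩ := GLTwo.exists_inc_of_det (g := x * (GLTwo.Δ (t, 1))⁻¹)
    (by rw [map_mul, map_inv, GLTwo.det_Δ, mul_one, mul_inv_cancel])
  have hqP : GLTwo.inc q ∈ (P : Subgroup (GL (Fin 2) F)) :=
    hq ▸ mul_mem hx (inv_mem (hΔ _ _ ⟨l, hl⟩ hone))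
  obtain ⟨d, hd⟩ := GLTwo.exists_inc_of_det (g := GLTwo.Δ (t, t⁻¹))
    (by rw [GLTwo.det_Δ, mul_inv_cancel])
  have hdT : j (GLTwo.Δ (t, t⁻¹)) ∈ T := hd ▸ hQ d (hd ▸ hΔ _ _ ⟨l, hl⟩ htinv)
  have htT : j (GLTwo.Δ (t, 1)) ∈ T := by
    refine hconj (GLTwo.Δ (t, t⁻¹)) _ permThree ?_ (hΔ _ _ ⟨l, hl⟩ hone) hdT
    rw [permThree_conj, mul_inv_cancel, inv_one]
  have : x = GLTwo.inc q * GLTwo.Δ (t, 1) := by rw [hq, inv_mul_cancel_right]
  show j x ∈ T
  rw [this, map_mul]
  exact mul_mem (hQ q hqP) htT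

end CfsgLib.FusionSub
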