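import Cfsg.Agent.FusionConstrained.Inherit

/-!
Subnormal subsystems of constrained systems are constrained.
-/

set_option autoImplicit false

namespace CfsgLib.FusionSub

open Cfsg Cfsg.FusionSystem CfsgLib.Fusion

variable {Ω : Type*} [Group Ω]

theorem isConstrained_of_subnormal {S T : Subgroup Ω} {p : ℕ} [Fact p.Prime] [Finite S]
    {E : FusionSystem T} {F : FusionSystem S} (hE : E.IsSubnormalIn F p) (hS : IsPGroup p S)
    (hF : F.IsConstrained p) : E.IsConstrained p := by
  rename_i hp hfin
  revert hp hfin hS hF
  induction hE with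
  | refl F p => intro _ _ _ hF; exact hF
  | @step U S E D F p _ hD ih =>
    intro hp hfin hS hF
    obtain ⟨⟨hDs, -, hsub, hsc, -⟩, -⟩ := hD
    have := finite_of_le hsc.1
    exact ih (hS.to_le hsc.1) (FusionConstrained.isConstrained_of_subsystem hS hF hsc hsub hDs)

end CfsgLib.FusionSub
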