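import Cfsg.Prelude.Def_FusionComponents
import Cfsg.Agent.Fusion.NormalSubgroup
import Cfsg.Agent.Fusion.Realized
import Cfsg.Agent.FusionFactor.Elementary

/-!
Weakly normal subsystems: the closure of a normal subgroup of a weakly normal subsystem is normal;
`Q` is normal exactly when its inner system is weakly normal.
-/

set_option autoImplicit false

namespace CfsgLib.FusionSub

open Cfsg Cfsg.FusionSystem CfsgLib.Fusion

variable {Ω : Type*} [Group Ω] {S T : Subgroup Ω} {F : FusionSystem S} {E : FusionSystem T}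

/-- The image of a normal subgroup of an invariant subsystem under an automorphism is normal. -/
theorem isNormal_image (hinv : E.IsInvariantIn F) {R : Subgroup Ω} (hR : E.IsNormal R)
    {α : MulAut T} (hα : α ∈ F.autGroup T) :
    E.IsNormal (imgHom (T.subtype.comp α.toMonoidHom) R) := by
  have hle : ∀ X : Subgroup Ω, ∀ β : MulAut T, imgHom (T.subtype.comp β.toMonoidHom) X ≤ T := by
    rintro X β _ ⟨x, -, rfl⟩
    exact (β x).2
  refine ⟨hle R α, fun P φ hφ => ?_⟩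
  have hPT := le_left hφ
  obtain ⟨χ, hχ, hχv⟩ := hinv.2.2.1 P hPT φ hφ α⁻¹ (inv_mem hα)
  obtain ⟨ψ, hψ, h1, h2⟩ := exists_normal_extension hR hχ
  have hW : imgHom (T.subtype.comp (α⁻¹ : MulAut T).toMonoidHom) P ⊔ R ≤ T :=
    sup_le (hle P _) hR.1
  obtain ⟨χ', hχ', hχ'v⟩ := hinv.2.2.1 _ hW ψ hψ α hα
  have hsup : P ⊔ imgHom (T.subtype.comp α.toMonoidHom) R ≤
      imgHom (T.subtype.comp α.toMonoidHom)
        (imgHom (T.subtype.comp (α⁻¹ : MulAut T).toMonoidHom) P ⊔ R) := by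
    refine sup_le (fun x hx => ?_) (imgHom_mono _ le_sup_right)
    exact ⟨α⁻¹ ⟨x, hPT hx⟩, Subgroup.mem_sup_left ⟨⟨x, hPT hx⟩, hx, rfl⟩,
      congrArg Subtype.val (α.apply_symm_apply ⟨x, hPT hx⟩)⟩
  refine ⟨_, restrict_mem hχ' hsup, fun x => ?_, ?_⟩
  · have hy : ((α⁻¹ ⟨x, hPT x.2⟩ : T) : Ω) ∈
        imgHom (T.subtype.comp (α⁻¹ : MulAut T).toMonoidHom) P ⊔ R :=
      Subgroup.mem_sup_left ⟨⟨x, hPT x.2⟩, x.2, rfl⟩
    have e0 : ψ ⟨_, hy⟩ = ((α⁻¹ ⟨φ x, apply_mem hφ x⟩ : T) : Ω) := by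
      refine Eq.trans ?_ (hχv x (apply_mem hφ x) ⟨⟨x, hPT x.2⟩, x.2, rfl⟩)
      exact h1 ⟨_, _⟩
    have e := hχ'v ⟨_, hy⟩ (apply_mem hψ _) ⟨⟨_, hW hy⟩, hy, rfl⟩
    refine Eq.trans (Eq.trans (congrArg χ' (Subtype.ext ?_)) e) ?_
    · show (x : Ω) = ((α ⟨(α⁻¹ ⟨x, hPT x.2⟩ : T), _⟩ : T) : Ω)
      exact (congrArg Subtype.val (α.apply_symm_apply ⟨x, hPT x.2⟩)).symm
    · show ((α ⟨ψ ⟨_, hy⟩, _⟩ : T) : Ω) = φ x
      rw [show (⟨ψ ⟨_, hy⟩, apply_mem hψ _⟩ : T) = α⁻¹ ⟨φ x, apply_mem hφ x⟩ from Subtype.ext e0]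
      exact congrArg Subtype.val (α.apply_symm_apply ⟨φ x, apply_mem hφ x⟩)
  · refine le_antisymm ?_ ?_
    · rintro _ ⟨x, ⟨r, hr, hrx⟩, rfl⟩
      have hrW : (r : Ω) ∈ imgHom (T.subtype.comp (α⁻¹ : MulAut T).toMonoidHom) P ⊔ R :=
        Subgroup.mem_sup_right hr
      have e := hχ'v ⟨_, hrW⟩ (apply_mem hψ _) ⟨r, hrW, rfl⟩
      have : restrictHom χ' hsup x = ((α ⟨ψ ⟨_, hrW⟩, apply_mem hψ _⟩ : T) : Ω) := by
        refine Eq.trans ?_ e
        exact congrArg χ' (Subtype.ext hrx.symm)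
      rw [this]
      exact ⟨⟨ψ ⟨_, hrW⟩, apply_mem hψ _⟩, h2.le (apply_mem_imgHom ψ hr), rfl⟩
    · rintro _ ⟨r, hr, rfl⟩
      obtain ⟨r', hr', hr'v⟩ := h2.ge hr
      have hr'T : (r' : Ω) ∈ T := hW r'.2
      refine ⟨⟨((α ⟨r', hr'T⟩ : T) : Ω), Subgroup.mem_sup_right ⟨⟨r', hr'T⟩, hr', rfl⟩⟩,
        ⟨⟨r', hr'T⟩, hr', rfl⟩, ?_⟩
      have e := hχ'v r' (apply_mem hψ _) ⟨⟨r', hr'T⟩, r'.2, rfl⟩
      refine Eq.trans ?_ (Eq.trans e ?_)
      · rfl
      · exact congrArg (fun z : T => ((α z : T) : Ω)) (Subtype.ext hr'v)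

/-- The subgroup generated by all images of a subgroup normal in a weakly normal subsystem is
normal in the whole system. -/
theorem isNormal_closure_images [Finite S] {p : ℕ} [Fact p.Prime] (hS : IsPGroup p S)
    (hF : F.IsSaturated p) (hinv : E.IsInvariantIn F) {R : Subgroup Ω} (hR : E.IsNormal R) :
    F.IsNormal (Subgroup.closure {x : Ω | ∃ φ ∈ F.Hom R, ∃ r : R, x = φ r}) := by
  have hTS : T ≤ S := hinv.2.1.1
  have hfT := finite_of_le hTS
  let C : Set (Subgroup Ω) :=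
    {X | ∃ α ∈ F.autGroup T, imgHom (T.subtype.comp (α : MulAut T).toMonoidHom) R = X}
  have hstar : Subgroup.closure {x : Ω | ∃ φ ∈ F.Hom R, ∃ r : R, x = φ r} = sSup C := by
    refine le_antisymm ((Subgroup.closure_le _).2 ?_) (sSup_le ?_)
    · rintro _ ⟨φ, hφ, r, rfl⟩
      obtain ⟨α, hα, φ₀, hφ₀, hv⟩ := hinv.2.2.2 R hR.1 φ hφ
      refine (le_sSup ⟨α, hα, rfl⟩ : imgHom _ R ≤ sSup C) ?_
      rw [hv r (apply_mem hφ₀ r)]
      exact ⟨_, (stronglyClosed_of_normal hR).2 R le_rfl φ₀ hφ₀ r, rfl⟩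
    · rintro _ ⟨α, hα, rfl⟩ _ ⟨r, hr, rfl⟩
      exact Subgroup.subset_closure
        ⟨_, restrict_mem ((mem_autGroup_iff hTS).1 hα) hR.1, ⟨r, hr⟩, rfl⟩
  have hEn : E.IsNormal (sSup C) := by
    have : sSup C = sSup {X | E.IsNormal X ∧ X ≤ sSup C} := le_antisymm
      (sSup_le fun X hX => le_sSup ⟨by
        obtain ⟨α, hα, rfl⟩ := hX
        exact isNormal_image hinv hR hα, le_sSup hX⟩) (sSup_le fun X hX => hX.2)
    rw [this]
    exact (FusionFactor.sSup_mem_of_sup_mem (S := T) {X | E.IsNormal X ∧ X ≤ sSup C}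
      (fun X hX => hX.1.1) ⟨FusionFactor.isNormal_bot E, bot_le⟩
      fun A hA B hB => ⟨FusionFactor.isNormal_sup E hA.1 hB.1, sup_le hA.2 hB.2⟩).1
  rw [hstar]
  set U := sSup C with hU
  have hUT : U ≤ T := hEn.1
  -- `U` is invariant under `Aut_F(T)`
  have hinvU : ∀ α ∈ F.autGroup T,
      imgHom (T.subtype.comp (α : MulAut T).toMonoidHom) U = U := by
    intro α hα
    have hle : imgHom (T.subtype.comp (α : MulAut T).toMonoidHom) U ≤ U := by
      have : U ≤ ((U.subgroupOf T).comap (α : MulAut T).toMonoidHom).map T.subtype := by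
        refine sSup_le ?_
        rintro _ ⟨β, hβ, rfl⟩ _ ⟨r, hr, rfl⟩
        refine ⟨β r, ?_, rfl⟩
        show ((α (β r) : T) : Ω) ∈ U
        exact (le_sSup ⟨α * β, mul_mem hα hβ, rfl⟩ : imgHom _ R ≤ U) ⟨r, hr, rfl⟩
      rintro _ ⟨x, hx, rfl⟩
      obtain ⟨y, hy, hyx⟩ := this hx
      obtain rfl : y = x := Subtype.ext hyx
      exact hy
    have := finite_of_le (hUT.trans hTS)
    exact Subgroup.eq_of_le_of_card_ge hle
      (card_imgHom (Subtype.val_injective.comp (α : MulAut T).injective) hUT).ge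
  refine isNormal_of_lowerCentralSeries hS hF (hUT.trans hTS) fun X hXU hX => ?_
  refine ⟨(hXU.trans hUT).trans hTS, fun P hP φ hφ x => ?_⟩
  have hPT : P ≤ T := hP.trans (hXU.trans hUT)
  obtain ⟨α, hα, φ₀, hφ₀, hv⟩ := hinv.2.2.2 P hPT φ hφ
  rw [hv x (apply_mem hφ₀ x)]
  have h0 : φ₀ x ∈ X :=
    (stronglyClosed_of_normal (isNormal_of_characteristic hEn hXU hX)).2 P hP φ₀ hφ₀ x
  -- the automorphism of `U` induced by `α`
  obtain ⟨β, -, hβv⟩ := exists_iso (restrict_mem ((mem_autGroup_iff hTS).1 hα) hUT)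
    ((range_restrictHom _ _).trans (hinvU α hα))
  have h1 : (⟨φ₀ x, hXU h0⟩ : U) ∈ X.subgroupOf U := h0
  rw [← hX.fixed β] at h1
  have h2 : (β ⟨φ₀ x, hXU h0⟩ : Ω) ∈ X := h1
  rwa [hβv] at h2

/-- The inner fusion system of a finite `p`-group is saturated. -/
theorem isSaturated_inner {Q : Subgroup Ω} [Finite Q] {p : ℕ} [Fact p.Prime] (hQ : IsPGroup p Q) :
    (innerFusionSystem Q).IsSaturated p := by
  have hr : (innerFusionSystem Q).IsRealizedBy (MonoidHom.id Q) := by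
    refine ⟨Function.injective_id, fun P hP φ hφ => ⟨?_, ?_⟩⟩
    · rintro ⟨-, g, hg, h⟩
      exact ⟨⟨g, hg⟩, fun x => Subtype.ext (h x)⟩
    · rintro ⟨g, hg⟩
      exact ⟨hP, g, g.2, fun x => congrArg Subtype.val (hg x)⟩
  let T : Sylow p Q := ⟨⊤, hQ.of_equiv Subgroup.topEquiv.symm, fun {_} _ h => top_le_iff.1 h⟩
  exact isSaturated_of_realized hr T (MonoidHom.range_eq_top.2 Function.surjective_id).symm

/-- `Q` is normal exactly when its inner system is weakly normal. -/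
theorem isNormal_iff_inner_isWeaklyNormalIn [Finite S] {p : ℕ} [Fact p.Prime] (hS : IsPGroup p S)
    (hF : F.IsSaturated p) {Q : Subgroup Ω} (hQ : Q ≤ S) :
    F.IsNormal Q ↔ (innerFusionSystem Q).IsWeaklyNormalIn F p := by
  have := finite_of_le hQ
  constructor
  · intro hn
    refine ⟨isSaturated_inner (hS.to_le hQ), hF, ?_, stronglyClosed_of_normal hn, ?_, ?_⟩
    · rintro P φ ⟨hP, g, hg, h⟩
      exact conj_mem' (hP.trans hQ) (hQ hg) h
    · rintro P hPQ φ ⟨-, g, hg, h⟩ α hα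
      refine ⟨conjHom _ ((α ⟨g, hg⟩ : Q) : Ω), (innerFusionSystem Q).conj_mem ?_ (α ⟨g, hg⟩).2,
        fun x hφx hαx => ?_⟩
      · rintro _ ⟨x, -, rfl⟩
        exact (α x).2
      · show ((α ⟨g, hg⟩ : Q) : Ω) * (α ⟨x, hPQ x.2⟩ : Q) * ((α ⟨g, hg⟩ : Q) : Ω)⁻¹ = _
        rw [← Subgroup.coe_inv, ← Subgroup.coe_mul, ← Subgroup.coe_mul, ← map_inv, ← map_mul,
          ← map_mul]
        exact congrArg (fun z : Q => ((α z : Q) : Ω)) (Subtype.ext (h x).symm)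
    · intro P hPQ φ hφ
      obtain ⟨ψ, hψ, h1, h2⟩ := exists_normal_extension hn hφ
      obtain ⟨α, hα, hαv⟩ := exists_iso (restrict_mem hψ (le_sup_right : Q ≤ P ⊔ Q))
        ((range_restrictHom ψ _).trans h2)
      refine ⟨α, hα.mem_autGroup, _, subtype_mem hPQ, fun x hx => ?_⟩
      rw [hαv, ← h1 x]
      rfl
  · rintro ⟨-, -, hinv⟩
    have hR : (innerFusionSystem Q).IsNormal Q := by
      refine ⟨le_rfl, fun P φ hφ => ?_⟩
      obtain ⟨hP, g, hg, h⟩ := hφ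
      refine ⟨conjHom _ g, (innerFusionSystem Q).conj_mem (sup_le hP le_rfl) hg,
        fun x => (h x).symm, le_antisymm ?_ fun y hy => ?_⟩
      · rintro _ ⟨x, hx, rfl⟩
        exact Q.mul_mem (Q.mul_mem hg hx) (Q.inv_mem hg)
      · have hy' : g⁻¹ * y * g ∈ Q := Q.mul_mem (Q.mul_mem (Q.inv_mem hg) hy) hg
        exact ⟨⟨_, Subgroup.mem_sup_right hy'⟩, hy', by simp [conjHom, mul_assoc]⟩
    convert isNormal_closure_images hS hF hinv hR using 1
    refine le_antisymm (fun q hq => by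
      refine Subgroup.subset_closure ?_
      exact ⟨Q.subtype, subtype_mem hQ, ⟨q, hq⟩, rfl⟩) ((Subgroup.closure_le _).2 ?_)
    rintro _ ⟨φ, hφ, r, rfl⟩
    exact hinv.2.1.2 Q le_rfl φ hφ r

end CfsgLib.FusionSub
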