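import Cfsg.Prelude.Def_FusionComponents
import Cfsg.Agent.Fusion.Saturation

/-!
Simplicity criteria for fusion systems and maps of a system over an abelian group.
-/

set_option autoImplicit false

namespace CfsgLib.FusionSub

open Cfsg Cfsg.FusionSystem CfsgLib.Fusion

variable {Ω : Type*} [Group Ω] {S : Subgroup Ω} {F : FusionSystem S} {p : ℕ}

/-- No proper strongly closed subgroup and `Aut_F(S) = Inn(S)` give simplicity. -/
theorem isSimple_of_stronglyClosed (hF : F.IsSaturated p) (hS1 : S ≠ ⊥)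
    (htop : F.autGroup S = Inn S)
    (hsc : ∀ T : Subgroup Ω, F.StronglyClosed T → T = ⊥ ∨ T = S) : F.IsSimple p := by
  refine ⟨hF, hS1, fun T E hE => ?_⟩
  obtain ⟨⟨-, -, hsub, hclosed, -, hfr⟩, -⟩ := hE
  rcases hsc T hclosed with h | h
  · exact Or.inl h
  · subst h
    refine Or.inr ⟨rfl, fun P => Set.Subset.antisymm (hsub P) fun φ hφ => ?_⟩
    obtain ⟨α, hα, φ₀, hφ₀, hv⟩ := hfr P (le_left hφ) φ hφ
    rw [htop] at hα
    obtain ⟨g, rfl⟩ := hα
    exact mem_of_comp hφ₀ (E.conj_mem le_rfl g.2) (apply_mem hφ₀)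
      (fun x => hv x (apply_mem hφ₀ x))

/-- Transitivity on subgroups of order `p`, `S` generated by them and `Aut_F(S) = Inn(S)` give
simplicity. -/
theorem isSimple_of_transitive [Finite S] [Fact p.Prime] (hS : IsPGroup p S)
    (hF : F.IsSaturated p) (hS1 : S ≠ ⊥)
    (hgen : Subgroup.closure {x : Ω | x ∈ S ∧ orderOf x = p} = S)
    (htr : ∀ A B : Subgroup Ω, A ≤ S → B ≤ S → Nat.card A = p → Nat.card B = p → F.IsConj A B)
    (htop : F.autGroup S = Inn S) : F.IsSimple p := by
  refine isSimple_of_stronglyClosed hF hS1 htop fun T hT => ?_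
  refine or_iff_not_imp_left.2 fun hT1 => le_antisymm hT.1 ?_
  conv_lhs => rw [← hgen]
  refine (Subgroup.closure_le T).2 fun y ⟨hy, hyp⟩ => ?_
  have : Finite T := finite_of_le hT.1
  have hTp : IsPGroup p T := isPGroup_of_le_S hS hT.1
  have hdvd : p ∣ Nat.card T := by
    obtain ⟨n, hn⟩ := hTp.exists_card_eq
    rcases n with - | n
    · exact absurd (Subgroup.card_eq_one.1 (by simpa using hn)) hT1
    · exact ⟨p ^ n, by rw [hn, pow_succ']⟩
  obtain ⟨x, hx⟩ := exists_prime_orderOf_dvd_card' p hdvd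
  have hxT : Subgroup.zpowers (x : Ω) ≤ T := Subgroup.zpowers_le.2 x.2
  obtain ⟨φ, hφ, hr⟩ := htr (Subgroup.zpowers (x : Ω)) (Subgroup.zpowers y) (hxT.trans hT.1)
    (Subgroup.zpowers_le.2 hy) (by rw [Nat.card_zpowers, Subgroup.orderOf_coe, hx])
    (by rw [Nat.card_zpowers, hyp])
  have : y ∈ φ.range := hr ▸ Subgroup.mem_zpowers y
  obtain ⟨z, rfl⟩ := this
  exact hT.2 _ hxT φ hφ z

/-- Over an abelian group every map of a saturated system extends to an automorphism of `S`. -/
theorem exists_aut_extending [Finite S] [Fact p.Prime] (hS : IsPGroup p S) (hF : F.IsSaturated p)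
    (hab : ∀ x ∈ S, ∀ y ∈ S, x * y = y * x) {P : Subgroup Ω} {φ : P →* Ω} (hφ : φ ∈ F.Hom P) :
    ∃ α ∈ F.autGroup S, ∀ x : P, φ x = (α ⟨x, le_left hφ x.2⟩ : Ω) := by
  have hC : ∀ Q : Subgroup Ω, Q ≤ S → centralizerIn S Q = S := fun Q hQ =>
    le_antisymm (centralizerIn_le S Q) fun g hg => mem_centralizerIn.2 ⟨hg, fun x hx => hab x (hQ hx) g hg⟩
  have hfc : F.IsFullyCentralized φ.range :=
    ⟨range_le hφ, fun Q hQ => by rw [hC Q (le_of_isConj_right hQ), hC _ (range_le hφ)]⟩
  obtain ⟨-, h⟩ := receptive_of_fullyCentralized hS hF hfc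
  obtain ⟨ψ, hψ, hagree⟩ := h P φ hφ rfl
  have hle : S ≤ extender S P φ := by
    conv_lhs => rw [← hC P (le_left hφ)]
    exact centralizerIn_le_extender φ
  have hψ' : restrictHom ψ hle ∈ F.Hom S := restrict_mem hψ hle
  obtain ⟨α, hα, hαv⟩ := exists_iso hψ' (eq_S_of_isConj ⟨_, hψ', rfl⟩)
  exact ⟨α, hα.mem_autGroup, fun x => by
    rw [hαv, restrictHom_apply, hagree x x.2]⟩

/-- Over an abelian group the inner system of a strongly closed subgroup is normal. -/
theorem inner_isNormalIn_of_abelian [Finite S] [Fact p.Prime] (hS : IsPGroup p S)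
    (hF : F.IsSaturated p) (hab : ∀ x ∈ S, ∀ y ∈ S, x * y = y * x) {T : Subgroup Ω}
    (hT : F.StronglyClosed T) : (innerFusionSystem T).IsNormalIn F p := by
  have : Finite T := finite_of_le hT.1
  have hTp : IsPGroup p T := isPGroup_of_le_S hS hT.1
  have hid : ∀ {P : Subgroup Ω} {φ : P →* Ω}, φ ∈ (innerFusionSystem T).Hom P → ∀ x : P, φ x = x := by
    rintro P φ ⟨hP, g, hg, h⟩ x
    rw [h x, hab g (hT.1 hg) x (hT.1 (hP x.2)), mul_inv_cancel_right]
  have haut : ∀ Q : Subgroup Ω, Q ≤ T → (innerFusionSystem T).autGroup Q = ⊥ := by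
    intro Q hQ
    rw [Subgroup.eq_bot_iff_forall]
    intro α hα
    exact MulEquiv.ext fun x => Subtype.ext (hid ((mem_autGroup_iff hQ).1 hα) x)
  refine ⟨⟨?_, hF, ?_, hT, ?_, ?_⟩, ?_⟩
  · intro Q hQ
    have hbot := haut Q hQ
    refine ⟨Q, isConj_refl hQ, isFullyAutomized_of_maximal hQ (isPGroup_autInducedBy hTp Q)
      fun X hX _ hle => ?_, hQ, fun R φ hφ hr => ?_⟩
    · exact le_antisymm (hX.trans (hbot.le.trans bot_le)) hle
    · refine ⟨_, subtype_mem ((extender_le_normalizerIn φ).trans (normalizerIn_le T R)),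
        fun x hP hN => ?_⟩
      exact (hid hφ ⟨x, hP⟩).symm
  · rintro P φ ⟨hP, g, hg, h⟩
    exact conj_mem' (hP.trans hT.1) (hT.1 hg) h
  · intro P hPT φ hφ α hα
    have hle : (P.subgroupOf T).map (T.subtype.comp α.toMonoidHom) ≤ T := by
      rintro _ ⟨x, -, rfl⟩
      exact (α x).2
    refine ⟨_, subtype_mem hle, fun x hφx hαx => ?_⟩
    exact congrArg (fun z : T => ((α z : T) : Ω)) (Subtype.ext (hid hφ x).symm)
  · intro P hPT φ hφ
    obtain ⟨β, hβ, hv⟩ := exists_aut_extending hS hF hab hφ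
    have hβ' : IsIso F β := (mem_autGroup_iff le_rfl).1 hβ
    have hr : imgHom (S.subtype.comp β.toMonoidHom) T = T := by
      refine Subgroup.eq_of_le_of_card_ge ?_
        (card_imgHom (F.injective_of_mem hβ') hT.1).ge
      rintro _ ⟨x, hx, rfl⟩
      exact hT.2 T le_rfl _ (restrict_mem hβ' hT.1) ⟨x, hx⟩
    obtain ⟨α, hα, hαv⟩ := exists_iso (restrict_mem hβ' hT.1) ((range_restrictHom _ _).trans hr)
    refine ⟨α, hα.mem_autGroup, _, subtype_mem hPT, fun x hx => ?_⟩
    rw [hv x, hαv]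
    rfl
  · intro α hα
    rw [haut T le_rfl] at hα
    refine ⟨1, one_mem _, fun x => ?_, fun c _ => ?_⟩
    · rw [Subgroup.mem_bot.1 hα]
      rfl
    · simp

theorem isSimple_iff_of_abelian [Finite S] [Fact p.Prime] (hS : IsPGroup p S)
    (hF : F.IsSaturated p) (hab : ∀ x ∈ S, ∀ y ∈ S, x * y = y * x) :
    F.IsSimple p ↔
      (Nat.card S = p ∧ ∀ P : Subgroup Ω, F.Hom P = (innerFusionSystem S).Hom P) := by
  constructor
  · rintro ⟨-, hS1, hsimp⟩
    have hSS : F.StronglyClosed S := ⟨le_rfl, fun R _ φ hφ x => apply_mem hφ x⟩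
    obtain ⟨-, heq⟩ := (hsimp S _ (inner_isNormalIn_of_abelian hS hF hab hSS)).resolve_left hS1
    refine ⟨?_, fun P => (heq P).symm⟩
    have hdvd : p ∣ Nat.card S := by
      obtain ⟨n, hn⟩ := hS.exists_card_eq
      rcases n with - | n
      · exact absurd (Subgroup.card_eq_one.1 (by simpa using hn)) hS1
      · exact ⟨p ^ n, by rw [hn, pow_succ']⟩
    obtain ⟨x, hx⟩ := exists_prime_orderOf_dvd_card' p hdvd
    have hcard : Nat.card (Subgroup.zpowers (x : Ω)) = p := by rw [Nat.card_zpowers, Subgroup.orderOf_coe, hx]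
    have hsc : F.StronglyClosed (Subgroup.zpowers (x : Ω)) := by
      refine ⟨Subgroup.zpowers_le.2 x.2, fun R hR φ hφ y => ?_⟩
      rw [← heq] at hφ
      obtain ⟨hRS, g, hg, h⟩ := hφ
      rw [h y, hab g hg y (hRS y.2), mul_inv_cancel_right]
      exact hR y.2
    rcases hsimp _ _ (inner_isNormalIn_of_abelian hS hF hab hsc) with h | ⟨h, -⟩
    · rw [h, Subgroup.card_bot] at hcard
      exact absurd hcard.symm (Fact.out : p.Prime).ne_one
    · rw [← h]
      exact hcard
  · rintro ⟨hcard, heq⟩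
    have hS1 : S ≠ ⊥ := fun h =>
      (Fact.out : p.Prime).ne_one (by rw [← hcard, h, Subgroup.card_bot])
    refine isSimple_of_stronglyClosed hF hS1 ?_ fun T hT => ?_
    · refine le_antisymm (fun α hα => ?_) (Inn_le_autGroup le_rfl)
      have h := (mem_autGroup_iff le_rfl).1 hα
      rw [IsIso, heq] at h
      obtain ⟨-, g, hg, hv⟩ := h
      exact ⟨⟨g, hg⟩, MulEquiv.ext fun x => Subtype.ext (hv x).symm⟩
    · have : Finite T := finite_of_le hT.1
      rcases (Nat.dvd_prime (Fact.out : p.Prime)).1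
        (hcard ▸ Subgroup.card_dvd_of_le hT.1) with h | h
      · exact Or.inl (Subgroup.card_eq_one.1 h)
      · exact Or.inr (Subgroup.eq_of_le_of_card_ge hT.1 (by omega))

/-- Full centralization and normalization pass to subsystems on strongly closed subgroups. -/
theorem fully_of_stronglyClosed [Finite S] [Fact p.Prime] (hS : IsPGroup p S) (hF : F.IsSaturated p)
    {T : Subgroup Ω} (hT : F.StronglyClosed T) {E : FusionSystem T} (hsub : E.IsSubsystemOf F)
    {Q : Subgroup Ω} (hQT : Q ≤ T) :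
    (F.IsFullyCentralized Q → E.IsFullyCentralized Q) ∧
      (F.IsFullyNormalized Q → E.IsFullyNormalized Q) := by
  have : Finite T := finite_of_le hT.1
  constructor
  · intro hQ
    refine ⟨hQT, fun P hP => ?_⟩
    obtain ⟨ψ, hψ, hr⟩ := isConj_symm hP
    obtain ⟨e, he, hev⟩ := exists_iso (hsub P hψ) hr
    have hPT : P ≤ T := (E.le_of_mem hψ).1
    obtain ⟨θ, hθ, hθv⟩ := exists_extension (T := P ⊔ centralizerIn T P)
      (receptive_of_fullyCentralized hS hF hQ) he
      (sup_le (le_extender he.le_left (F.le_of_mem he).2) fun g hg =>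
        centralizerIn_le_extender _ ⟨hT.1 hg.1, hg.2⟩)
    have himg := imgHom_eq_of_agree le_sup_left hθv
    have hmem : ∀ x, θ x ∈ T := hT.2 _ (sup_le hPT (centralizerIn_le T P)) θ hθ
    have := finite_of_le (centralizerIn_le T Q)
    refine Nat.card_le_card_of_injective (fun c : centralizerIn T P =>
      (⟨θ ⟨c, Subgroup.mem_sup_right c.2⟩, hmem _, ?_⟩ : centralizerIn T Q)) ?_
    · have := map_mem_centralizer (ψ := θ) le_sup_left
        (g := ⟨c, Subgroup.mem_sup_right c.2⟩) c.2.2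
      rwa [himg] at this
    · intro a b hab
      exact Subtype.ext (congrArg (fun z : ↥(P ⊔ centralizerIn T P) => (z : Ω))
        (F.injective_of_mem hθ (congrArg Subtype.val hab) :))
  · intro hQ
    obtain ⟨ha, hr⟩ := automized_receptive hS hF hQ
    refine ⟨hQT, fun P hP => ?_⟩
    obtain ⟨ψ, hψ, hψr⟩ := isConj_symm hP
    obtain ⟨θ, hθ, hmem, -⟩ := exists_map_normalizerIn hS ha hr ⟨ψ, hsub P hψ, hψr⟩
    have hle : normalizerIn T P ≤ normalizerIn S P := fun g hg => ⟨hT.1 hg.1, hg.2⟩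
    have hmemT := hT.2 _ (normalizerIn_le T P) _ (restrict_mem hθ hle)
    have := finite_of_le (normalizerIn_le T Q)
    refine Nat.card_le_card_of_injective (fun c : normalizerIn T P =>
      (⟨θ ⟨c, hle c.2⟩, hmemT c, (hmem _).2⟩ : normalizerIn T Q)) ?_
    intro a b hab
    exact Subtype.ext (congrArg (fun z : normalizerIn S P => (z : Ω))
      (F.injective_of_mem hθ (congrArg Subtype.val hab) :))

end CfsgLib.FusionSub
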