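import Cfsg.Agent.FusionTransport.Components

/-!
The layer is carried to itself by the automorphisms of the system.
-/

set_option autoImplicit false

namespace CfsgLib.FusionSub

open Cfsg Cfsg.FusionSystem CfsgLib.Fusion CfsgLib.FusionTransport CfsgLib.FusionFactor

variable {Ω : Type*} [Group Ω] {S : Subgroup Ω} {F : FusionSystem S} {p : ℕ}

/-- An automorphism of the system is an isomorphism from it to itself. -/
theorem isSysIso_of_morphisms (α : S ≃* S) (hα : F.IsMorphism F (S.subtype.comp α.toMonoidHom))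
    (hα' : F.IsMorphism F (S.subtype.comp α.symm.toMonoidHom)) :
    IsSysIso F F (S.subtype.comp α.toMonoidHom) := by
  refine ⟨fun a b hab => α.injective (Subtype.ext hab), ?_, hα.2, fun P' φ' hφ' => ?_⟩
  · ext y
    exact ⟨fun ⟨x, hx⟩ => hx ▸ (α x).2,
      fun hy => ⟨α.symm ⟨y, hy⟩, congrArg Subtype.val (α.apply_symm_apply ⟨y, hy⟩)⟩⟩
  · obtain ⟨φ, hφ, hind⟩ := hα'.2 P' φ' hφ'
    have hP' : P' ≤ S := Fusion.le_left hφ'
    have hle : preimageAlong (S.subtype.comp α.toMonoidHom) P' ≤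
        imageAlong (S.subtype.comp α.symm.toMonoidHom) P' := by
      intro x hx
      obtain ⟨hxS, hx'⟩ := mem_preimageAlong.1 hx
      exact ⟨α ⟨x, hxS⟩, hx', congrArg Subtype.val (α.symm_apply_apply ⟨x, hxS⟩)⟩
    refine ⟨_, Fusion.restrict_mem hφ hle, preimageAlong_le _ _, fun x => Fusion.apply_mem hφ _,
      fun x => (mem_preimageAlong.1 x.2).2, fun x => ?_⟩
    obtain ⟨hxS, hx'⟩ := mem_preimageAlong.1 x.2
    have hm : ((α.symm ⟨α ⟨x, hxS⟩, (α ⟨x, hxS⟩).2⟩ : S) : Ω) ∈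
        imageAlong (S.subtype.comp α.symm.toMonoidHom) P' := ⟨α ⟨x, hxS⟩, hx', rfl⟩
    have h1 := induced_apply hind ⟨_, hx'⟩ (α ⟨x, hxS⟩).2 (Fusion.apply_mem hφ' _) hm
    have h2 : restrictHom φ hle x = ((α.symm ⟨φ' ⟨_, hx'⟩, Fusion.apply_mem hφ' _⟩ : S) : Ω) :=
      (congrArg φ (Subtype.ext (congrArg Subtype.val (α.symm_apply_apply ⟨x, hxS⟩)).symm)).trans h1
    show φ' ⟨_, hx'⟩ = ((α ⟨restrictHom φ hle x, _⟩ : S) : Ω)
    simp only [h2]
    exact (congrArg Subtype.val (α.apply_symm_apply ⟨φ' ⟨_, hx'⟩, Fusion.apply_mem hφ' _⟩)).symm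

/-- The layer lies in its image under an automorphism of the system. -/
theorem layer_le_image [Finite S] [Fact p.Prime] (hS : IsPGroup p S) {θ : S →* Ω}
    (h : IsSysIso F F θ) {T : Subgroup Ω} (E : FusionSystem T) (hE : E.IsLayerOf F p) :
    ∃ (hT : T ≤ S) (E' : FusionSystem (imageAlong θ T)),
      IsSysIso E E' (θ.comp (Subgroup.inclusion hT)) ∧ E.IsSubsystemOf E' := by
  obtain ⟨hn, hcomp, hleast⟩ := hE
  have hT : T ≤ S := hn.1.2.2.2.1.1
  obtain ⟨E', hE'⟩ := exists_restrict h hT E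
  refine ⟨hT, E', hE', hleast _ E' (isNormalIn_image hS h hT hn hE') fun U C hC => ?_⟩
  obtain ⟨hU, hU'⟩ := isSubnormalIn_image hC.1 inferInstance h.symm inferInstance hS
  obtain ⟨C', hC'⟩ := exists_restrict h.symm hU C
  have := Fusion.finite_of_le hU
  have hC'comp : C'.IsComponentIn F p := ⟨hU' hC', hC'.quasisimple (hS.to_le hU) hC.2⟩
  have hsub := hcomp _ C' hC'comp
  have hU'T : imageAlong (invHom θ h.inj h.range_eq) U ≤ T := fun x hx =>
    Fusion.le_left (hsub _ (subtype_mem (F := C') le_rfl)) hx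
  have key := isSubsystemOf_image hE' hU'T hsub (T' := U) (E' := C)
  refine key ?_
  have e : (θ.comp (Subgroup.inclusion hT)).comp (Subgroup.inclusion hU'T) =
      invHom _ hC'.inj hC'.range_eq := by
    refine MonoidHom.ext ?_
    rintro ⟨y, hy⟩
    obtain ⟨u, rfl⟩ := hC'.range_eq.ge hy
    rw [invHom_apply]
    obtain ⟨v, hv⟩ := h.range_eq.ge (hU u.2)
    have e1 : (invHom θ h.inj h.range_eq).comp (Subgroup.inclusion hU) u = v := by
      show invHom θ h.inj h.range_eq ⟨u, hU u.2⟩ = v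
      rw [show (⟨(u : Ω), hU u.2⟩ : S) = ⟨θ v, h.apply_mem v⟩ from Subtype.ext hv.symm, invHom_apply]
    show θ ⟨(invHom θ h.inj h.range_eq).comp (Subgroup.inclusion hU) u, _⟩ = u
    simp only [e1]
    exact hv
  exact e ▸ hC'.symm

/-- The layer is carried onto itself by an automorphism of the system. -/
theorem layer_invariant [Finite S] [Fact p.Prime] (hS : IsPGroup p S) (α : S ≃* S)
    (hα : F.IsMorphism F (S.subtype.comp α.toMonoidHom))
    (hα' : F.IsMorphism F (S.subtype.comp α.symm.toMonoidHom))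
    {T : Subgroup Ω} (E : FusionSystem T) (hE : E.IsLayerOf F p) :
    imageAlong (S.subtype.comp α.toMonoidHom) T = T ∧
      ∀ (P : Subgroup Ω) (φ : P →* Ω), φ ∈ E.Hom P →
        ∀ φ' : imageAlong (S.subtype.comp α.toMonoidHom) P →* Ω,
          InducedAlong (S.subtype.comp α.toMonoidHom) φ φ' →
            φ' ∈ E.Hom (imageAlong (S.subtype.comp α.toMonoidHom) P) := by
  set θ := S.subtype.comp α.toMonoidHom with hθ
  have h := isSysIso_of_morphisms α hα hα'
  obtain ⟨hT, E₁, hE₁, hsub₁⟩ := layer_le_image hS h E hE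
  have := Fusion.finite_of_le hT
  refine ⟨?_, fun P φ hφ φ' hind => ?_⟩
  · have hle : T ≤ imageAlong θ T := fun x hx =>
      Fusion.le_left (hsub₁ _ (subtype_mem (F := E) le_rfl)) hx
    have := Fusion.finite_of_le (h.image_le T)
    exact (Subgroup.eq_of_le_of_card_ge hle (le_of_eq
      (Nat.card_congr (imageEquiv h.inj hT).toEquiv).symm)).symm
  · obtain ⟨hT₂, E₂, hE₂, hsub₂⟩ := layer_le_image hS h.symm E hE
    obtain ⟨χ, hχ, hindχ⟩ := hE₂.bwd P φ (hsub₂ P hφ)
    have hle : imageAlong θ P ≤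
        preimageAlong ((invHom θ h.inj h.range_eq).comp (Subgroup.inclusion hT)) P := by
      rintro _ ⟨s, hs, rfl⟩
      have hs' : (s : Ω) ∈ imageAlong (invHom θ h.inj h.range_eq) T :=
        Fusion.le_left (hsub₂ P hφ) hs
      obtain ⟨⟨t, htS⟩, ht, hts⟩ := hs'
      obtain ⟨v, rfl⟩ := h.range_eq.ge htS
      rw [invHom_apply] at hts
      obtain rfl : v = s := Subtype.ext hts
      refine mem_preimageAlong.2 ⟨ht, ?_⟩
      show invHom θ h.inj h.range_eq ⟨θ v, _⟩ ∈ P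
      rw [invHom_apply]
      exact hs
    refine mem_of_agree hχ hle fun y => ?_
    obtain ⟨s, hs, hsy⟩ := y.2
    obtain ⟨hP, hφS, hP', hv⟩ := hind
    have h1 : φ' y = θ ⟨φ ⟨s, hs⟩, hφS _⟩ :=
      (congrArg φ' (Subtype.ext hsy.symm)).trans (hv ⟨s, hs⟩)
    have hy2 := mem_preimageAlong.1 (hle y.2)
    have h2 := induced_apply hindχ (Subgroup.inclusion hle y) hy2.choose
      (Fusion.apply_mem hχ _) hy2.choose_spec
    have e1 : (⟨((invHom θ h.inj h.range_eq).comp (Subgroup.inclusion hT)) ⟨y, hy2.choose⟩,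
        hy2.choose_spec⟩ : P) = ⟨s, hs⟩ := by
      refine Subtype.ext ?_
      show invHom θ h.inj h.range_eq ⟨(y : Ω), _⟩ = (s : Ω)
      rw [show (⟨(y : Ω), hT hy2.choose⟩ : S) = ⟨θ s, h.apply_mem s⟩ from Subtype.ext hsy.symm,
        invHom_apply]
    have h3 : φ ⟨s, hs⟩ = invHom θ h.inj h.range_eq
        ⟨χ (Subgroup.inclusion hle y), hT (Fusion.apply_mem hχ _)⟩ :=
      (congrArg φ e1.symm).trans h2
    obtain ⟨v, hv'⟩ := h.range_eq.ge (hT (Fusion.apply_mem hχ (Subgroup.inclusion hle y)))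
    rw [show (⟨χ (Subgroup.inclusion hle y), hT (Fusion.apply_mem hχ _)⟩ : S) =
      ⟨θ v, h.apply_mem v⟩ from Subtype.ext hv'.symm, invHom_apply] at h3
    rw [h1]
    refine Eq.trans ?_ hv'
    exact congrArg θ (Subtype.ext h3)

end CfsgLib.FusionSub
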