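import Cfsg.Agent.FusionSub.RealizedNormal

/-!
Groups realizing simple fusion systems: minimal realizations are simple groups.
-/

set_option autoImplicit false

namespace CfsgLib.FusionSub

open Cfsg Cfsg.FusionSystem CfsgLib.Fusion

variable {G : Type*} [Group G] [Finite G] {p : ℕ} [Fact p.Prime]

theorem coprime_card_of_sylow_inf_eq_bot (U : Sylow p G) (N : Subgroup G) [N.Normal]
    (h : (U : Subgroup G) ⊓ N = ⊥) : (Nat.card N).Coprime p := by
  have h1 : (U : Subgroup G).relIndex N = Nat.card N := by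
    rw [Subgroup.relIndex, show (U : Subgroup G).subgroupOf N = ⊥ from
      Subgroup.subgroupOf_eq_bot.2 (disjoint_iff.2 h), Subgroup.index_bot]
  have h2 := CfsgLib.Transfer.not_dvd_relIndex_of_normal U N
  rw [h1] at h2
  exact ((Fact.out : p.Prime).coprime_iff_not_dvd.2 h2).symm

theorem isSimpleGroup_of_simple_system (S : Sylow p G)
    (hsimple : (groupFusionSystem (S : Subgroup G)).IsSimple p) (hcore : pPrimeCore p G = ⊥)
    (hmin : ∀ (H : Subgroup G) (hSH : (S : Subgroup G) ≤ H), H ≠ ⊤ → ∃ P : Subgroup G,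
      (fusionSystemOfSubgroup H (S : Subgroup G) hSH).Hom P ≠
        (groupFusionSystem (S : Subgroup G)).Hom P) : IsSimpleGroup G := by
  have : Nontrivial G := by
    rcases subsingleton_or_nontrivial G with h | h
    · exact absurd (Subgroup.eq_bot_of_subsingleton (S : Subgroup G)) hsimple.2.1
    · exact h
  refine ⟨fun N hN => ?_⟩
  rcases hsimple.2.2 _ _ (isNormalIn_subgroupSystem S N) with h | ⟨h, hh⟩
  · left
    rw [eq_bot_iff, ← hcore]
    exact le_sSup ⟨hN, coprime_card_of_sylow_inf_eq_bot S N h⟩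
  · right
    by_contra hne
    have hSN : (S : Subgroup G) ≤ N := h ▸ inf_le_right
    obtain ⟨P, hP⟩ := hmin N hSN hne
    refine hP ?_
    rw [← hh P]
    ext φ
    show (P ≤ _ ∧ _) ↔ (P ≤ _ ∧ _)
    rw [h]

theorem exists_quotient_realization {Ω : Type*} [Group Ω] {S : Subgroup Ω} {F : FusionSystem S}
    {ι : S →* G} (hF : F.IsRealizedBy ι) (U : Sylow p G) (hU : (U : Subgroup G) = ι.range)
    (N : Subgroup G) [N.Normal] (hN : (U : Subgroup G) ⊓ N = ⊥) :
    F.IsRealizedBy ((QuotientGroup.mk' N).comp ι) ∧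
      ∃ T : Sylow p (G ⧸ N), (T : Subgroup (G ⧸ N)) = ((QuotientGroup.mk' N).comp ι).range := by
  obtain ⟨hι, hF⟩ := hF
  have hinj : ∀ a b : G, a ∈ ι.range → b ∈ ι.range →
      QuotientGroup.mk' N a = QuotientGroup.mk' N b → a = b := by
    intro a b ha hb hab
    refine inv_mul_eq_one.1 ?_
    rw [← Subgroup.mem_bot, ← hN, hU]
    exact ⟨mul_mem (Subgroup.inv_mem _ ha) hb, QuotientGroup.eq.1 hab⟩
  refine ⟨⟨fun a b h => hι (hinj _ _ ⟨a, rfl⟩ ⟨b, rfl⟩ h), fun P hP φ hφ => ?_⟩,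
    U.mapSurjective (QuotientGroup.mk'_surjective N), ?_⟩
  swap
  · rw [Sylow.coe_mapSurjective, hU, MonoidHom.range_comp]
  rw [hF P hP φ hφ]
  constructor
  · rintro ⟨g, hg⟩
    exact ⟨QuotientGroup.mk' N g, fun x => by
      show QuotientGroup.mk' N (ι _) = _
      rw [hg, map_mul, map_mul, map_inv]
      rfl⟩
  · rintro ⟨g', hg'⟩
    obtain ⟨g, rfl⟩ := QuotientGroup.mk'_surjective N g'
    have hgx : ∀ x : P, QuotientGroup.mk' N (ι ⟨φ x, hφ x⟩) =
        QuotientGroup.mk' N (g * ι ⟨x, hP x.2⟩ * g⁻¹) := fun x => by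
      rw [map_mul, map_mul, map_inv]
      exact hg' x
    let θ : P →* G := ι.comp (φ.codRestrict S hφ)
    have hθ : ∀ x : P, θ x = ι ⟨φ x, hφ x⟩ := fun x => rfl
    have hQU : θ.range ≤ (U : Subgroup G) := by
      rw [hU]; rintro _ ⟨x, rfl⟩; exact ⟨_, rfl⟩
    let Y := (im ι P).map (MulAut.conj g).toMonoidHom
    have hY : IsPGroup p Y :=
      ((hU.symm ▸ U.isPGroup' : IsPGroup p ι.range).to_le (im_le_range ι P)).map _
    have hYK : Y ≤ θ.range ⊔ N := by
      rintro _ ⟨_, ⟨s, hs, rfl⟩, rfl⟩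
      have h1 := QuotientGroup.eq.1 (hgx ⟨s, hs⟩)
      have h2 : (MulAut.conj g) (ι s) = θ ⟨s, hs⟩ *
          ((ι ⟨φ ⟨s, hs⟩, hφ _⟩)⁻¹ * (g * ι s * g⁻¹)) := by
        rw [hθ, mul_inv_cancel_left, MulAut.conj_apply]
      show (MulAut.conj g) (ι s) ∈ _
      rw [h2]
      exact mul_mem (Subgroup.mem_sup_left ⟨⟨s, hs⟩, rfl⟩) (Subgroup.mem_sup_right h1)
    have hsyl : IsSylowIn p (θ.range ⊔ N) θ.range := by
      refine isSylowIn_of_card_max le_sup_left (U.isPGroup'.to_le hQU) fun X hX hXp => ?_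
      have hXN : X ⊓ N = ⊥ := by
        have hc := coprime_card_of_sylow_inf_eq_bot U N hN
        obtain ⟨k, hk⟩ := (hXp.to_le (inf_le_left : X ⊓ N ≤ X)).exists_card_eq
        refine Subgroup.eq_bot_of_card_eq _ (Nat.eq_one_of_dvd_coprimes (hc.pow_right k) ?_ ?_)
        · exact Subgroup.card_dvd_of_le inf_le_right
        · rw [hk]
      have h1 : X.map (QuotientGroup.mk' N) ≤ θ.range.map (QuotientGroup.mk' N) := by
        refine (Subgroup.map_mono hX).trans ?_
        rw [Subgroup.map_sup, QuotientGroup.map_mk'_self, sup_bot_eq]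
      have h2 : Nat.card X ≤ Nat.card (X.map (QuotientGroup.mk' N)) :=
        Nat.card_le_card_of_injective
          (fun x : X => (⟨QuotientGroup.mk' N x, x, x.2, rfl⟩ : X.map (QuotientGroup.mk' N)))
          fun a b h => Subtype.ext (inv_mul_eq_one.1 (by
            rw [← Subgroup.mem_bot, ← hXN]
            exact ⟨mul_mem (Subgroup.inv_mem _ a.2) b.2, QuotientGroup.eq.1 (congrArg Subtype.val h)⟩))
      exact h2.trans ((Subgroup.card_le_of_le h1).trans
        (Nat.le_of_dvd Nat.card_pos (Subgroup.card_map_dvd _ _)))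
    obtain ⟨a, ha, haY⟩ := hsyl.exists_conj hYK hY
    obtain ⟨q, hq, n, hn, rfl⟩ := Subgroup.mem_sup_of_normal_right.1 ha
    refine ⟨n * g, fun x => hinj _ _ ⟨_, rfl⟩ ?_ ?_⟩
    · have h1 := haY _ ⟨_, ⟨⟨x, hP x.2⟩, x.2, rfl⟩, rfl⟩
      have h2 : n * (MulAut.conj g) (ι ⟨x, hP x.2⟩) * n⁻¹ ∈ θ.range := by
        have h3 := mul_mem (mul_mem (Subgroup.inv_mem _ hq) h1) hq
        simpa [mul_assoc] using h3
      have h4 := hQU h2
      rw [hU] at h4
      simpa [mul_assoc] using h4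
    · rw [hgx x]
      have hn1 : QuotientGroup.mk' N n = 1 := (QuotientGroup.eq_one_iff n).2 hn
      simp only [map_mul, map_inv, hn1, one_mul]

universe u

theorem exists_simple_realization {Ω : Type u} [Group Ω] {S : Subgroup Ω} {F : FusionSystem S}
    (hsimple : F.IsSimple p) (hreal : F.IsRealizable p) :
    ∃ (G : Type u) (_ : Group G) (_ : Finite G) (_ : IsSimpleGroup G) (ι : S →* G),
      F.IsRealizedBy ι ∧ ∃ T : Sylow p G, (T : Subgroup G) = ι.range := by
  classical
  suffices ∀ (n : ℕ) (G : Type u) [Group G] [Finite G] (ι : S →* G), Nat.card G ≤ n →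
      F.IsRealizedBy ι → (∃ T : Sylow p G, (T : Subgroup G) = ι.range) →
      ∃ (G : Type u) (_ : Group G) (_ : Finite G) (_ : IsSimpleGroup G) (ι : S →* G),
      F.IsRealizedBy ι ∧ ∃ T : Sylow p G, (T : Subgroup G) = ι.range by
    obtain ⟨G, _, _, ι, h1, h2⟩ := hreal
    exact this _ G ι le_rfl h1 h2
  intro n
  induction n with
  | zero => exact fun G _ _ ι h => absurd h (Nat.not_le.2 Nat.card_pos)
  | succ n ih =>
    intro G _ _ ι hcard hF hT
    obtain ⟨U, hU⟩ := hT
    by_cases hs : IsSimpleGroup G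
    · exact ⟨G, inferInstance, inferInstance, hs, ι, hF, U, hU⟩
    have : Nontrivial G := by
      rcases subsingleton_or_nontrivial G with h | h
      · refine absurd ((Subgroup.eq_bot_iff_forall _).2 fun x hx => ?_) hsimple.2.1
        exact congrArg Subtype.val
          (hF.1 (Subsingleton.elim (ι ⟨x, hx⟩) (ι 1)) : (⟨x, hx⟩ : S) = 1)
      · exact h
    obtain ⟨N, hN, hbot, htop⟩ : ∃ N : Subgroup G, N.Normal ∧ N ≠ ⊥ ∧ N ≠ ⊤ := by
      by_contra hne
      exact hs ⟨fun N hN => by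
        by_contra h
        push Not at h
        exact hne ⟨N, hN, h.1, h.2⟩⟩
    rcases hsimple.2.2 _ _ (normalPart_isNormalIn hF U hU N) with h | ⟨h, hh⟩
    · have hUN : (U : Subgroup G) ⊓ N = ⊥ := by
        rw [hU, ← im_part, h, im, Subgroup.bot_subgroupOf, Subgroup.map_bot]
      obtain ⟨h1, h2⟩ := exists_quotient_realization hF U hU N hUN
      refine ih (G ⧸ N) _ ?_ h1 h2
      have h3 := Subgroup.card_eq_card_quotient_mul_card_subgroup N
      have h4 : 1 < Nat.card N := (Subgroup.one_lt_card_iff_ne_bot N).2 hbot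
      have h5 : 0 < Nat.card (G ⧸ N) := Nat.card_pos
      nlinarith
    · have hSN : ∀ x : S, ι x ∈ N := fun x => (mem_part_iff ι N x.2).1 (h.symm ▸ x.2)
      refine ih N (ι.codRestrict N hSN) ?_ ⟨fun a b hab => hF.1 (congrArg Subtype.val hab),
        fun P hP φ hφ => ?_⟩ ⟨U.subtype (hU ▸ fun _ ⟨x, hx⟩ => hx ▸ hSN x), ?_⟩
      · have h4 := Subgroup.card_le_card_group N
        rcases Nat.lt_or_eq_of_le h4 with h5 | h5
        · omega
        · exact absurd (Subgroup.eq_top_of_card_eq N h5) htop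
      · rw [← hh P]
        constructor
        · rintro ⟨-, -, -, _, _, g, hg, he⟩
          exact ⟨⟨g, hg⟩, fun x => Subtype.ext (he x)⟩
        · rintro ⟨g, hg⟩
          refine ⟨h.symm ▸ hP, fun x => h.symm ▸ hφ x,
            F.injective_of_mem ((hF.2 P hP φ hφ).2 ⟨g, fun x => congrArg Subtype.val (hg x)⟩),
            hP, hφ, g, g.2, fun x => congrArg Subtype.val (hg x)⟩
      · rw [Sylow.coe_subtype, hU]
        ext x
        constructor
        · rintro ⟨s, hs⟩
          exact ⟨s, Subtype.ext hs⟩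
        · rintro ⟨s, rfl⟩
          exact ⟨s, rfl⟩

end CfsgLib.FusionSub
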