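import Cfsg.Agent.Fusion.ModelExist
import Cfsg.Agent.Fusion.ModelBasic
import Cfsg.Agent.Fusion.Realized
import Cfsg.Agent.FusionSub.SimpleRealized
import Cfsg.Agent.FusionConstrained.Inherit
import Cfsg.Agent.PLocal.Constraint

/-!
Fusion systems of `p`-solvable groups.
-/

set_option autoImplicit false

namespace CfsgLib.FusionSub

open Cfsg Cfsg.FusionSystem CfsgLib.Fusion

universe u

variable {Ω : Type u} [Group Ω] {S : Subgroup Ω} [Finite S] {p : ℕ} [Fact p.Prime]
  {F : FusionSystem S}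

omit [Finite S] [Fact p.Prime] in
/-- In a model, the automizer of a normal subgroup is a quotient of the group, with kernel the
centralizer of the image. -/
theorem exists_surj_autGroup {G : Type*} [Group G] {ι : S →* G} (hG : F.IsModel p G ι)
    {R : Subgroup Ω} (hR : F.IsNormal R) :
    ∃ f : G →* F.autGroup R, Function.Surjective f ∧
      f.ker ≤ Subgroup.centralizer (im ι R : Set G) := by
  have := hG.1
  have hn : (im ι R).Normal := im_normal_of_isNormal hG hR
  obtain ⟨eP, -, hmap, -⟩ := exists_aut_transport hG.2.1 hR.1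
  have hN : ∀ g : G, g ∈ Subgroup.normalizer (im ι R : Set G) := fun g => by
    rw [Subgroup.normalizer_eq_top]; trivial
  have hmem : ∀ g : G, (MulAut.congr eP).symm ((im ι R).normalizerMonoidHom ⟨g, hN g⟩) ∈
      F.autGroup R := by
    intro g
    have h1 : (im ι R).normalizerMonoidHom ⟨g, hN g⟩ ∈
        (F.autGroup R).map (MulAut.congr eP).toMonoidHom :=
      hmap ▸ mem_autInducedBy_iff.2 ⟨g, trivial, hN g, fun _ => rfl⟩
    obtain ⟨α, hα, he⟩ := h1
    rw [← he]
    show (MulAut.congr eP).symm (MulAut.congr eP α) ∈ _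
    rwa [MulEquiv.symm_apply_apply]
  refine ⟨{ toFun := fun g => ⟨_, hmem g⟩, map_one' := ?_, map_mul' := fun a b => ?_ }, ?_, ?_⟩
  · exact Subtype.ext (by
      show (MulAut.congr eP).symm ((im ι R).normalizerMonoidHom ⟨1, hN 1⟩) = 1
      rw [show (⟨1, hN 1⟩ : Subgroup.normalizer (im ι R : Set G)) = 1 from rfl, map_one, map_one])
  · exact Subtype.ext (by
      show (MulAut.congr eP).symm ((im ι R).normalizerMonoidHom ⟨a * b, hN _⟩) = _
      rw [show (⟨a * b, hN _⟩ : Subgroup.normalizer (im ι R : Set G)) = ⟨a, hN a⟩ * ⟨b, hN b⟩ from rfl,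
        map_mul, map_mul]
      rfl)
  · rintro ⟨α, hα⟩
    have h1 : MulAut.congr eP α ∈ autInducedBy (⊤ : Subgroup G) (im ι R) :=
      hmap ▸ ⟨α, hα, rfl⟩
    obtain ⟨g, -, hg, hgv⟩ := mem_autInducedBy_iff.1 h1
    refine ⟨g, Subtype.ext ?_⟩
    show (MulAut.congr eP).symm ((im ι R).normalizerMonoidHom ⟨g, hN g⟩) = α
    rw [MulEquiv.symm_apply_eq]
    exact MulEquiv.ext fun x => Subtype.ext (hgv x).symm
  · intro g hg
    rw [Subgroup.mem_centralizer_iff]
    intro v hv
    have h1 : (MulAut.congr eP).symm ((im ι R).normalizerMonoidHom ⟨g, hN g⟩) = 1 :=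
      congrArg Subtype.val hg
    rw [MulEquiv.symm_apply_eq, map_one] at h1
    have h2 : g * v * g⁻¹ = v :=
      congrArg Subtype.val (DFunLike.congr_fun h1 (⟨v, hv⟩ : im ι R))
    exact (mul_inv_eq_iff_eq_mul.1 h2).symm

theorem isPSolvable_realized_iff (hS : IsPGroup p S) (hF : F.IsSaturated p) :
    (∃ (G : Type u) (_ : Group G) (_ : Finite G) (ι : S →* G), Cfsg.IsPSolvable p G ∧ F.IsRealizedBy ι ∧
        ∃ T : Sylow p G, (T : Subgroup G) = ι.range) ↔
      (F.IsConstrained p ∧ Cfsg.IsPSolvable p ↥(F.autGroup F.core)) := by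
  constructor
  · rintro ⟨G, _, _, ι, hG, hreal, T, hT⟩
    set N := pPrimeCore p G with hN
    have : N.Normal := Subgroup.sSup_normal _ fun M hM => hM.1
    have hTN : (T : Subgroup G) ⊓ N = ⊥ := by
      obtain ⟨k, hk⟩ := (T.isPGroup'.to_le (inf_le_left : (T : Subgroup G) ⊓ N ≤ T)).exists_card_eq
      refine Subgroup.eq_bot_of_card_eq _ (Nat.eq_one_of_dvd_coprimes
        ((PLocal.coprime_card_pPrimeCore p G).pow_right k) ?_ ?_)
      · exact Subgroup.card_dvd_of_le inf_le_right
      · rw [hk]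
    obtain ⟨hreal', hT'⟩ := exists_quotient_realization hreal T hT N hTN
    have hG' : Cfsg.IsPSolvable p (G ⧸ N) := PLocal.isPSolvable_quotient hG N
    have hmodel : F.IsModel p (G ⧸ N) ((QuotientGroup.mk' N).comp ι) :=
      ⟨inferInstance, hreal', hT', PLocal.centralizer_pCore_le hG'
        (PLocal.pPrimeCore_quotient_pPrimeCore_eq_bot p G)⟩
    obtain ⟨Q, hQS, hQim, hQn⟩ := exists_pCore_preimage hmodel
    have hQc : F.IsCentric Q := by
      refine FusionConstrained.isCentric_of_stronglyClosed (stronglyClosed_of_normal hQn) fun c hc => ?_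
      obtain ⟨hcS, hc'⟩ := mem_centralizerIn'.1 hc
      refine (apply_mem_im_iff hreal'.1 (x := ⟨c, hcS⟩)).1 ?_
      rw [hQim]
      refine hmodel.2.2.2 (Subgroup.mem_centralizer_iff.2 ?_)
      rw [← hQim]
      rintro _ ⟨x, hx, rfl⟩
      rw [← map_mul, ← map_mul]
      refine congrArg _ (Subtype.ext ?_)
      exact (mul_inv_eq_iff_eq_mul.1 (hc' x hx)).symm
    obtain ⟨f, hf, -⟩ := exists_surj_autGroup hmodel (FusionFactor.isNormal_core F)
    exact ⟨⟨hF, Q, hQn, hQc⟩, PLocal.isPSolvable_of_surjective hG' hf⟩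
  · rintro ⟨⟨-, Q, hQn, hQc⟩, hA⟩
    have hRn := FusionFactor.isNormal_core F
    have hRc : F.IsCentric F.core := isCentric_of_le hQc (le_sSup hQn) hRn.1
    obtain ⟨G, _, ι, hmodel⟩ := exists_model hS hF hRn hRc
    have := hmodel.1
    refine ⟨G, inferInstance, hmodel.1, ι, ?_, hmodel.2.1, hmodel.2.2.1⟩
    obtain ⟨f, hf, hker⟩ := exists_surj_autGroup hmodel hRn
    obtain ⟨Q', hQ'S, hQ'im, hQ'n⟩ := exists_pCore_preimage hmodel
    have hle : pCore p G ≤ im ι F.core := hQ'im ▸ im_mono ι (le_sSup hQ'n)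
    have hkp : IsPGroup p f.ker :=
      (PLocal.isPGroup_pCore p G).to_le
        ((hker.trans (Subgroup.centralizer_le hle)).trans hmodel.2.2.2)
    exact PLocal.isPSolvable_of_extension f.ker (PLocal.isPSolvable_of_isPGroup hkp)
      (PLocal.isPSolvable_congr hA (QuotientGroup.quotientKerEquivOfSurjective f hf).symm)

end CfsgLib.FusionSub
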