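import Cfsg.Agent.Fusion.NormalSubgroupSystem

/-!
For a system realized by `ι : S →* G` on a Sylow subgroup and a normal subgroup `H` of `G`, the maps
conjugated by elements of `H` form a normal subsystem over `ι⁻¹(H)`.
-/

set_option autoImplicit false

namespace CfsgLib.FusionSub

open Cfsg Cfsg.FusionSystem CfsgLib.Fusion

variable {Ω : Type*} [Group Ω] {S : Subgroup Ω} {G : Type*} [Group G]

/-- A homomorphism into `S` read from conjugation in `G`. -/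
theorem exists_hom_of_conj {ι : S →* G} (hι : Function.Injective ι) {P : Subgroup Ω} (hP : P ≤ S)
    (g : G) (h : ∀ x : P, g * ι ⟨x, hP x.2⟩ * g⁻¹ ∈ ι.range) :
    ∃ φ : P →* Ω, ∃ hφ : ∀ x : P, φ x ∈ S, ∀ x : P, ι ⟨φ x, hφ x⟩ = g * ι ⟨x, hP x.2⟩ * g⁻¹ := by
  let e := MonoidHom.ofInjective hι
  let f : P →* ι.range := (((MulAut.conj g).toMonoidHom.comp ι).comp
    (Subgroup.inclusion hP)).codRestrict ι.range h
  refine ⟨S.subtype.comp (e.symm.toMonoidHom.comp f), fun x => Subtype.mem _, fun x => ?_⟩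
  exact MonoidHom.apply_ofInjective_symm hι (f x)

theorem map_mul_inv' {A B : Type*} [Group A] [Group B] (f : A →* B) (a x : A) :
    f (a * x * a⁻¹) = f a * f x * (f a)⁻¹ := by
  rw [map_mul, map_mul, map_inv]

/-- The maps over `T` induced by elements of `H`. -/
def normalPart (ι : S →* G) (H : Subgroup G) :
    FusionSystem ((H.comap ι).map S.subtype) where
  Hom P := {φ | P ≤ (H.comap ι).map S.subtype ∧ (∀ x : P, φ x ∈ (H.comap ι).map S.subtype) ∧
    Function.Injective φ ∧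
    ∃ (hP : P ≤ S) (hφ : ∀ x : P, φ x ∈ S), ∃ g ∈ H, ∀ x : P,
      ι ⟨φ x, hφ x⟩ = g * ι ⟨x, hP x.2⟩ * g⁻¹}
  le_of_mem h := ⟨h.1, h.2.1⟩
  injective_of_mem := fun h => h.2.2.1
  conj_mem := by
    intro P g hP hg
    obtain ⟨g', hg', rfl⟩ := id hg
    refine ⟨hP, fun x => ?_, fun a b hab => Subtype.ext ?_, hP.trans (Subgroup.map_subtype_le _),
      fun x => S.mul_mem (S.mul_mem g'.2 (hP.trans (Subgroup.map_subtype_le _) x.2))
        (S.inv_mem g'.2), ι g', hg', fun x => ?_⟩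
    · exact mul_mem (mul_mem hg (hP x.2)) (Subgroup.inv_mem _ hg)
    · simpa [conjHom] using hab
    · exact (map_mul_inv' ι g' ⟨x, (hP.trans (Subgroup.map_subtype_le _)) x.2⟩ :)
  comp_mem := by
    rintro P Q φ ψ ⟨hP, hφT, hφi, hPS, hφS, g, hg, hgv⟩ ⟨-, hψT, hψi, hQS, hψS, k, hk, hkv⟩ h
    refine ⟨hP, fun x => hψT _, hψi.comp fun a b hab => hφi (congrArg Subtype.val hab), hPS,
      fun x => hψS _, k * g, mul_mem hk hg, fun x => ?_⟩
    refine (hkv (φ.codRestrict Q h x)).trans ?_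
    show k * ι ⟨φ x, _⟩ * k⁻¹ = _
    rw [hgv x, mul_inv_rev]
    simp only [mul_assoc]
  inv_mem := by
    rintro P φ ⟨hP, hφT, hφi, hPS, hφS, g, hg, hgv⟩
    have e := MonoidHom.ofInjective hφi
    refine ⟨P.subtype.comp (MonoidHom.ofInjective hφi).symm.toMonoidHom,
      ⟨?_, fun y => hP (Subtype.mem _), P.subtype_injective.comp (MulEquiv.injective _),
        ?_, fun y => hPS (Subtype.mem _), g⁻¹, inv_mem hg, ?_⟩, fun x => ?_⟩
    · rintro _ ⟨x, rfl⟩
      exact hφT x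
    · rintro _ ⟨x, rfl⟩
      exact hφS x
    · rintro ⟨_, x, rfl⟩
      have hx : (MonoidHom.ofInjective hφi).symm ⟨φ x, x, rfl⟩ = x :=
        (MonoidHom.ofInjective hφi).symm_apply_apply x
      show ι ⟨(((MonoidHom.ofInjective hφi).symm ⟨φ x, x, rfl⟩ : P) : Ω), _⟩ =
        g⁻¹ * ι ⟨φ x, hφS x⟩ * g⁻¹⁻¹
      rw [hgv x, inv_inv]
      simp only [hx, mul_assoc, inv_mul_cancel, mul_one, inv_mul_cancel_left]
    · exact congrArg Subtype.val ((MonoidHom.ofInjective hφi).symm_apply_apply x)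

variable {p : ℕ} {ι : S →* G} {F : FusionSystem S}

theorem im_part (ι : S →* G) (H : Subgroup G) :
    im ι ((H.comap ι).map S.subtype) = ι.range ⊓ H := by
  rw [im, Subgroup.subgroupOf, Subgroup.comap_map_eq_self_of_injective S.subtype_injective,
    Subgroup.map_comap_eq]

theorem mem_part_iff (ι : S →* G) (H : Subgroup G) {x : Ω} (hx : x ∈ S) :
    x ∈ (H.comap ι).map S.subtype ↔ ι ⟨x, hx⟩ ∈ H :=
  Subgroup.mem_map_iff_mem S.subtype_injective (x := ⟨x, hx⟩)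

theorem normalPart_isSaturated [Finite G] [Fact p.Prime] (hι : Function.Injective ι)
    (U : Sylow p G) (hU : (U : Subgroup G) = ι.range) (H : Subgroup G) [H.Normal] :
    (normalPart ι H).IsSaturated p := by
  let κ : ↥((H.comap ι).map S.subtype) →* H :=
    (ι.comp (Subgroup.inclusion (Subgroup.map_subtype_le _))).codRestrict H fun x =>
      (mem_part_iff ι H (Subgroup.map_subtype_le _ x.2)).1 x.2
  have hr : (normalPart ι H).IsRealizedBy κ := by
    refine ⟨fun a b hab => Subtype.ext (congrArg Subtype.val (hι (congrArg Subtype.val hab)) :),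
      fun P hP φ hφ => ⟨?_, ?_⟩⟩
    · rintro ⟨-, -, -, _, _, g, hg, he⟩
      exact ⟨⟨g, hg⟩, fun x => Subtype.ext (he x)⟩
    · rintro ⟨g, hg⟩
      have hv : ∀ x : P, ι ⟨φ x, Subgroup.map_subtype_le _ (hφ x)⟩ =
          g * ι ⟨x, Subgroup.map_subtype_le _ (hP x.2)⟩ * (g : G)⁻¹ := fun x =>
        congrArg Subtype.val (hg x)
      refine ⟨hP, hφ, fun a b hab => ?_, hP.trans (Subgroup.map_subtype_le _),
        fun x => Subgroup.map_subtype_le _ (hφ x), g, g.2, hv⟩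
      have h2 : (g : G) * ι ⟨a, Subgroup.map_subtype_le _ (hP a.2)⟩ * (g : G)⁻¹ =
          g * ι ⟨b, Subgroup.map_subtype_le _ (hP b.2)⟩ * (g : G)⁻¹ := by
        rw [← hv a, ← hv b]
        simp only [hab]
      exact Subtype.ext (congrArg Subtype.val (hι (mul_left_cancel (mul_right_cancel h2))) :)
  refine isSaturated_of_realized hr ((U.isPGroup'.comap_subtype (K := H)).toSylow
    (CfsgLib.Transfer.not_dvd_relIndex_of_normal U H)) ?_
  ext x
  constructor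
  · intro hx
    obtain ⟨s, hs⟩ := (hU.le hx : (x : G) ∈ ι.range)
    exact ⟨⟨s, (mem_part_iff ι H s.2).2 (hs ▸ x.2)⟩, Subtype.ext hs⟩
  · rintro ⟨s, rfl⟩
    exact hU.ge ⟨_, rfl⟩

/-- The normal subsystem attached to a normal subgroup of a realizing group. -/
theorem normalPart_isNormalIn [Finite G] [Fact p.Prime] (hF : F.IsRealizedBy ι)
    (U : Sylow p G) (hU : (U : Subgroup G) = ι.range) (H : Subgroup G) [H.Normal] :
    (normalPart ι H).IsNormalIn F p := by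
  have hι := hF.1
  obtain ⟨T, hT⟩ : ∃ T, T = (H.comap ι).map S.subtype := ⟨_, rfl⟩
  have hTS : (H.comap ι).map S.subtype ≤ S := Subgroup.map_subtype_le _
  have himT : im ι ((H.comap ι).map S.subtype) = (U : Subgroup G) ⊓ H := by rw [im_part, hU]
  have haut : ∀ {α : MulAut ↥((H.comap ι).map S.subtype)}, α ∈ F.autGroup _ → ∃ g : G,
      g ∈ Subgroup.normalizer (((U : Subgroup G) ⊓ H : Subgroup G) : Set G) ∧
      ∀ v : ↥((H.comap ι).map S.subtype),
        ι ⟨α v, hTS (α v).2⟩ = g * ι ⟨v, hTS v.2⟩ * g⁻¹ := by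
    intro α hα
    obtain ⟨g, hg⟩ := (hF.2 _ hTS _ fun v => hTS (α v).2).1 ((mem_autGroup_iff hTS).1 hα)
    refine ⟨g, mem_normalizer_of_conj_mem fun y hy => ?_, hg⟩
    rw [← himT] at hy ⊢
    obtain ⟨s, hs, rfl⟩ := hy
    exact ⟨⟨α ⟨s, hs⟩, hTS (α ⟨s, hs⟩).2⟩, (α ⟨s, hs⟩).2, hg ⟨s, hs⟩⟩
  refine ⟨⟨normalPart_isSaturated hι U hU H, isSaturated_of_realized hF U hU, ?_, ?_, ?_, ?_⟩, ?_⟩
  · rintro P φ ⟨-, -, -, hP, hφ, g, -, hg⟩
    exact (hF.2 P hP φ hφ).2 ⟨g, hg⟩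
  · refine ⟨hTS, fun R hR φ hφ x => ?_⟩
    obtain ⟨g, hg⟩ := (hF.2 R (hR.trans hTS) φ (apply_mem hφ)).1 hφ
    refine (mem_part_iff ι H (apply_mem hφ x)).2 ?_
    rw [hg]
    exact Subgroup.Normal.conj_mem inferInstance _
      ((mem_part_iff ι H (hTS (hR x.2))).1 (hR x.2)) g
  · intro P hPT φ hφ α hα
    obtain ⟨-, hφT, -, hPS, hφS, h, hh, hhx⟩ := hφ
    obtain ⟨g, -, hg⟩ := haut hα
    set P' := (P.subgroupOf _).map
      ((((H.comap ι).map S.subtype)).subtype.comp α.toMonoidHom) with hP'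
    have hP'T : P' ≤ (H.comap ι).map S.subtype := by
      rintro _ ⟨v, -, rfl⟩
      exact Subtype.mem _
    have key : ∀ (x : P), g * h * g⁻¹ * ι ⟨α ⟨x, hPT x.2⟩, hTS (Subtype.mem _)⟩ *
        (g * h * g⁻¹)⁻¹ = ι ⟨α ⟨φ x, hφT x⟩, hTS (Subtype.mem _)⟩ := by
      intro x
      rw [hg, hg]
      show _ = g * ι ⟨φ x, hφS x⟩ * g⁻¹
      rw [hhx]
      group
    obtain ⟨χ, hχS, hχ⟩ := exists_hom_of_conj hι (hP'T.trans hTS) (g * h * g⁻¹) (by
      rintro ⟨_, v, hv, rfl⟩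
      exact ⟨_, (key ⟨v, hv⟩).symm⟩)
    have hghg : g * h * g⁻¹ ∈ H := Subgroup.Normal.conj_mem inferInstance _ hh g
    refine ⟨χ, ⟨hP'T, fun y => ?_, ?_, hP'T.trans hTS, hχS, _, hghg, hχ⟩, fun x hφx hαx => ?_⟩
    · refine (mem_part_iff ι H (hχS y)).2 ?_
      rw [hχ]
      exact mul_mem (mul_mem hghg ((mem_part_iff ι H (hTS (hP'T y.2))).1 (hP'T y.2)))
        (inv_mem hghg)
    · intro a b hab
      have h2 : g * h * g⁻¹ * ι ⟨a, hTS (hP'T a.2)⟩ * (g * h * g⁻¹)⁻¹ =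
          g * h * g⁻¹ * ι ⟨b, hTS (hP'T b.2)⟩ * (g * h * g⁻¹)⁻¹ := by
        rw [← hχ a, ← hχ b]
        simp only [hab]
      exact Subtype.ext (congrArg Subtype.val (hι (mul_left_cancel (mul_right_cancel h2))) :)
    · exact congrArg Subtype.val (hι ((hχ ⟨_, hαx⟩).trans (key x)))
  · intro P hP φ hφ
    obtain ⟨g, hg⟩ := (hF.2 P (hP.trans hTS) φ (apply_mem hφ)).1 hφ
    have htop := Sylow.normalizer_sup_eq_top
      ((U.isPGroup'.comap_subtype (K := H)).toSylow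
        (CfsgLib.Transfer.not_dvd_relIndex_of_normal U H))
    have hmem : g ∈ Subgroup.normalizer (((U : Subgroup G) ⊓ H : Subgroup G) : Set G) ⊔ H := by
      have e : (((U.isPGroup'.comap_subtype (K := H)).toSylow
        (CfsgLib.Transfer.not_dvd_relIndex_of_normal U H) : Sylow p H) : Subgroup H).map H.subtype =
          (U : Subgroup G) ⊓ H := Subgroup.subgroupOf_map_subtype _ _
      rw [e] at htop
      exact htop ▸ Subgroup.mem_top g
    obtain ⟨n, hn, h, hh, rfl⟩ := Subgroup.mem_sup_of_normal_right.1 hmem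
    obtain ⟨a, haS, ha⟩ := exists_hom_of_conj hι hTS n (fun v => by
      have h1 : n * ι ⟨v, hTS v.2⟩ * n⁻¹ ∈ (U : Subgroup G) ⊓ H :=
        (Subgroup.mem_normalizer_iff.1 hn _).1 (himT ▸ ⟨⟨v, hTS v.2⟩, v.2, rfl⟩)
      exact hU.le h1.1)
    have haF : a ∈ F.Hom _ := (hF.2 _ hTS a haS).2 ⟨n, ha⟩
    have haT : ∀ v, a v ∈ (H.comap ι).map S.subtype := fun v => by
      refine (mem_part_iff ι H (haS v)).2 ?_
      rw [ha]
      exact Subgroup.Normal.conj_mem inferInstance _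
        ((mem_part_iff ι H (hTS v.2)).1 v.2) n
    have : Finite S := Finite.of_injective ι hι
    have := finite_of_le hTS
    have := finite_of_le (range_le haF)
    obtain ⟨α, hα, hαv⟩ := exists_iso haF (Subgroup.eq_of_le_of_card_ge
      (by rintro _ ⟨v, rfl⟩; exact haT v)
      (Nat.card_le_card_of_injective a.rangeRestrict
        ((MonoidHom.rangeRestrict_injective_iff).2 (F.injective_of_mem haF))))
    have hmemU : ∀ x : P, h * ι ⟨x, hTS (hP x.2)⟩ * h⁻¹ ∈ (U : Subgroup G) ⊓ H := fun x => by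
      refine (Subgroup.mem_normalizer_iff.1 hn _).2 ?_
      have e : ι ⟨φ x, apply_mem hφ x⟩ = n * (h * ι ⟨x, hTS (hP x.2)⟩ * h⁻¹) * n⁻¹ := by
        rw [hg]
        group
      rw [← e]
      refine ⟨hU.ge ⟨_, rfl⟩, ?_⟩
      rw [hg]
      exact Subgroup.Normal.conj_mem inferInstance _
        ((mem_part_iff ι H (hTS (hP x.2))).1 (hP x.2)) _
    obtain ⟨φ₀, hφ₀S, hφ₀⟩ := exists_hom_of_conj hι (hP.trans hTS) h fun x => hU.le (hmemU x).1
    have hφ₀T : ∀ x, φ₀ x ∈ (H.comap ι).map S.subtype := fun x => by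
      refine (mem_part_iff ι H (hφ₀S x)).2 ?_
      rw [hφ₀]
      exact (hmemU x).2
    refine ⟨α, (mem_autGroup_iff hTS).2 hα, φ₀, ⟨hP, hφ₀T, fun x y hxy => ?_, hP.trans hTS,
      hφ₀S, h, hh, hφ₀⟩, fun x hx => ?_⟩
    · have h2 : h * ι ⟨x, hTS (hP x.2)⟩ * h⁻¹ = h * ι ⟨y, hTS (hP y.2)⟩ * h⁻¹ := by
        rw [← hφ₀ x, ← hφ₀ y]
        simp only [hxy]
      exact Subtype.ext (congrArg Subtype.val (hι (mul_left_cancel (mul_right_cancel h2))) :)
    · rw [hαv]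
      refine congrArg Subtype.val (hι (((hg x).trans ?_).trans (ha ⟨φ₀ x, hx⟩).symm) :
        (⟨φ x, apply_mem hφ x⟩ : S) = ⟨a ⟨φ₀ x, hx⟩, haS _⟩)
      show _ = n * ι ⟨φ₀ x, hφ₀S x⟩ * n⁻¹
      rw [hφ₀]
      group
  · intro α hα
    obtain ⟨-, -, -, _, _, h, hh, hhx⟩ := (mem_autGroup_iff (le_refl _)).1 hα
    have hαv : ∀ v : ↥((H.comap ι).map S.subtype),
        ι ⟨α v, hTS (α v).2⟩ = h * ι ⟨v, hTS v.2⟩ * h⁻¹ := hhx
    have hhT : h ∈ Subgroup.normalizer (((U : Subgroup G) ⊓ H : Subgroup G) : Set G) := by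
      refine mem_normalizer_of_conj_mem fun y hy => ?_
      rw [← himT] at hy ⊢
      obtain ⟨s, hs, rfl⟩ := hy
      exact ⟨⟨α ⟨s, hs⟩, hTS (α ⟨s, hs⟩).2⟩, (α ⟨s, hs⟩).2, hαv ⟨s, hs⟩⟩
    obtain ⟨k, hk, hkc, hkC⟩ := exists_normalizing_centralizerIn U H rfl hh hhT
    set C := centralizerIn S ((H.comap ι).map S.subtype) with hCdef
    have himC : im ι C = centralizerIn (U : Subgroup G) ((U : Subgroup G) ⊓ H) := by
      rw [hCdef, im_centralizerIn hι hTS, himT, hU]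
      rfl
    set W := ((H.comap ι).map S.subtype) ⊔ C with hWdef
    have hWS : W ≤ S := sup_le hTS inf_le_left
    have hkT : ∀ v : ↥((H.comap ι).map S.subtype),
        k * h * ι ⟨v, hTS v.2⟩ * (k * h)⁻¹ = ι ⟨α v, hTS (α v).2⟩ := fun v => by
      have h1 := Subgroup.mem_centralizer_iff.1 hkc (ι ⟨α v, hTS (α v).2⟩)
        (himT ▸ ⟨_, (α v).2, rfl⟩)
      calc k * h * ι ⟨v, hTS v.2⟩ * (k * h)⁻¹ = k * (h * ι ⟨v, hTS v.2⟩ * h⁻¹) * k⁻¹ := by group
        _ = k * ι ⟨α v, hTS (α v).2⟩ * k⁻¹ := by rw [← hαv]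
        _ = _ := by rw [← h1]; group
    have hkCC : ∀ (v : S), (v : Ω) ∈ C → k * h * ι v * (k * h)⁻¹ ∈ im ι C := fun v hv => by
      rw [himC]
      exact hkC _ (himC ▸ ⟨v, hv, rfl⟩)
    have hWim : ∀ v : W, ∃ u : S, (u : Ω) ∈ W ∧ ι u = k * h * ι ⟨v, hWS v.2⟩ * (k * h)⁻¹ := by
      have hle : W.subgroupOf S ≤ (im ι W).comap ((MulAut.conj (k * h)).toMonoidHom.comp ι) := by
        rw [hWdef, Subgroup.subgroupOf_sup hTS (show C ≤ S from inf_le_left)]
        refine sup_le (fun v hv => ?_) fun v hv => ?_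
        · exact ⟨_, Subgroup.mem_sup_left (α ⟨v, hv⟩).2, (hkT ⟨v, hv⟩).symm⟩
        · exact im_mono ι (le_sup_right : C ≤ _) (hkCC v hv)
      exact fun v => hle (show (⟨v, hWS v.2⟩ : S) ∈ W.subgroupOf S from v.2)
    obtain ⟨b, hbS, hb⟩ := exists_hom_of_conj hι hWS (k * h) fun v => by
      obtain ⟨u, -, hu⟩ := hWim v
      exact ⟨u, hu⟩
    have hbF : b ∈ F.Hom W := (hF.2 W hWS b hbS).2 ⟨_, hb⟩
    have : Finite S := Finite.of_injective ι hι
    have := finite_of_le hWS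
    have := finite_of_le (range_le hbF)
    obtain ⟨β, hβ, hβv⟩ := exists_iso hbF (Subgroup.eq_of_le_of_card_ge
      (by
        rintro _ ⟨v, rfl⟩
        obtain ⟨u, hu, huv⟩ := hWim v
        have hub : u = ⟨b v, hbS v⟩ := hι (huv.trans (hb v).symm)
        show b v ∈ W
        rw [show b v = (u : Ω) from (congrArg Subtype.val hub).symm]
        exact hu)
      (Nat.card_le_card_of_injective b.rangeRestrict
        ((MonoidHom.rangeRestrict_injective_iff).2 (F.injective_of_mem hbF))))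
    refine ⟨β, (mem_autGroup_iff hWS).2 hβ, fun x => ?_, fun c hc => ?_⟩
    · rw [hβv]
      exact congrArg Subtype.val (hι ((hb _).trans (hkT x)) :
        (⟨b _, hbS _⟩ : S) = ⟨α x, hTS (α x).2⟩)
    · rw [hβv]
      obtain ⟨u, hu, huv⟩ := hkCC ⟨c, hWS c.2⟩ hc
      have hub : (b c : Ω) = u := congrArg Subtype.val (hι ((hb c).trans huv.symm) :
        (⟨b c, hbS c⟩ : S) = u)
      rw [hub]
      refine ⟨?_, ?_⟩
      · refine (mem_part_iff ι H ((⟨c, hWS c.2⟩ : S)⁻¹ * u).2).2 ?_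
        show ι ((⟨c, hWS c.2⟩ : S)⁻¹ * u) ∈ H
        rw [map_mul, map_inv, huv]
        rw [show (ι ⟨c, hWS c.2⟩)⁻¹ * (k * h * ι ⟨c, hWS c.2⟩ * (k * h)⁻¹) =
          ((ι ⟨c, hWS c.2⟩)⁻¹ * (k * h) * ι ⟨c, hWS c.2⟩) * (k * h)⁻¹ by group]
        refine mul_mem ?_ (inv_mem (mul_mem hk hh))
        have h' := Subgroup.Normal.conj_mem (inferInstance : H.Normal) _ (mul_mem hk hh)
          (ι ⟨c, hWS c.2⟩)⁻¹
        rwa [inv_inv] at h'
      · exact mul_mem (Subgroup.inv_mem _ hc.2) hu.2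

end CfsgLib.FusionSub
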