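import Mathlib.Data.ZMod.Basic
import Mathlib.GroupTheory.OrderOfElement
import Mathlib.Algebra.Group.Pi.Basic
import Mathlib.Tactic.Abel
import Mathlib.Tactic.IntervalCases
import Mathlib.Tactic.Ring

/-!
Automorphisms of odd order of `∏ ZMod (2 ^ a i)` with strictly increasing `a` are trivial.
-/

set_option autoImplicit false

namespace CfsgLib.FusionSub

variable {n : ℕ} {a : Fin n → ℕ}

theorem zmod_two_torsion {k : ℕ} (hk : 1 ≤ k) (z : ZMod (2 ^ k)) (hz : 2 • z = 0) :
    z = 0 ∨ z = (2 ^ (k - 1) : ℕ) := by
  obtain ⟨m, hm, rfl⟩ : ∃ m : ℕ, m < 2 ^ k ∧ (m : ZMod (2 ^ k)) = z :=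
    ⟨z.val, ZMod.val_lt z, ZMod.natCast_zmod_val z⟩
  rw [nsmul_eq_mul, ← Nat.cast_mul, ZMod.natCast_eq_zero_iff] at hz
  obtain ⟨c, hc⟩ := hz
  obtain ⟨k, rfl⟩ : ∃ j, k = j + 1 := ⟨k - 1, by omega⟩
  rw [pow_succ'] at hc hm
  have hm' : m = 2 ^ k * c := by
    rw [mul_assoc] at hc
    omega
  have hc2 : c < 2 := by
    by_contra h
    have := Nat.mul_le_mul_left (2 ^ k) (Nat.not_lt.1 h)
    omega
  interval_cases c
  · left; simp [hm']
  · right; simp [hm']

/-- An automorphism of odd order of `∏ ZMod (2 ^ a i)`, `a` strictly increasing, fixes everything. -/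
theorem eq_self_of_odd_pow (ha : StrictMono a) (ha1 : ∀ i, 1 ≤ a i)
    (f : ((i : Fin n) → ZMod (2 ^ a i)) ≃+ ((i : Fin n) → ZMod (2 ^ a i))) {m : ℕ} (hm : Odd m)
    (hf : (⇑f)^[m] = id) (x : (i : Fin n) → ZMod (2 ^ a i)) : f x = x := by
  -- a fixed difference of exponent two must vanish
  have key : ∀ x d, f x = x + d → f d = d → 2 • d = 0 → d = 0 := by
    intro x d hx hd hd2
    have hit : ∀ k : ℕ, (⇑f)^[k] x = x + k • d := by
      intro k
      induction k with
      | zero => simp
      | succ k ih =>
        rw [Function.iterate_succ_apply', ih, map_add, map_nsmul, hd, hx, add_assoc, succ_nsmul',]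
    have h := hit m
    rw [hf, id_eq] at h
    have h2 : m • d = 0 := add_eq_left.1 h.symm
    obtain ⟨k, rfl⟩ := hm
    rw [add_nsmul, mul_comm, mul_nsmul', hd2, nsmul_zero, one_nsmul, zero_add] at h2
    exact h2
  have hsoc : ∀ j : ℕ, ∀ x, 2 • x = 0 → (∀ k : Fin n, (k : ℕ) + j < n → x k = 0) → f x = x := by
    intro j
    induction j with
    | zero =>
      intro x _ hx
      have : x = 0 := funext fun k => hx k (by simp)
      subst this
      exact map_zero f
    | succ j ih =>
      intro x h2 hx
      by_cases hjn : n ≤ j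
      · exact ih x h2 fun k hk => by omega
      let i : Fin n := ⟨n - (j + 1), by omega⟩
      have hW : ∀ z : (i : Fin n) → ZMod (2 ^ a i), 2 • z = 0 →
          (∀ k : Fin n, (k : ℕ) + (j + 1) < n → z k = 0) →
          ∀ k : Fin n, (k : ℕ) + (j + 1) < n → f z k = 0 := by
        intro z hz2 hz k hk
        have hki : k < i := by
          show (k : ℕ) < n - (j + 1)
          omega
        obtain ⟨y, rfl⟩ : ∃ y, 2 ^ (a i - 1) • y = z := by
          refine ⟨fun l => if z l = 0 then 0 else ((2 ^ (a l - a i) : ℕ) : ZMod (2 ^ a l)), funext fun l => ?_⟩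
          rw [Pi.smul_apply]
          by_cases h0 : z l = 0
          · simp [h0]
          · rw [if_neg h0, (zmod_two_torsion (ha1 l) (z l) (congrFun hz2 l)).resolve_left h0,
              nsmul_eq_mul, ← Nat.cast_mul, ← pow_add]
            have hil : i ≤ l := by
              show n - (j + 1) ≤ (l : ℕ)
              by_contra hc
              exact h0 (hz l (by omega))
            have := ha.monotone hil
            have := ha1 i
            congr 2
            omega
        have := ha hki
        rw [map_nsmul, Pi.smul_apply, nsmul_eq_mul]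
        rw [show ((2 ^ (a i - 1) : ℕ) : ZMod (2 ^ a k)) = 0 from
          (ZMod.natCast_eq_zero_iff _ _).2 (pow_dvd_pow 2 (by omega)), zero_mul]
      have hfx2 : 2 • f x = 0 := by rw [← map_nsmul, h2, map_zero]
      have hd2 : 2 • (f x - x) = 0 := by rw [nsmul_sub, hfx2, h2, sub_zero]
      have hdW : ∀ k : Fin n, (k : ℕ) + j < n → (f x - x) k = 0 := by
        intro k hk
        rw [Pi.sub_apply]
        by_cases hk' : (k : ℕ) + (j + 1) < n
        · rw [hW x h2 hx k hk', hx k hk', sub_zero]
        · have hki : k = i := Fin.ext (by show (k : ℕ) = n - (j + 1); omega)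
          subst hki
          rcases zmod_two_torsion (ha1 _) (x i) (congrFun h2 i) with h0 | h0
          · -- `x` lies one step higher, hence is fixed
            rw [ih x h2 fun l hl => ?_, sub_self]
            by_cases hl' : (l : ℕ) + (j + 1) < n
            · exact hx l hl'
            · rwa [show l = i from Fin.ext (by show (l : ℕ) = n - (j + 1); omega)]
          · rcases zmod_two_torsion (ha1 _) (f x i) (congrFun hfx2 i) with h1 | h1
            · have hfix : f (f x) = f x := ih (f x) hfx2 fun l hl => by
                by_cases hl' : (l : ℕ) + (j + 1) < n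
                · exact hW x h2 hx l hl'
                · rwa [show l = i from Fin.ext (by show (l : ℕ) = n - (j + 1); omega)]
              rw [f.injective hfix, sub_self]
            · rw [h0, h1, sub_self]
      exact sub_eq_zero.1 (key x _ (by abel) (ih _ hd2 hdW) hd2)
  have hall : ∀ k : ℕ, ∀ x, 2 ^ k • x = 0 → f x = x := by
    intro k
    induction k with
    | zero => intro x hx; rw [show x = 0 by simpa using hx, map_zero]
    | succ k ih =>
      intro x hx
      have h2x : f (2 • x) = 2 • x := ih _ (by rwa [← mul_nsmul', ← pow_succ])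
      have hd2 : 2 • (f x - x) = 0 := by rw [nsmul_sub, ← map_nsmul, h2x, sub_self]
      exact sub_eq_zero.1 (key x _ (by abel) (hsoc n _ hd2 fun l hl => by omega) hd2)
  refine hall (Finset.univ.sup a) x (funext fun l => ?_)
  rw [Pi.smul_apply, nsmul_eq_mul, Pi.zero_apply]
  rw [show ((2 ^ Finset.univ.sup a : ℕ) : ZMod (2 ^ a l)) = 0 from
    (ZMod.natCast_eq_zero_iff _ _).2 (pow_dvd_pow 2 (Finset.le_sup (Finset.mem_univ l))), zero_mul]

end CfsgLib.FusionSub
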