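import Cfsg.Prelude.Def_FusionSystem
import Cfsg.Agent.Fusion.Systems
import Cfsg.Agent.Fusion.Saturation

/-!
A saturated subsystem with the same centralizer systems at fully centralized subgroups of order `p`
is the whole system.
-/

set_option autoImplicit false

namespace CfsgLib.FusionSub

open Cfsg Cfsg.FusionSystem CfsgLib.Fusion

variable {Ω : Type*} [Group Ω] {S : Subgroup Ω} {p : ℕ}

/-- The centre of a nontrivial finite `p`-group contains a subgroup of order `p`. -/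
theorem exists_central_card_eq [Fact p.Prime] {P : Subgroup Ω} [Finite P] (hP : IsPGroup p P)
    (hne : P ≠ ⊥) :
    ∃ Z : Subgroup Ω, Z ≤ P ∧ Nat.card Z = p ∧ ∀ z ∈ Z, ∀ x ∈ P, z * x = x * z := by
  have : Nontrivial P := (Subgroup.nontrivial_iff_ne_bot P).2 hne
  have : Nontrivial (Subgroup.center P) := hP.center_nontrivial
  have hdvd : p ∣ Nat.card (Subgroup.center P) := by
    rcases (hP.to_subgroup (Subgroup.center P)).card_eq_or_dvd with h | h
    · exact absurd h (Finite.one_lt_card).ne'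
    · exact h
  obtain ⟨z, hz⟩ := exists_prime_orderOf_dvd_card' p hdvd
  refine ⟨Subgroup.zpowers ((z : P) : Ω), Subgroup.zpowers_le.2 (z : P).2, ?_, ?_⟩
  · rw [Nat.card_zpowers, Subgroup.orderOf_coe, Subgroup.orderOf_coe, hz]
  · rintro _ ⟨n, rfl⟩ x hx
    have h : Commute ((z : P) : Ω) x :=
      congrArg Subtype.val (Subgroup.mem_center_iff.1 z.2 ⟨x, hx⟩).symm
    exact h.zpow_left n

/-- Agreement at fully centralized subgroups of order `p` forces equality. -/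
theorem hom_eq_of_centralizers [Finite S] [Fact p.Prime] (hS : IsPGroup p S)
    {F F' : FusionSystem S} (hF' : F'.IsSaturated p) (hle : F' ≤ F)
    (hZ : ∀ Z : Subgroup Ω, Z ≤ S → Nat.card Z = p → F'.IsFullyCentralized Z →
      F.Hom Z = F'.Hom Z ∧ ∀ C C' : FusionSystem (centralizerIn S Z),
        F.IsCentralizerSystem Z C → F'.IsCentralizerSystem Z C' → ∀ P : Subgroup Ω, C.Hom P = C'.Hom P)
    (P : Subgroup Ω) : F.Hom P = F'.Hom P := by
  refine Set.Subset.antisymm (fun φ hφ => ?_) (hle P)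
  have hPS := le_left hφ
  rcases eq_or_ne P ⊥ with rfl | hne
  · refine mem_congr (subtype_mem bot_le) fun x => ?_
    have hx : x = 1 := Subsingleton.elim _ _
    subst hx
    simp
  have := finite_of_le hPS
  obtain ⟨Z, hZP, hZc, hcomm⟩ := exists_central_card_eq (isPGroup_of_le_S hS hPS) hne
  have hZS := hZP.trans hPS
  obtain ⟨Z₀, hconj, hfc⟩ := exists_fullyCentralized (F := F') hZS
  have hZ₀c : Nat.card Z₀ = p := (card_eq_of_isConj hconj).symm.trans hZc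
  obtain ⟨heqZ, heqC⟩ := hZ Z₀ hfc.1 hZ₀c hfc
  obtain ⟨e₀, he₀⟩ := isConj_iff.1 hconj
  obtain ⟨f, hf, hfv⟩ := exists_iso_restrict hφ hZP
  have hf' : IsIso F' f := by
    have h1 : IsIso F (e₀.symm.trans f) := IsIso.trans (hle _ he₀.symm) hf
    have h2 : IsIso F' (e₀.symm.trans f) := by
      show _ ∈ F'.Hom Z₀
      rw [← heqZ]
      exact h1
    exact mem_congr (he₀.trans h2) fun x => by simp
  have hr₀ := receptive_of_fullyCentralized hS hF' hfc
  obtain ⟨χ, hχ, hχv⟩ := exists_extension (T := centralizerIn S Z) hr₀ he₀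
    (centralizerIn_le_extender _)
  obtain ⟨χ', hχ', hχ'v⟩ := exists_extension (T := centralizerIn S (imgHom φ Z)) hr₀
    (hf'.symm.trans he₀) (centralizerIn_le_extender _)
  have hPC : P ≤ centralizerIn S Z := fun x hx =>
    mem_centralizerIn.2 ⟨hPS hx, fun z hz => hcomm z hz x hx⟩
  have hZC : Z ≤ centralizerIn S Z := fun z hz => hPC (hZP hz)
  have hrC : φ.range ≤ centralizerIn S (imgHom φ Z) := by
    rintro _ ⟨x, rfl⟩
    refine mem_centralizerIn.2 ⟨apply_mem hφ x, ?_⟩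
    rintro _ ⟨z, hz, rfl⟩
    rw [← map_mul, ← map_mul]
    exact congrArg φ (Subtype.ext (hcomm z hz x x.2))
  obtain ⟨g, hg, hgv⟩ := exists_iso_range hφ
  obtain ⟨a, ha, hav⟩ := exists_iso_restrict hχ hPC
  obtain ⟨b, hb, hbv⟩ := exists_iso_restrict hχ' hrC
  let θ := (a.symm.trans g).trans b
  have hθF : IsIso F θ := ((IsIso.symm (hle _ ha)).trans hg).trans (hle _ hb)
  have hfix : ∀ y : imgHom χ P, (y : Ω) ∈ Z₀ → (θ y : Ω) = y := by
    intro y hy
    have hz : (a (⟨(e₀.symm ⟨y, hy⟩ : Z), hZP (e₀.symm ⟨y, hy⟩).2⟩) : Ω) = y := by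
      rw [hav, hχv (e₀.symm ⟨y, hy⟩) (hZC (e₀.symm ⟨y, hy⟩).2), MulEquiv.apply_symm_apply]
    have hy' : a.symm y = ⟨(e₀.symm ⟨y, hy⟩ : Z), hZP (e₀.symm ⟨y, hy⟩).2⟩ :=
      (MulEquiv.symm_apply_eq a).2 (Subtype.ext hz.symm)
    simp only [θ, MulEquiv.trans_apply, hy', hbv]
    have h1 : (g ⟨(e₀.symm ⟨y, hy⟩ : Z), hZP (e₀.symm ⟨y, hy⟩).2⟩ : Ω) =
        (f (e₀.symm ⟨y, hy⟩) : Ω) := by rw [hgv, hfv]
    have h2 := hχ'v (f (e₀.symm ⟨y, hy⟩)) (hrC (h1 ▸ (g _).2))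
    refine (congrArg χ' (Subtype.ext h1)).trans (h2.trans ?_)
    simp
  have hZ₀le : Z₀ ≤ imgHom χ P := by
    intro y hy
    refine ⟨⟨(e₀.symm ⟨y, hy⟩ : Z), hZC (e₀.symm ⟨y, hy⟩).2⟩, hZP (e₀.symm ⟨y, hy⟩).2, ?_⟩
    rw [hχv (e₀.symm ⟨y, hy⟩) (hZC (e₀.symm ⟨y, hy⟩).2), MulEquiv.apply_symm_apply]
  have hcen : ∀ (R : Subgroup Ω) (T : Subgroup Ω) (ξ : T →* Ω), ξ ∈ F'.Hom T →
      imgHom ξ R = Z₀ → R ≤ T → (∀ x : T, (x : Ω) ∈ Subgroup.centralizer (R : Set Ω)) →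
      ∀ x : T, ξ x ∈ centralizerIn S Z₀ := by
    intro R T ξ hξ himg hRT hc x
    refine ⟨apply_mem hξ x, ?_⟩
    have := map_mem_centralizer (ψ := ξ) hRT (g := x) (hc x)
    rwa [himg] at this
  have hle₁ : imgHom χ P ≤ centralizerIn S Z₀ := by
    rintro _ ⟨x, -, rfl⟩
    exact hcen Z _ χ hχ (imgHom_eq_of_agree hZC hχv) hZC (fun x => x.2.2) x
  have hle₂ : ∀ y : imgHom χ P, (θ y : Ω) ∈ centralizerIn S Z₀ := by
    intro y
    obtain ⟨x, -, hx⟩ := (θ y).2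
    rw [← hx]
    exact hcen (imgHom φ Z) _ χ' hχ'
      (imgHom_eq_of_agree ((imgHom_le_range φ Z).trans hrC) hχ'v)
      ((imgHom_le_range φ Z).trans hrC) (fun x => x.2.2) x
  obtain ⟨C, hC⟩ := exists_isCentralizerSystem F hfc.1
  obtain ⟨C', hC'⟩ := exists_isCentralizerSystem F' hfc.1
  have hθC : (imgHom χ' φ.range).subtype.comp θ.toMonoidHom ∈ C.Hom (imgHom χ P) := by
    rw [hC]
    refine ⟨hθF, hle₁, hle₂, _, restrict_mem hθF (sup_le le_rfl hZ₀le), fun x => rfl, fun z => ?_⟩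
    exact hfix ⟨z, hZ₀le z.2⟩ z.2
  rw [heqC C C' hC hC' (imgHom χ P), hC'] at hθC
  have hθ' : IsIso F' θ := hθC.1
  refine mem_congr ((ha.trans hθ').trans hb.symm) fun x => ?_
  simp [θ, ← hgv]

end CfsgLib.FusionSub
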