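import Cfsg.Prelude.Def_FusionComponents
import Cfsg.Agent.Fusion.NormalSubgroup
import Cfsg.Agent.FusionFactor.Elementary

/-!
If `Z(S) ≤ O_p(F)` then the centre of `F` is a direct factor of `Z(S)` (transfer to the fixed points).
-/

set_option autoImplicit false

namespace CfsgLib.FusionSub

open Cfsg Cfsg.FusionSystem CfsgLib.Fusion

/-- In a commutative group with coprime index, the fixed points of the group have a complement in
the fixed points of the subgroup. -/
theorem exists_complement_fixedPoints {W A : Type*} [CommGroup W] [Finite W] [Group A] [Finite A]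
    (ρ : A →* MulAut W) (H : Subgroup A) (hcop : H.index.Coprime (Nat.card W)) :
    ∃ K : Subgroup W, (∀ v ∈ K, ∀ h ∈ H, ρ h v = v) ∧
      (∀ v ∈ K, (∀ a, ρ a v = v) → v = 1) ∧
      ∀ v, (∀ h ∈ H, ρ h v = v) → ∃ z, (∀ a, ρ a z = z) ∧ z⁻¹ * v ∈ K := by
  classical
  cases nonempty_fintype (A ⧸ H)
  let tr : W →* W :=
    { toFun := fun v => ∏ q : A ⧸ H, ρ q.out v
      map_one' := by simp
      map_mul' := fun v w => by simp [Finset.prod_mul_distrib] }
  have hfix : ∀ v, (∀ h ∈ H, ρ h v = v) → ∀ a, ρ a (tr v) = tr v := by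
    intro v hv a
    show ρ a (∏ q : A ⧸ H, ρ q.out v) = ∏ q : A ⧸ H, ρ q.out v
    rw [map_prod]
    refine Fintype.prod_equiv (MulAction.toPerm a) _ _ fun q => ?_
    have h1 : (a * q.out)⁻¹ * (a • q).out ∈ H := by
      rw [← QuotientGroup.eq]
      show ((a * q.out : A) : A ⧸ H) = ((a • q).out : A ⧸ H)
      rw [QuotientGroup.out_eq', ← smul_eq_mul, ← MulAction.Quotient.smul_mk,
        QuotientGroup.out_eq']
    show ρ a (ρ q.out v) = ρ (a • q).out v
    rw [← MulAut.mul_apply, ← map_mul]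
    conv_rhs =>
      rw [show (a • q).out = a * q.out * ((a * q.out)⁻¹ * (a • q).out) by group, map_mul,
        MulAut.mul_apply, hv _ h1]
  have hz : ∀ z, (∀ a, ρ a z = z) → tr z = z ^ Fintype.card (A ⧸ H) := by
    intro z hz
    show ∏ q : A ⧸ H, ρ q.out z = _
    rw [Finset.prod_eq_pow_card (fun q _ => hz _), Finset.card_univ]
  have hcard : (Fintype.card (A ⧸ H)).Coprime (Nat.card W) := by
    rwa [← Nat.card_eq_fintype_card, ← Subgroup.index_eq_card]
  let FH : Subgroup W :=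
    { carrier := {v | ∀ h ∈ H, ρ h v = v}
      one_mem' := fun h _ => map_one _
      mul_mem' := fun {a b} ha hb h hh => by rw [map_mul, ha h hh, hb h hh]
      inv_mem' := fun {a} ha h hh => by rw [map_inv, ha h hh] }
  refine ⟨FH ⊓ tr.ker, fun v hv => hv.1, fun v hv hA => ?_, fun v hv => ?_⟩
  · have h1 : v ^ Fintype.card (A ⧸ H) = 1 := by
      rw [← hz v hA]
      exact hv.2
    exact orderOf_eq_one_iff.1 (Nat.eq_one_of_dvd_coprimes hcard (orderOf_dvd_of_pow_eq_one h1)
      (orderOf_dvd_natCard v))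
  · obtain ⟨j, hj⟩ := exists_pow_eq_self_of_coprime
      (Nat.Coprime.coprime_dvd_right (orderOf_dvd_natCard (tr v)) hcard)
    have hzA : ∀ a, ρ a ((tr v) ^ j) = (tr v) ^ j := fun a => by rw [map_pow, hfix v hv]
    refine ⟨(tr v) ^ j, hzA, fun h hh => ?_, ?_⟩
    · rw [map_mul, map_inv, hzA, hv h hh]
    · show tr _ = 1
      rw [map_mul, map_inv, hz _ hzA, ← pow_mul,
        mul_comm j, pow_mul, hj, inv_mul_cancel]

variable {Ω : Type*} [Group Ω] {S : Subgroup Ω}

/-- If `Z(S) ≤ O_p(F)` then `Z(F)` is a direct factor of `Z(S)`. -/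
theorem exists_complement_center [Finite S] {p : ℕ} [Fact p.Prime] (hS : IsPGroup p S)
    {F : FusionSystem S} (hF : F.IsSaturated p)
    (hZ : S ⊓ Subgroup.centralizer (S : Set Ω) ≤ F.core) :
    ∃ K : Subgroup Ω, K ≤ S ⊓ Subgroup.centralizer (S : Set Ω) ∧ F.center ⊓ K = ⊥ ∧
      F.center ⊔ K = S ⊓ Subgroup.centralizer (S : Set Ω) := by
  set V := S ⊓ Subgroup.centralizer (S : Set Ω) with hV
  set C := F.core
  have hC : F.IsNormal C := FusionFactor.isNormal_core F
  have hCS : C ≤ S := hC.1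
  have := finite_of_le hCS
  have hSN : S ≤ Subgroup.normalizer (C : Set Ω) := normal_le_normalizer hC
  -- `C` is fully normalized
  have hfn : F.IsFullyNormalized C := by
    refine ⟨hCS, fun Q ⟨φ, hφ, hr⟩ => ?_⟩
    have : Q = C := by
      refine Subgroup.eq_of_le_of_card_ge ?_ (card_eq_of_isConj ⟨φ, hφ, hr⟩).le
      rw [← hr]
      rintro _ ⟨x, rfl⟩
      exact (stronglyClosed_of_normal hC).2 C le_rfl φ hφ x
    rw [this]
  obtain ⟨T, hT⟩ := (automized_receptive hS hF hfn).1.2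
  let W := Subgroup.center C
  let : CommGroup W := { (inferInstance : Group W) with
    mul_comm := fun x y => Subtype.ext (Subgroup.mem_center_iff.1 y.2 x) }
  have hmem : ∀ (α : MulAut C) (w : W), α w ∈ W := fun α w =>
    Subgroup.mem_center_iff.2 fun c => by
      have h := congrArg α (Subgroup.mem_center_iff.1 w.2 (α.symm c))
      simpa using h
  let ρ : F.autGroup C →* MulAut W :=
    { toFun := fun α =>
        { toFun := fun w => ⟨(α : MulAut C) w, hmem _ w⟩
          invFun := fun w => ⟨(α : MulAut C).symm w, hmem _ w⟩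
          left_inv := fun w => Subtype.ext ((α : MulAut C).symm_apply_apply _)
          right_inv := fun w => Subtype.ext ((α : MulAut C).apply_symm_apply _)
          map_mul' := fun a b => Subtype.ext (map_mul (α : MulAut C) _ _) }
      map_one' := MulEquiv.ext fun w => rfl
      map_mul' := fun a b => MulEquiv.ext fun w => rfl }
  have hVC : ∀ v, v ∈ V → ∃ h : v ∈ C, (⟨v, h⟩ : C) ∈ W := fun v hv =>
    ⟨hZ hv, Subgroup.mem_center_iff.2 fun c =>
      Subtype.ext (Subgroup.mem_centralizer_iff.1 hv.2 c (hCS c.2))⟩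
  -- membership in `V` is being fixed by `Aut_S(C)`
  have hVfix : ∀ w : W, ((w : C) : Ω) ∈ V ↔ ∀ h ∈ (T : Subgroup (F.autGroup C)), ρ h w = w := by
    intro w
    constructor
    · intro hw h hh
      rw [hT] at hh
      obtain ⟨g, hg, -, hv⟩ := mem_autInducedBy_iff.1 (hh : (h : MulAut C) ∈ autInducedBy S C)
      refine Subtype.ext (Subtype.ext ((hv _).trans ?_))
      rw [Subgroup.mem_centralizer_iff.1 hw.2 g hg, mul_inv_cancel_right]
    · intro hw
      refine ⟨hCS (w : C).2, Subgroup.mem_centralizer_iff.2 fun g hg => ?_⟩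
      have hg' : C.normalizerMonoidHom ⟨g, hSN hg⟩ ∈ autInducedBy S C :=
        mem_autInducedBy_iff.2 ⟨g, hg, hSN hg, fun _ => rfl⟩
      have h1 := hw ⟨_, autInducedBy_le_autGroup hCS hg'⟩ (by rw [hT]; exact hg')
      have h2 : g * ((w : C) : Ω) * g⁻¹ = (w : C) :=
        congrArg (fun z : W => ((z : C) : Ω)) h1
      exact mul_inv_eq_iff_eq_mul.1 h2
  have hVS : ∀ v ∈ V, v ∈ S := fun v hv => hv.1
  -- membership in the centre
  have hcen : ∀ w : W, ((w : C) : Ω) ∈ F.center ↔ ∀ α, ρ α w = w := by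
    intro w
    constructor
    · intro hw α
      obtain ⟨ψ, -, hψC, hψZ⟩ := (FusionFactor.isCentral_center F).2 C _
        ((mem_autGroup_iff hCS).1 α.2)
      refine Subtype.ext (Subtype.ext ?_)
      have h1 := hψC (w : C)
      rw [show Subgroup.inclusion (le_sup_left : C ≤ C ⊔ F.center) (w : C) =
        Subgroup.inclusion (le_sup_right : F.center ≤ C ⊔ F.center) ⟨(w : C), hw⟩ from
          Subtype.ext rfl, hψZ] at h1
      exact h1.symm
    · intro hw
      let Q : Subgroup Ω := Subgroup.zpowers ((w : C) : Ω)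
      have hQC : Q ≤ C := Subgroup.zpowers_le.2 (w : C).2
      refine (le_sSup ?_ : Q ≤ F.center) (Subgroup.mem_zpowers _)
      refine isCentral_of_forall hS hF (hQC.trans hCS) fun x hx y ⟨φ, hφ, hφy⟩ => ?_
      obtain ⟨ψ, hψ, hψ1, hψ2⟩ := exists_normal_extension hC hφ
      obtain ⟨α, hα, hαv⟩ := exists_iso (restrict_mem hψ (le_sup_right : C ≤ _ ⊔ C))
        ((range_restrictHom ψ _).trans hψ2)
      have hαw : α (w : C) = (w : C) :=
        congrArg Subtype.val (hw ⟨α, hα.mem_autGroup⟩ : ρ ⟨α, hα.mem_autGroup⟩ w = w)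
      obtain ⟨n, rfl⟩ := Subgroup.mem_zpowers_iff.1 hx
      have h1 : α ((w : C) ^ n) = (w : C) ^ n := by rw [map_zpow, hαw]
      rw [← hφy, ← hψ1]
      refine Eq.trans ?_ ((congrArg Subtype.val h1).trans (Subgroup.coe_zpow _ _ _))
      rw [hαv]
      exact congrArg ψ (Subtype.ext (Subgroup.coe_zpow _ _ _).symm)
  have hVle : F.center ≤ V := le_inf (FusionFactor.isCentral_center F).1 F.center_le_centralizer
  obtain ⟨K, hK1, hK2, hK3⟩ := exists_complement_fixedPoints ρ (T : Subgroup (F.autGroup C)) (by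
    obtain ⟨k, hk⟩ := ((hS.to_le hCS).to_subgroup W).exists_card_eq
    rw [hk]
    exact (((Fact.out : p.Prime).coprime_iff_not_dvd.2 T.not_dvd_index).pow_left k).symm)
  refine ⟨(K.map W.subtype).map C.subtype, ?_, ?_, ?_⟩
  · rintro _ ⟨_, ⟨w, hw, rfl⟩, rfl⟩
    exact (hVfix w).2 (hK1 w hw)
  · rw [Subgroup.eq_bot_iff_forall]
    rintro x ⟨hxc, hxK⟩
    obtain ⟨_, ⟨w, hw, rfl⟩, rfl⟩ := hxK
    rw [hK2 w hw ((hcen w).1 hxc)]
    rfl
  · refine le_antisymm (sup_le hVle ?_) fun v hv => ?_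
    · rintro _ ⟨_, ⟨w, hw, rfl⟩, rfl⟩
      exact (hVfix w).2 (hK1 w hw)
    · obtain ⟨h, hW⟩ := hVC v hv
      obtain ⟨z, hz, hzK⟩ := hK3 ⟨⟨v, h⟩, hW⟩ ((hVfix ⟨⟨v, h⟩, hW⟩).1 hv)
      have h1 := Subgroup.mul_mem (F.center ⊔ (K.map W.subtype).map C.subtype)
        (Subgroup.mem_sup_left ((hcen z).2 hz))
        (Subgroup.mem_sup_right ⟨_, ⟨_, hzK, rfl⟩, rfl⟩)
      simpa using h1

end CfsgLib.FusionSub
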