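import Cfsg.Prelude.Def_FusionSystem
import Cfsg.Agent.FusionSub.Essential

/-!
Alperin's theorem for essential subgroups, and the resulting intersection property of generating
families of subgroups.
-/

set_option autoImplicit false

namespace CfsgLib.FusionSub

open Cfsg Cfsg.FusionSystem CfsgLib.Fusion

variable {Ω : Type*} [Group Ω] {S : Subgroup Ω} {F : FusionSystem S} {p : ℕ}

/-- **Alperin–Goldschmidt theorem**: `F` is generated by the automorphism groups of `S` and of its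
essential subgroups (inductive form). -/
theorem le_of_essential_induction [Finite S] [Fact p.Prime] (hS : IsPGroup p S)
    (hF : F.IsSaturated p) (E : FusionSystem S) (hS' : F.autGroup S ≤ E.autGroup S)
    (h : ∀ Q : Subgroup Ω, F.IsEssential p Q →
      (∀ R : Subgroup Ω, Nat.card Q < Nat.card R → F.Hom R ⊆ E.Hom R) →
      F.autGroup Q ≤ E.autGroup Q) : F ≤ E := by
  refine le_of_autGroups_induction hS hF E fun Q hQ hc _ hIH => ?_
  rcases hQ.1.eq_or_lt with rfl | hlt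
  · exact hS'
  by_contra hne
  refine hne (h Q ⟨hc, hQ, ?_⟩ hIH)
  obtain ⟨hQa, hQr⟩ := automized_receptive hS hF hQ
  have := finite_of_le hQ.1
  have hnorm : ((Inn Q).subgroupOf (F.autGroup Q)).Normal := (Inn_normal Q).subgroupOf _
  refine ⟨hnorm, ?_⟩
  let I := (Inn Q).subgroupOf (F.autGroup Q)
  let A := F.autGroup Q
  let mkQ : A →* A ⧸ I := QuotientGroup.mk' I
  have hsurj : Function.Surjective mkQ := QuotientGroup.mk'_surjective I
  let H : Subgroup A := (E.autGroup Q).subgroupOf A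
  have hIH' : I ≤ H := fun x hx => Inn_le_autGroup hQ.1 hx
  have hN := lt_normalizerIn hS hlt
  have := finite_of_le (normalizerIn_le S Q)
  obtain ⟨T, hT⟩ := hQa.2
  -- an automorphism carrying a non-inner element of `Aut_S(Q)` back into it lies in `H`
  have hext : ∀ a : A, ∀ R : Subgroup Ω, Q < R → R ≤ normalizerIn S Q →
      (∀ g : Ω, ∀ hg : g ∈ R, ∀ hn : g ∈ Subgroup.normalizer (Q : Set Ω),
        (a : MulAut Q) * Q.normalizerMonoidHom ⟨g, hn⟩ * (a : MulAut Q)⁻¹ ∈ autInducedBy S Q) →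
      a ∈ H := by
    intro a R hQR hRN hR
    obtain ⟨ψ, hψ, hv⟩ := exists_extension (T := R) hQr ((mem_autGroup_iff hQ.1).1 a.2) fun g hg =>
      mem_extender_of_congr (hRN hg) (α := Q.normalizerMonoidHom ⟨g, (hRN hg).2⟩) (fun _ => rfl)
        (by
          rw [congr_self_eq]
          exact hR g hg _)
    have hfR : Finite R := finite_of_le (hRN.trans (normalizerIn_le S Q))
    exact (mem_autGroup_iff hQ.1).2 (mem_of_agree
      (hIH R (Set.Finite.card_lt_card (Set.toFinite _) hQR) hψ) hQR.le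
      fun x => (hv x (hQR.le x.2)).symm)
  refine ⟨H.map mkQ, ?_, ?_, T.mapSurjective hsurj, ?_⟩
  · obtain ⟨g, hg, hgQ⟩ := SetLike.exists_of_lt hN
    set b : A := ⟨Q.normalizerMonoidHom ⟨g, hg.2⟩, autInducedBy_le_autGroup hQ.1
      (mem_autInducedBy_iff.2 ⟨g, hg.1, hg.2, fun _ => rfl⟩)⟩ with hb
    have hb1 : mkQ b ≠ 1 := by
      intro h1
      obtain ⟨q, hq⟩ := ((QuotientGroup.eq_one_iff b).1 h1 : (b : MulAut Q) ∈ Inn Q)
      refine hgQ ?_
      have hmem : (q : Ω)⁻¹ * g ∈ centralizerIn S Q := by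
        refine mem_centralizerIn'.2 ⟨S.mul_mem (S.inv_mem (hQ.1 q.2)) hg.1, fun x hx => ?_⟩
        have h2 : (q : Ω) * x * (q : Ω)⁻¹ = g * x * g⁻¹ :=
          congrArg (fun a : MulAut Q => (a ⟨x, hx⟩ : Ω)) hq
        calc _ = (q : Ω)⁻¹ * (g * x * g⁻¹) * q := by simp [mul_assoc]
          _ = x := by rw [← h2]; simp [mul_assoc]
      simpa using Q.mul_mem q.2 (centralizerIn_le_of_centric hc hmem)
    have hbT : mkQ b ∈ (T.mapSurjective hsurj : Subgroup (A ⧸ I)) :=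
      ⟨b, hT.symm ▸ mem_autInducedBy_iff.2 ⟨g, hg.1, hg.2, fun _ => rfl⟩, rfl⟩
    rcases (T.mapSurjective hsurj).isPGroup'.card_eq_or_dvd with h1 | h1
    · exact absurd (Subgroup.mem_bot.1 (Subgroup.card_eq_one.1 h1 ▸ hbT)) hb1
    · exact h1.trans (Subgroup.card_subgroup_dvd_card _)
  · intro htop
    refine hne fun a ha => ?_
    have hmem : mkQ ⟨a, ha⟩ ∈ H.map mkQ := htop ▸ Subgroup.mem_top _
    obtain ⟨b, hb, hba⟩ := hmem
    have h1 : b⁻¹ * ⟨a, ha⟩ ∈ I := QuotientGroup.eq.1 hba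
    exact (by simpa using H.mul_mem hb (hIH' h1) : (⟨a, ha⟩ : A) ∈ H)
  · refine iSup_le ?_
    rintro ⟨X, hXT, hX⟩ x hx
    obtain ⟨a, rfl⟩ := hsurj x
    refine ⟨a, ?_, rfl⟩
    have hker : ∀ t : A, mkQ t ∈ (T.mapSurjective hsurj : Subgroup (A ⧸ I)) →
        (t : MulAut Q) ∈ autInducedBy S Q := by
      rintro t ⟨s, hs, hst⟩
      have h1 : ((s⁻¹ * t : A) : MulAut Q) ∈ Inn Q :=
        Subgroup.mem_subgroupOf.1 ((QuotientGroup.eq (s := I)).1 hst)
      have hs' : s ∈ (autInducedBy S Q).subgroupOf A := hT ▸ hs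
      have h2 : (s : MulAut Q) ∈ autInducedBy S Q := hs'
      have h3 : ((s⁻¹ * t : A) : MulAut Q) ∈ autInducedBy S Q := Inn_le_autInducedBy hQ.1 h1
      have := (autInducedBy S Q).mul_mem h2 h3
      simpa using this
    let R : Subgroup Ω := (((X.comap mkQ).map A.subtype).comap Q.normalizerMonoidHom).map
      (Subgroup.normalizer (Q : Set Ω)).subtype ⊓ S
    have hQR : Q ≤ R := fun g hg => ⟨⟨⟨g, Subgroup.le_normalizer hg⟩,
      ⟨⟨_, Inn_le_autGroup hQ.1 ⟨⟨g, hg⟩, rfl⟩⟩, by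
        show mkQ _ ∈ X
        rw [show mkQ ⟨MulAut.conj (⟨g, hg⟩ : Q), _⟩ = 1 from
          (QuotientGroup.eq_one_iff _).2 ⟨⟨g, hg⟩, rfl⟩]
        exact X.one_mem, MulEquiv.ext fun y => Subtype.ext rfl⟩, rfl⟩, hQ.1 hg⟩
    obtain ⟨y, hy, hy1⟩ : ∃ y ∈ X, y ≠ 1 := by
      by_contra hcon
      refine hX fun B _ _ => ?_
      have : X = ⊥ := (Subgroup.eq_bot_iff_forall X).2 fun z hz =>
        not_not.1 fun hz1 => hcon ⟨z, hz, hz1⟩
      subst this
      rw [Subgroup.eq_bot_of_subsingleton B, Subgroup.card_bot]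
      exact Nat.one_le_pow _ _ (Fact.out : p.Prime).pos
    obtain ⟨t, rfl⟩ := hsurj y
    obtain ⟨g, hgS, hgN, hg⟩ := mem_autInducedBy_iff.1 (hker t (hXT hy))
    have hgR : g ∈ R := ⟨⟨⟨g, hgN⟩, ⟨t, hy, MulEquiv.ext fun z => Subtype.ext (hg z)⟩, rfl⟩, hgS⟩
    have hlt' : Q < R := lt_of_le_of_ne hQR fun e => hy1 ((QuotientGroup.eq_one_iff t).2
      ⟨⟨g, e.symm ▸ hgR⟩, MulEquiv.ext fun z => Subtype.ext (hg z).symm⟩)
    refine hext a R hlt' ?_ ?_
    · rintro g' ⟨⟨n, -, rfl⟩, hS2⟩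
      exact ⟨hS2, n.2⟩
    · rintro g' ⟨⟨n, ⟨s, hs, hsn⟩, rfl⟩, -⟩ hn
      show (a : MulAut Q) * Q.normalizerMonoidHom n * (a : MulAut Q)⁻¹ ∈ autInducedBy S Q
      rw [← hsn]
      have hconj := (Subgroup.mem_normalizer_iff.1 hx (mkQ s)).1 hs
      rw [← map_inv, ← map_mul, ← map_mul] at hconj
      exact hker _ (hXT hconj)

/-- Two conjugation-closed generating families have a generating intersection. -/
theorem le_of_generating_inter [Finite S] [Fact p.Prime] (hS : IsPGroup p S)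
    (hF : F.IsSaturated p) (𝒬₁ 𝒬₂ : Set (Subgroup Ω))
    (h₁ : ∀ R ∈ 𝒬₁, ∀ R', F.IsConj R R' → R' ∈ 𝒬₁) (h₂ : ∀ R ∈ 𝒬₂, ∀ R', F.IsConj R R' → R' ∈ 𝒬₂)
    (hg₁ : ∀ E : FusionSystem S, (∀ R ∈ 𝒬₁, F.autGroup R ≤ E.autGroup R) → F ≤ E)
    (hg₂ : ∀ E : FusionSystem S, (∀ R ∈ 𝒬₂, F.autGroup R ≤ E.autGroup R) → F ≤ E)
    (E : FusionSystem S) (hE : ∀ R ∈ 𝒬₁ ∩ 𝒬₂, F.autGroup R ≤ E.autGroup R) : F ≤ E := by
  refine le_of_essential_induction hS hF E ?_ fun Q hQ _ => hE Q ⟨?_, ?_⟩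
  · -- the system of all maps except outer automorphisms of `S`
    let E' : FusionSystem S :=
      { Hom := fun P => {φ | φ ∈ F.Hom P ∧ (P = S → ∃ g ∈ S, ∀ x : P, φ x = g * x * g⁻¹)}
        le_of_mem := fun h => F.le_of_mem h.1
        injective_of_mem := fun h => F.injective_of_mem h.1
        conj_mem := fun {P g} hP hg => ⟨F.conj_mem hP hg, fun _ => ⟨g, hg, fun x => rfl⟩⟩
        comp_mem := by
          rintro P R φ ψ ⟨hφ, hφS⟩ ⟨hψ, hψS⟩ h
          refine ⟨F.comp_mem hφ hψ h, fun hP => ?_⟩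
          obtain ⟨g, hg, hgv⟩ := hφS hP
          have hR : R = S := by
            refine le_antisymm (le_left hψ) fun y hy => ?_
            have hy' : g⁻¹ * y * g ∈ P := hP ▸ S.mul_mem (S.mul_mem (S.inv_mem hg) hy) hg
            have := h ⟨_, hy'⟩
            rw [hgv] at this
            simpa [mul_assoc] using this
          obtain ⟨k, hk, hkv⟩ := hψS hR
          exact ⟨k * g, S.mul_mem hk hg, fun x => by
            rw [MonoidHom.comp_apply, hkv]
            show k * φ x * k⁻¹ = _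
            rw [hgv]
            simp [mul_assoc]⟩
        inv_mem := by
          rintro P φ ⟨hφ, hφS⟩
          obtain ⟨ψ, hψ, hv⟩ := F.inv_mem hφ
          refine ⟨ψ, ⟨hψ, fun hr => ?_⟩, hv⟩
          have hP : P = S := by
            have := finite_of_le (le_left hφ)
            refine Subgroup.eq_of_le_of_card_ge (le_left hφ) ?_
            rw [card_eq_of_isConj (P := P) (Q := φ.range) ⟨φ, hφ, rfl⟩, hr]
          obtain ⟨g, hg, hgv⟩ := hφS hP
          refine ⟨g⁻¹, S.inv_mem hg, ?_⟩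
          rintro ⟨_, x, rfl⟩
          rw [hv]
          show (x : Ω) = g⁻¹ * φ x * g⁻¹⁻¹
          rw [hgv]
          simp [mul_assoc] }
    have haut : ∀ R, R ≠ S → F.autGroup R ≤ E'.autGroup R := by
      intro R hne α hα
      by_cases hR : R ≤ S
      · exact (mem_autGroup_iff hR).2 ⟨(mem_autGroup_iff hR).1 hα, fun h => absurd h hne⟩
      · rw [autGroup_eq_bot hR] at hα
        rw [Subgroup.mem_bot.1 hα]
        exact one_mem _
    by_cases hmem : S ∈ 𝒬₁ ∩ 𝒬₂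
    · exact hE S hmem
    have hle : F ≤ E' := by
      by_cases h : S ∈ 𝒬₁
      · exact hg₂ E' fun R hR => haut R fun e => hmem ⟨h, e ▸ hR⟩
      · exact hg₁ E' fun R hR => haut R fun e => h (e ▸ hR)
    intro α hα
    obtain ⟨g, hg, hv⟩ := (hle S ((mem_autGroup_iff le_rfl).1 hα)).2 rfl
    refine Inn_le_autGroup le_rfl ⟨⟨g, hg⟩, MulEquiv.ext fun x => Subtype.ext ?_⟩
    exact (hv x).symm
  · by_contra hn
    obtain ⟨E', hE', hne⟩ := exists_proper_subsystem hS hF hQ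
    refine hne (hg₁ E' fun R hR => ?_)
    by_cases hRS : R ≤ S
    · exact hE' R hRS fun hc => hn (h₁ R hR Q (isConj_symm hc))
    · rw [autGroup_eq_bot hRS]
      exact bot_le
  · by_contra hn
    obtain ⟨E', hE', hne⟩ := exists_proper_subsystem hS hF hQ
    refine hne (hg₂ E' fun R hR => ?_)
    by_cases hRS : R ≤ S
    · exact hE' R hRS fun hc => hn (h₂ R hR Q (isConj_symm hc))
    · rw [autGroup_eq_bot hRS]
      exact bot_le

end CfsgLib.FusionSub
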