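import Cfsg.Agent.FusionSub.GLTwoSylow

/-!
Criteria for the automorphism group of a 2-subgroup of `GL(2,F)` containing monomial elements to be
a 2-group.
-/

set_option autoImplicit false

namespace CfsgLib.FusionSub.GLTwo

open Matrix
open scoped MatrixGroups

variable {F : Type*} [Field F]

theorem isPGroup_mulAut_wreathed {P : Subgroup (GL (Fin 2) F)} [Finite P] {n : ℕ} (hn : 2 ≤ n)
    (hcard : Nat.card P = 2 ^ (2 * n + 1)) (hw : swap ∈ P) {t : Fˣ} (ht : orderOf t = 2 ^ n)
    (h1 : Δ (t, 1) ∈ P) (h2 : Δ (1, t) ∈ P) : IsPGroup 2 (MulAut P) := by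
  have hw' : Cfsg.IsWreathed P := by
    refine ⟨n, hn, hcard, ⟨Δ (t, 1), h1⟩, ⟨Δ (1, t), h2⟩, ⟨swap, hw⟩, ?_, ?_, ?_, ?_, ?_⟩
    · rw [← Subgroup.orderOf_coe, orderOf_injective Δ Δ_injective, Prod.orderOf, ht, orderOf_one,
        Nat.lcm_one_right]
    · refine Subtype.ext ?_
      rw [Subgroup.coe_mul, Subgroup.coe_mul, ← map_mul, ← map_mul]
      simp [mul_comm]
    · rw [eq_bot_iff]
      rintro x ⟨⟨i, hi⟩, ⟨j, hj⟩⟩
      rw [Subgroup.mem_bot]
      have hi' := congrArg Subtype.val hi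
      have hj' := congrArg Subtype.val hj
      simp only [Subgroup.coe_zpow, ← map_zpow] at hi' hj'
      have h := congrArg Prod.fst (Δ_injective (hi'.trans hj'.symm))
      simp only [Prod.pow_fst, _root_.one_zpow] at h
      refine Subtype.ext ?_
      rw [Subgroup.coe_one, ← hi', map_eq_one_iff Δ Δ_injective]
      exact Prod.ext h (by simp)
    · rw [← Subgroup.orderOf_coe]
      refine orderOf_eq_prime (by rw [sq, swap_mul_swap]) fun h => ?_
      exact swap_ne_Δ 1 1 (h.trans (map_one Δ).symm)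
    · exact Subtype.ext (swap_conj_Δ _ _)
  obtain ⟨k, -, hk, -⟩ := id hw'
  by_contra hA
  have hA' : ¬ IsPGroup 2 (MulAut (⊤ : Subgroup P)) := fun h =>
    hA (h.of_equiv (MulAut.congr Subgroup.topEquiv))
  have h3 := (Cfsg.Agent.S1202.result hw' k hk ⊤ le_top hA').1
  have h4 : (⊤ : Subgroup P).relIndex (Subgroup.normalizer ((⊤ : Subgroup P) : Set P)) = 1 :=
    Subgroup.relIndex_eq_one.2 le_top
  omega

/-- The semidihedral case: diagonal elements of `P` have entries `±1`. -/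
theorem isPGroup_mulAut_sd {P : Subgroup (GL (Fin 2) F)} [Finite P] (h2F : (2 : F) ≠ 0)
    (hP2 : IsPGroup 2 P) (hd : ∀ a b : Fˣ, (a = 1 ∨ a = -1) → (b = 1 ∨ b = -1) → Δ (a, b) ∈ P)
    (hdiag : ∀ a b : Fˣ, Δ (a, b) ∈ P → (a = 1 ∨ a = -1) ∧ (b = 1 ∨ b = -1))
    (h16 : 16 ≤ Nat.card P) : IsPGroup 2 (MulAut P) := by
  have : Fact (Nat.Prime 2) := ⟨Nat.prime_two⟩
  have hne : (-1 : Fˣ) ≠ 1 := fun h => h2F (by
    have := congrArg Units.val h
    simp at this
    linear_combination -this)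
  let s : P := ⟨Δ (-1, 1), hd _ _ (Or.inr rfl) (Or.inl rfl)⟩
  have hs : orderOf s = 2 := by
    refine orderOf_eq_prime (Subtype.ext ?_) fun h => hne ?_
    · rw [Subgroup.coe_pow, ← map_pow]
      exact (congrArg Δ (Prod.ext (by simp) (by simp) : ((-1, 1) : Fˣ × Fˣ) ^ 2 = 1)).trans (map_one Δ)
    · exact congrArg Prod.fst (Δ_injective ((congrArg Subtype.val h).trans (map_one Δ).symm))
  have hC : Nat.card (Subgroup.centralizer ({s} : Set P)) = 4 := by
    let f : Fin 2 → Fˣ := ![1, -1]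
    have hf : ∀ i, f i = 1 ∨ f i = -1 := fun i => by
      fin_cases i <;> [exact Or.inl rfl; exact Or.inr rfl]
    have hfi : Function.Injective f := fun i j h => by
      fin_cases i <;> fin_cases j <;> first | rfl | exact absurd h hne | exact absurd h.symm hne
    let g : Fin 2 × Fin 2 → Subgroup.centralizer ({s} : Set P) := fun x =>
      ⟨⟨Δ (f x.1, f x.2), hd _ _ (hf _) (hf _)⟩, Subgroup.mem_centralizer_singleton_iff.2
        (Subtype.ext (by
          show Δ (f x.1, f x.2) * Δ (-1, 1) = Δ (-1, 1) * Δ (f x.1, f x.2)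
          rw [← map_mul, ← map_mul, mul_comm]))⟩
    rw [← Nat.card_eq_of_bijective g ⟨?_, ?_⟩, Nat.card_eq_fintype_card, Fintype.card_prod]
    · rfl
    · intro x y h
      have h' : (f x.1, f x.2) = (f y.1, f y.2) :=
        Δ_injective (congrArg Subtype.val (congrArg Subtype.val h) :)
      exact Prod.ext (hfi (congrArg Prod.fst h')) (hfi (congrArg Prod.snd h'))
    · rintro ⟨⟨x, hx⟩, hxs⟩
      have hc : x * Δ (-1, 1) = Δ (-1, 1) * x :=
        congrArg Subtype.val (Subgroup.mem_centralizer_singleton_iff.1 hxs)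
      have hc' := congrArg (fun u : GL (Fin 2) F => (u : Matrix (Fin 2) (Fin 2) F)) hc
      simp only [Units.val_mul, coe_Δ] at hc'
      have e01 := congrFun (congrFun hc' 0) 1
      have e10 := congrFun (congrFun hc' 1) 0
      simp [Matrix.mul_apply, Fin.sum_univ_two] at e01 e10
      have h01 : (x : Matrix (Fin 2) (Fin 2) F) 0 1 = 0 := by
        have : (2 : F) * (x : Matrix (Fin 2) (Fin 2) F) 0 1 = 0 := by linear_combination e01
        simpa [h2F] using this
      have h10 : (x : Matrix (Fin 2) (Fin 2) F) 1 0 = 0 := by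
        have : (2 : F) * (x : Matrix (Fin 2) (Fin 2) F) 1 0 = 0 := by linear_combination -e10
        simpa [h2F] using this
      have hdet : IsUnit (x : Matrix (Fin 2) (Fin 2) F).det :=
        (Matrix.GeneralLinearGroup.det x).isUnit
      rw [Matrix.det_fin_two, h01, zero_mul, sub_zero, IsUnit.mul_iff] at hdet
      have hxΔ : x = Δ (hdet.1.unit, hdet.2.unit) := by
        ext i j
        fin_cases i <;> fin_cases j <;> simp [coe_Δ, h01, h10]
      obtain ⟨h1, h2⟩ := hdiag _ _ (hxΔ ▸ hx)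
      have hord : ∀ a : Fˣ, (a = 1 ∨ a = -1) → ∃ i : Fin 2, f i = a := by
        rintro a (rfl | rfl)
        · exact ⟨0, rfl⟩
        · exact ⟨1, rfl⟩
      obtain ⟨i, hi⟩ := hord _ h1
      obtain ⟨j, hj⟩ := hord _ h2
      refine ⟨(i, j), Subtype.ext (Subtype.ext ?_)⟩
      show Δ (f i, f j) = x
      rw [hi, hj, ← hxΔ]
  refine Cfsg.Agent.S3116.result hP2 ?_
  rcases CfsgLib.Inv53.dihedral_quasi_or_four hP2 s hs hC with ⟨m, ⟨e⟩⟩ | h | h
  · refine Or.inl ⟨m, ?_, ⟨e⟩⟩
    have := Nat.card_congr e.toEquiv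
    rw [DihedralGroup.nat_card] at this
    omega
  · exact Or.inr h
  · omega

end CfsgLib.FusionSub.GLTwo
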