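import Cfsg.Agent.FusionSub.GLTwoAut
import Cfsg.Agent.FusionSub.PSLThree
import Cfsg.Agent.Forms4.UnitaryTwo
import Cfsg.Agent.Forms4.UnitaryCenter
import Cfsg.Agent.Forms.UnitaryOrder
import Cfsg.Prelude.Def_LieClassical

/-!
Sylow 2-subgroups of `GU(2,q)`, `q` odd, and elements of order 4 of `SU(2,q)`.
-/

set_option autoImplicit false

namespace CfsgLib.FusionSub.GUTwo

open Matrix CfsgLib.Forms
open scoped MatrixGroups

variable {F : Type*} [Field F] [Fintype F] {q : ℕ}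

/-- The group of norm-one elements. -/
abbrev normOne (F : Type*) [Field F] (q : ℕ) : Subgroup Fˣ := (powMonoidHom (q + 1) : Fˣ →* Fˣ).ker

omit [Fintype F] in
theorem mem_normOne {a : Fˣ} : a ∈ normOne F q ↔ (a : F) * (a : F) ^ q = 1 := by
  rw [MonoidHom.mem_ker, powMonoidHom_apply, Units.ext_iff, Units.val_pow_eq_pow_val, Units.val_one,
    pow_succ']

theorem card_normOne (hF : Fintype.card F = q ^ 2) : Nat.card (normOne F q) = q + 1 := by
  rw [IsCyclic.card_powMonoidHom_ker, Linear.card_units, hF]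
  refine Nat.gcd_eq_right ⟨q - 1, ?_⟩
  rw [← one_pow 2, Nat.sq_sub_sq, one_pow]

theorem neg_one_mem_normOne (hodd : q % 2 = 1) : (-1 : Fˣ) ∈ normOne F q := by
  rw [MonoidHom.mem_ker, powMonoidHom_apply]
  exact Even.neg_one_pow (by rw [Nat.even_iff]; omega)

theorem mem_GU_two_iff {g : GL (Fin 2) F} :
    g ∈ Cfsg.GU 2 F q ↔ ∀ u v : Fin 2 → F,
      Cfsg.hermForm 2 F q (g.1 *ᵥ u) (g.1 *ᵥ v) = Cfsg.hermForm 2 F q u v := Iff.rfl

theorem Δ_mem (hF : Fintype.card F = q ^ 2) {a b : Fˣ} (ha : a ∈ normOne F q)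
    (hb : b ∈ normOne F q) : GLTwo.Δ (a, b) ∈ Cfsg.GU 2 F q := by
  obtain ⟨σ, hσ, -⟩ := CfsgLib.FieldEmb.exists_conj hF
  rw [mem_normOne, ← hσ] at ha hb
  intro u v
  show Cfsg.hermForm 2 F q ((GLTwo.Δ (a, b)).1 *ᵥ u) ((GLTwo.Δ (a, b)).1 *ᵥ v) = _
  simp [Cfsg.hermForm, GLTwo.coe_Δ, Matrix.vecHead, Matrix.vecTail, Fin.sum_univ_two, ← hσ]
  linear_combination (u 0 * σ (v 0)) * ha + (u 1 * σ (v 1)) * hb

theorem Δ_mem_iff (hF : Fintype.card F = q ^ 2) {a b : Fˣ} :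
    GLTwo.Δ (a, b) ∈ Cfsg.GU 2 F q ↔ a ∈ normOne F q ∧ b ∈ normOne F q := by
  refine ⟨fun h => ?_, fun h => Δ_mem hF h.1 h.2⟩
  obtain ⟨σ, hσ, -⟩ := CfsgLib.FieldEmb.exists_conj hF
  rw [mem_normOne, mem_normOne, ← hσ, ← hσ]
  have h0 := (mem_GU_two_iff.1 h) ![1, 0] ![1, 0]
  have h1 := (mem_GU_two_iff.1 h) ![0, 1] ![0, 1]
  simp [Cfsg.hermForm, GLTwo.coe_Δ, Matrix.vecHead, Matrix.vecTail, Fin.sum_univ_two, ← hσ] at h0 h1
  exact ⟨h0, h1⟩

theorem swap_mem : (GLTwo.swap : GL (Fin 2) F) ∈ Cfsg.GU 2 F q := by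
  intro u v
  show Cfsg.hermForm 2 F q ((GLTwo.swap : GL (Fin 2) F).1 *ᵥ u)
    ((GLTwo.swap : GL (Fin 2) F).1 *ᵥ v) = _
  simp [Cfsg.hermForm, GLTwo.coe_swap, Matrix.vecHead, Matrix.vecTail, Fin.sum_univ_two]
  ring

/-- A unitary element conjugating `diag(-1,1)` to the swap. -/
theorem exists_swap_conj (hF : Fintype.card F = q ^ 2) (hodd : q % 2 = 1) :
    ∃ c : Cfsg.GU 2 F q, c.1 * GLTwo.Δ (-1, 1) * c.1⁻¹ = GLTwo.swap := by
  obtain ⟨σ, hσ, -⟩ := CfsgLib.FieldEmb.exists_conj hF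
  have hoddF : Odd (Fintype.card F) := by
    rw [hF]
    exact (Nat.odd_iff.2 hodd).pow
  have h2 : (2 : F) ≠ 0 := Linear.two_ne_zero_of_odd hoddF
  have hq : 2 ≤ q := two_le_q hF
  set h : Fˣ := (Units.mk0 (2 : F) h2)⁻¹ with hh
  have hh1 : h ∈ (powMonoidHom (q - 1) : Fˣ →* Fˣ).ker := by
    rw [MonoidHom.mem_ker, powMonoidHom_apply, hh, inv_pow, inv_eq_one]
    refine Units.ext ?_
    rw [Units.val_pow_eq_pow_val, Units.val_mk0, Units.val_one]
    refine mul_right_cancel₀ h2 ?_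
    rw [← pow_succ, show q - 1 + 1 = q by omega, ← hσ, map_ofNat, one_mul]
  have heq : (powMonoidHom (q + 1) : Fˣ →* Fˣ).range = (powMonoidHom (q - 1)).ker := by
    have hc : Nat.card Fˣ = (q + 1) * (q - 1) := by
      rw [Linear.card_units, hF, ← one_pow 2, Nat.sq_sub_sq, one_pow]
    refine Subgroup.eq_of_le_of_card_ge ?_ (le_of_eq ?_)
    · rintro _ ⟨x, rfl⟩
      rw [MonoidHom.mem_ker, powMonoidHom_apply, powMonoidHom_apply, ← pow_mul, ← hc,
        pow_card_eq_one']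
    · have h1 := Subgroup.card_mul_index (powMonoidHom (q + 1) : Fˣ →* Fˣ).ker
      rw [Subgroup.index_ker, IsCyclic.card_powMonoidHom_ker, hc,
        Nat.gcd_eq_right (dvd_mul_right _ _)] at h1
      rw [IsCyclic.card_powMonoidHom_ker, hc, Nat.gcd_eq_right (dvd_mul_left _ _)]
      exact (Nat.eq_of_mul_eq_mul_left (by omega) h1).symm
  obtain ⟨l, hl⟩ := heq.ge hh1
  have hll : (2 : F) * ((l : F) * σ l) = 1 := by
    rw [hσ, ← pow_succ', ← Units.val_pow_eq_pow_val]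
    rw [powMonoidHom_apply] at hl
    rw [hl, hh, Units.val_inv_eq_inv_val, Units.val_mk0, mul_inv_cancel₀ h2]
  have hdet : (!![(l : F), (l : F); -(l : F), (l : F)]).det ≠ 0 := by
    rw [Matrix.det_fin_two_of]
    intro h0
    have : (2 : F) * (l * l) = 0 := by linear_combination h0
    simp [h2] at this
  refine ⟨⟨Matrix.GeneralLinearGroup.mkOfDetNeZero _ hdet, ?_⟩, ?_⟩
  · intro u v
    show Cfsg.hermForm 2 F q (!![(l : F), (l : F); -(l : F), (l : F)] *ᵥ u)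
      (!![(l : F), (l : F); -(l : F), (l : F)] *ᵥ v) = _
    simp [Cfsg.hermForm, Matrix.vecHead, Matrix.vecTail, Fin.sum_univ_two, ← hσ]
    linear_combination (u 0 * σ (v 0) + u 1 * σ (v 1)) * hll
  · rw [mul_inv_eq_iff_eq_mul]
    ext i j
    fin_cases i <;> fin_cases j <;>
      simp [GLTwo.coe_Δ, GLTwo.coe_swap, Matrix.GeneralLinearGroup.mkOfDetNeZero, Matrix.mul_apply]

theorem det_mem_normOne (hF : Fintype.card F = q ^ 2) (g : Cfsg.GU 2 F q) :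
    Matrix.GeneralLinearGroup.det g.1 ∈ normOne F q := by
  obtain ⟨σ, hσ, -⟩ := CfsgLib.FieldEmb.exists_conj hF
  have h := isoDet_norm σ 2 (guEquivIso hσ 2 g)
  rw [isoDet_guEquivIso, hσ] at h
  exact mem_normOne.2 h

theorem exists_sylow (hF : Fintype.card F = q ^ 2) :
    ∃ P : Sylow 2 (Cfsg.GU 2 F q),
      (⟨GLTwo.swap, swap_mem⟩ : Cfsg.GU 2 F q) ∈ (P : Subgroup (Cfsg.GU 2 F q)) ∧
      ∀ (a b : Fˣ) (ha : a ∈ normOne F q) (hb : b ∈ normOne F q),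
        (∃ k : ℕ, orderOf a = 2 ^ k) → (∃ k : ℕ, orderOf b = 2 ^ k) →
        (⟨GLTwo.Δ (a, b), Δ_mem hF ha hb⟩ : Cfsg.GU 2 F q) ∈ (P : Subgroup (Cfsg.GU 2 F q)) := by
  have : Fact (Nat.Prime 2) := ⟨Nat.prime_two⟩
  obtain ⟨U⟩ : Nonempty (Sylow 2 Fˣ) := inferInstance
  let W : Subgroup Fˣ := (U : Subgroup Fˣ) ⊓ normOne F q
  let A : Subgroup (GL (Fin 2) F) := (W.prod W).map GLTwo.Δ
  have hA : IsPGroup 2 A := by
    obtain ⟨k, hk⟩ := (U.isPGroup'.to_le (inf_le_left : W ≤ U)).exists_card_eq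
    refine IsPGroup.map (IsPGroup.of_card (n := k + k) ?_) _
    rw [Nat.card_congr (Subgroup.prodEquiv W W).toEquiv, Nat.card_prod, hk, pow_add]
  have hU : ∀ a : Fˣ, (∃ k : ℕ, orderOf a = 2 ^ k) → a ∈ (U : Subgroup Fˣ) := by
    rintro a ⟨k, hk⟩
    have h1 : IsPGroup 2 (Subgroup.zpowers a) := IsPGroup.of_card (by rw [Nat.card_zpowers, hk])
    rw [← U.is_maximal' (h1.to_sup_of_normal_right U.isPGroup') le_sup_right]
    exact Subgroup.mem_sup_left (Subgroup.mem_zpowers a)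
  have hw : IsPGroup 2 (Subgroup.zpowers (GLTwo.swap : GL (Fin 2) F)) := by
    have h1 : orderOf (GLTwo.swap : GL (Fin 2) F) ∣ 2 ^ 1 :=
      orderOf_dvd_of_pow_eq_one (by rw [pow_one, sq, GLTwo.swap_mul_swap])
    obtain ⟨k, -, hk⟩ := (Nat.dvd_prime_pow Nat.prime_two).1 h1
    exact IsPGroup.of_card (by rw [Nat.card_zpowers, hk])
  have hnorm : Subgroup.zpowers (GLTwo.swap : GL (Fin 2) F) ≤
      Subgroup.normalizer (A : Set (GL (Fin 2) F)) := by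
    rw [Subgroup.zpowers_le]
    refine Subgroup.mem_normalizer_fintype ?_
    rintro _ ⟨⟨a, b⟩, ⟨ha, hb⟩, rfl⟩
    exact ⟨(b, a), ⟨hb, ha⟩, (GLTwo.swap_conj_Δ a b).symm⟩
  obtain ⟨P, hP⟩ := ((IsPGroup.to_sup_of_normal_left' hA hw hnorm).comap_of_injective
    (Cfsg.GU 2 F q).subtype (Subgroup.subtype_injective _)).exists_le_sylow
  exact ⟨P, hP (Subgroup.mem_sup_right (Subgroup.mem_zpowers _) :
      (GLTwo.swap : GL (Fin 2) F) ∈ A ⊔ Subgroup.zpowers GLTwo.swap),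
    fun a b hna hnb ha hb => hP (Subgroup.mem_sup_left
      ⟨(a, b), ⟨⟨hU a ha, hna⟩, hU b hb, hnb⟩, rfl⟩ :
      GLTwo.Δ (a, b) ∈ A ⊔ Subgroup.zpowers GLTwo.swap)⟩

theorem isPGroup_mulAut (hF : Fintype.card F = q ^ 2) (hodd : q % 2 = 1)
    (P : Sylow 2 (Cfsg.GU 2 F q))
    (hw : (⟨GLTwo.swap, swap_mem⟩ : Cfsg.GU 2 F q) ∈ (P : Subgroup (Cfsg.GU 2 F q)))
    (hΔ : ∀ (a b : Fˣ) (ha : a ∈ normOne F q) (hb : b ∈ normOne F q),
        (∃ k : ℕ, orderOf a = 2 ^ k) → (∃ k : ℕ, orderOf b = 2 ^ k) →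
        (⟨GLTwo.Δ (a, b), Δ_mem hF ha hb⟩ : Cfsg.GU 2 F q) ∈ (P : Subgroup (Cfsg.GU 2 F q))) :
    IsPGroup 2 (MulAut (P : Subgroup (Cfsg.GU 2 F q))) := by
  have : Fact (Nat.Prime 2) := ⟨Nat.prime_two⟩
  have hoddF : Odd (Fintype.card F) := by rw [hF]; exact (Nat.odd_iff.2 hodd).pow
  have h2 : (2 : F) ≠ 0 := Linear.two_ne_zero_of_odd hoddF
  have hq : 2 ≤ q := two_le_q hF
  set P' := (P : Subgroup (Cfsg.GU 2 F q)).map (Cfsg.GU 2 F q).subtype with hP'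
  let e := Subgroup.equivMapOfInjective (P : Subgroup (Cfsg.GU 2 F q)) (Cfsg.GU 2 F q).subtype
    (Subgroup.subtype_injective _)
  suffices IsPGroup 2 (MulAut P') from this.of_equiv (MulAut.congr e).symm
  have hcard : Nat.card P' = Nat.card (P : Subgroup (Cfsg.GU 2 F q)) := (Nat.card_congr e.toEquiv).symm
  have hP2 : IsPGroup 2 P' := P.isPGroup'.map _
  have hcardGU : Nat.card (Cfsg.GU 2 F q) = q * ((q + 1) * (q ^ 2 - 1)) := by
    rw [card_GU hF]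
    simp [Finset.sum_range_succ, Finset.prod_range_succ, u]
  have hsq : q ^ 2 - 1 = (q + 1) * (q - 1) := by rw [← Nat.sq_sub_sq, one_pow]
  by_cases h4 : q % 4 = 3
  · obtain ⟨n, o, ho, hno⟩ := Nat.exists_eq_pow_mul_and_not_dvd (n := q + 1) (by omega) 2 (by norm_num)
    have hn2 : 2 ≤ n := by
      by_contra hlt
      have : n = 0 ∨ n = 1 := by omega
      rcases this with rfl | rfl
      · omega
      · obtain ⟨c, hc⟩ : Odd o := Nat.not_even_iff_odd.1 fun he => ho he.two_dvd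
        omega
    obtain ⟨g, hg⟩ := IsCyclic.exists_generator (α := normOne F q)
    have hog : orderOf g = 2 ^ n * o := by
      rw [orderOf_eq_card_of_forall_mem_zpowers hg, card_normOne hF, hno]
    have hot : orderOf (((g ^ o : normOne F q)) : Fˣ) = 2 ^ n := by
      rw [Subgroup.orderOf_coe, orderOf_pow' g (fun h => ho (by rw [h]; exact dvd_zero 2)), hog,
        Nat.gcd_eq_right (dvd_mul_left o _), Nat.mul_div_cancel _ (Nat.pos_of_ne_zero fun h =>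
          ho (by rw [h]; exact dvd_zero 2))]
    have hone : (1 : Fˣ) ∈ normOne F q := one_mem _
    refine GLTwo.isPGroup_mulAut_wreathed hn2 ?_ ⟨_, hw, rfl⟩ hot
      ⟨_, hΔ _ _ (g ^ o).2 hone ⟨n, hot⟩ ⟨0, by simp⟩, rfl⟩
      ⟨_, hΔ _ _ hone (g ^ o).2 ⟨0, by simp⟩ ⟨n, hot⟩, rfl⟩
    rw [hcard]
    have h1 := P.card_eq_multiplicity
    obtain ⟨c, hc⟩ : ∃ c, q - 1 = 2 * (2 * c + 1) := ⟨(q - 3) / 4, by omega⟩
    have hj : Nat.card (Cfsg.GU 2 F q) = 2 ^ (2 * n + 1) * (q * (o * o * (2 * c + 1))) := by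
      rw [hcardGU, hsq, hno, hc]
      ring
    have hodd' : ¬ 2 ∣ q * (o * o * (2 * c + 1)) := by
      have hoddo : Odd o := Nat.not_even_iff_odd.1 fun he => ho he.two_dvd
      have h := (Nat.odd_iff.2 hodd).mul ((hoddo.mul hoddo).mul ⟨c, rfl⟩)
      exact fun hd => Nat.not_even_iff_odd.2 h (even_iff_two_dvd.2 hd)
    rw [hj, Nat.factorization_mul (pow_ne_zero _ two_ne_zero)
        (fun h => hodd' (by rw [h]; exact dvd_zero 2)),
      Nat.prime_two.factorization_pow, Finsupp.add_apply, Finsupp.single_eq_same,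
      Nat.factorization_eq_zero_of_not_dvd hodd', add_zero] at h1
    exact h1
  · have hm1 : ∃ k : ℕ, orderOf (-1 : Fˣ) = 2 ^ k := by
      obtain ⟨k, -, hk⟩ := (Nat.dvd_prime_pow Nat.prime_two).1
        (orderOf_dvd_of_pow_eq_one (by simp : (-1 : Fˣ) ^ (2 ^ 1) = 1))
      exact ⟨k, hk⟩
    have hpm : ∀ a : Fˣ, (a = 1 ∨ a = -1) → a ∈ normOne F q ∧ ∃ k : ℕ, orderOf a = 2 ^ k := by
      rintro a (rfl | rfl)
      · exact ⟨one_mem _, 0, by simp⟩
      · exact ⟨neg_one_mem_normOne hodd, hm1⟩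
    refine GLTwo.isPGroup_mulAut_sd h2 hP2
      (fun a b ha hb => ⟨_, hΔ a b (hpm a ha).1 (hpm b hb).1 (hpm a ha).2 (hpm b hb).2, rfl⟩)
      (fun a b hab => ?_) ?_
    · obtain ⟨y, hy, hyv⟩ := hab
      have hN := (Δ_mem_iff hF).1 (show GLTwo.Δ (a, b) ∈ Cfsg.GU 2 F q from
        (show (y : GL (Fin 2) F) = GLTwo.Δ (a, b) from hyv) ▸ y.2)
      obtain ⟨k, hk⟩ := hP2 ⟨GLTwo.Δ (a, b), ⟨y, hy, hyv⟩⟩
      have hk' : GLTwo.Δ (a, b) ^ 2 ^ k = 1 := congrArg Subtype.val hk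
      rw [← map_pow, map_eq_one_iff GLTwo.Δ GLTwo.Δ_injective, Prod.pow_mk, Prod.mk_eq_one] at hk'
      have key : ∀ a : Fˣ, a ^ 2 ^ k = 1 → a ∈ normOne F q → a = 1 ∨ a = -1 := by
        intro a ha hn
        obtain ⟨j, -, hj⟩ := (Nat.dvd_prime_pow Nat.prime_two).1 (orderOf_dvd_of_pow_eq_one ha)
        have hd : orderOf a ∣ q + 1 := orderOf_dvd_of_pow_eq_one hn
        have hj1 : orderOf a ∣ 2 := by
          rcases j with _ | _ | j
          · rw [hj]; exact one_dvd _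
          · rw [hj]; rfl
          · exfalso
            have h44 : 4 ∣ q + 1 := (hj ▸ pow_dvd_pow 2 (show 2 ≤ j + 1 + 1 by omega)).trans hd
            omega
        have ha2 : (a : F) ^ 2 = 1 := by
          rw [← Units.val_pow_eq_pow_val, orderOf_dvd_iff_pow_eq_one.1 hj1, Units.val_one]
        rcases sq_eq_one_iff.1 ha2 with h | h
        · exact Or.inl (Units.ext h)
        · exact Or.inr (Units.ext (by simpa using h))
      exact ⟨key a hk'.1 hN.1, key b hk'.2 hN.2⟩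
    · rw [hcard]
      have hd : 2 ^ 4 ∣ Nat.card (Cfsg.GU 2 F q) := by
        obtain ⟨c, hc⟩ : 2 ∣ q + 1 := by omega
        obtain ⟨d, hd⟩ : 4 ∣ q - 1 := by omega
        refine ⟨q * (c * c * d), ?_⟩
        rw [hcardGU, hsq, hc, hd]
        ring
      exact Nat.le_of_dvd Nat.card_pos (P.pow_dvd_card_of_pow_dvd_card hd)

/-- `SU(2,q)` inside `GU(2,q)`. -/
def inc : Cfsg.SU 2 F q →* Cfsg.GU 2 F q :=
  ((GLTwo.inc).comp (Cfsg.SU 2 F q).subtype).codRestrict _ fun g => g.2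

omit [Fintype F] in
theorem inc_injective : Function.Injective (inc (F := F) (q := q)) := fun _ _ h =>
  Subtype.ext (GLTwo.inc_injective (congrArg Subtype.val h))

omit [Fintype F] in
theorem exists_inc_of_det {g : Cfsg.GU 2 F q} (h : Matrix.GeneralLinearGroup.det g.1 = 1) :
    ∃ a : Cfsg.SU 2 F q, inc a = g := by
  obtain ⟨a, ha⟩ := GLTwo.exists_inc_of_det h
  exact ⟨⟨a, (ha.symm ▸ g.2 : GLTwo.inc a ∈ Cfsg.GU 2 F q)⟩, Subtype.ext ha⟩

theorem exists_subfield (hF : Fintype.card F = q ^ 2) :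
    ∃ (K : Type) (_ : Field K) (_ : Fintype K), Fintype.card K = q := by
  obtain ⟨p, hp⟩ := CharP.exists F
  obtain ⟨n, hpp, hn⟩ := FiniteField.card F p
  have : Fact p.Prime := ⟨hpp⟩
  have hdq : q ∣ p ^ (n : ℕ) := ⟨q, by rw [← hn, hF, sq]⟩
  obtain ⟨m, -, hm⟩ := (Nat.dvd_prime_pow hpp).1 hdq
  have hq : 2 ≤ q := two_le_q hF
  have hm0 : m ≠ 0 := by rintro rfl; rw [hm] at hq; simp at hq
  refine ⟨GaloisField p m, inferInstance, Fintype.ofFinite _, ?_⟩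
  rw [hm, ← GaloisField.card p m hm0]
  exact (@Nat.card_eq_fintype_card _ (Fintype.ofFinite _)).symm

/-- All elements of order 4 of `SU(2,q)` are conjugate, and its Sylow 2-subgroups are quaternion. -/
theorem order_four_and_quaternion (hF : Fintype.card F = q ^ 2) (hodd : q % 2 = 1) :
    (∀ x y : Cfsg.SU 2 F q, orderOf x = 4 → orderOf y = 4 → IsConj x y) ∧
    ∀ R : Sylow 2 (Cfsg.SU 2 F q), ∃ m : ℕ, 1 ≤ m ∧
      Nonempty ((R : Subgroup (Cfsg.SU 2 F q)) ≃* QuaternionGroup (2 ^ m)) := by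
  have : Fact (Nat.Prime 2) := ⟨Nat.prime_two⟩
  obtain ⟨K, _, _, hK⟩ := exists_subfield hF
  obtain ⟨e⟩ := Forms4.nonempty_SU_two_equiv hF hK
  have hKodd : Odd (Fintype.card K) := by rw [hK]; exact Nat.odd_iff.2 hodd
  refine ⟨fun x y hx hy => ?_, fun R => ?_⟩
  · have h := (eq_zpow_of_orderOf_four hKodd (x := e x) (by rw [MulEquiv.orderOf_eq]; exact hx)).trans
      (eq_zpow_of_orderOf_four hKodd (x := e y) (by rw [MulEquiv.orderOf_eq]; exact hy)).symm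
    simpa using MonoidHom.map_isConj e.symm.toMonoidHom h
  · obtain ⟨m, hm, ⟨f⟩⟩ := Linear.sylow_two_quaternion hKodd
      (R.mapSurjective (f := e.toMonoidHom) e.surjective)
    exact ⟨m, hm, ⟨((Subgroup.equivMapOfInjective (R : Subgroup (Cfsg.SU 2 F q)) e.toMonoidHom
      e.injective).trans (MulEquiv.subgroupCongr (Sylow.coe_mapSurjective _ _).symm)).trans f⟩⟩

theorem inc_preimage_quaternion (hF : Fintype.card F = q ^ 2) (hodd : q % 2 = 1)
    (P : Sylow 2 (Cfsg.GU 2 F q)) :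
    ∃ m : ℕ, 1 ≤ m ∧
      Nonempty ((P : Subgroup (Cfsg.GU 2 F q)).comap inc ≃* QuaternionGroup (2 ^ m)) := by
  have : Fact (Nat.Prime 2) := ⟨Nat.prime_two⟩
  have hrange : (inc (F := F) (q := q)).range =
      ((Matrix.GeneralLinearGroup.det).comp (Cfsg.GU 2 F q).subtype).ker := by
    ext g
    exact ⟨fun ⟨a, ha⟩ => ha ▸ GLTwo.det_inc a.1, fun h => exists_inc_of_det h⟩
  have hidx : ¬ 2 ∣ ((P : Subgroup (Cfsg.GU 2 F q)).comap inc).index := by
    rw [Subgroup.index_comap, hrange]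
    exact CfsgLib.Transfer.not_dvd_relIndex_of_normal P _
  exact (order_four_and_quaternion hF hodd).2
    ((P.isPGroup'.comap_of_injective inc inc_injective).toSylow hidx)

end CfsgLib.FusionSub.GUTwo
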