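import Cfsg.Agent.FusionSub.Extension
import Cfsg.Agent.Fusion.NormalizerSaturated
import Cfsg.Agent.Fusion.NormalSubgroup
import Cfsg.Agent.FusionClosed.Normality
import Cfsg.Agent.FusionClosed.Stabilizer
import Cfsg.Agent.Techniques.SmallExponent

/-!
A saturated subsystem containing all maps that centralise a "good" element of their source is
reached by every map whose source normalises the centralizer of a good element.
-/

set_option autoImplicit false

namespace CfsgLib.FusionSub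

open Cfsg Cfsg.FusionSystem CfsgLib.Fusion

variable {Ω : Type*} [Group Ω] {S : Subgroup Ω} [Finite S] {p : ℕ} [Fact p.Prime]

/-- An invariant subgroup of a centric radical subgroup containing its centralizer there is
centric. -/
theorem isCentric_of_invariant (hS : IsPGroup p S) {F : FusionSystem S} (hF : F.IsSaturated p)
    {Q T : Subgroup Ω} (hQc : F.IsCentric Q) (hQr : F.IsRadical p Q) (hTQ : T ≤ Q)
    (hinv : ∀ α ∈ F.autGroup Q, ∀ t : Q, (t : Ω) ∈ T → (α t : Ω) ∈ T)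
    (hc : ∀ q ∈ Q, (∀ t ∈ T, q * t = t * q) → q ∈ T) : F.IsCentric T := by
  have := finite_of_le hQc.1
  have hQT : Q ≤ Subgroup.normalizer (T : Set Ω) := fun q hq => by
    have := finite_of_le (hTQ.trans hQc.1)
    refine Subgroup.mem_normalizer_fintype fun t ht => ?_
    exact hinv _ (Inn_le_autGroup hQc.1 ⟨⟨q, hq⟩, rfl⟩) ⟨t, hTQ ht⟩ ht
  -- the automorphisms fixing `T` form a normal `p`-subgroup
  let K : Subgroup (F.autGroup Q) :=
    { carrier := {α | ∀ t : Q, (t : Ω) ∈ T → (α : MulAut Q) t = t}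
      one_mem' := fun t _ => rfl
      mul_mem' := fun {a b} ha hb t ht => by
        show (a : MulAut Q) ((b : MulAut Q) t) = t
        rw [hb t ht, ha t ht]
      inv_mem' := fun {a} ha t ht => by
        show (a : MulAut Q)⁻¹ t = t
        exact (MulEquiv.symm_apply_eq _).2 (ha t ht).symm }
  have hKn : K.Normal := ⟨fun a ha g t ht => by
    show (g : MulAut Q) ((a : MulAut Q) ((g : MulAut Q)⁻¹ t)) = t
    rw [ha _ (hinv _ (inv_mem g.2) t ht)]
    exact (g : MulAut Q).apply_symm_apply t⟩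
  have hKp : IsPGroup p K := FusionClosed.isPGroup_of_coprime_trivial fun a ha hcop =>
    Subtype.ext (MulEquiv.ext fun x => by
      refine Techniques.eq_of_fix_quotient (isPGroup_of_le_S hS hQc.1)
        (by rwa [Subgroup.orderOf_coe]) (ha _ (hc _ (x⁻¹ * (a : MulAut Q) x).2 fun t ht => ?_))
      have hxt : ((x : Ω) * t * (x : Ω)⁻¹) ∈ T := (Subgroup.mem_normalizer_iff.1 (hQT x.2) t).1 ht
      have h1 : (a : MulAut Q) (x * ⟨t, hTQ ht⟩ * x⁻¹) = x * ⟨t, hTQ ht⟩ * x⁻¹ := ha _ hxt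
      rw [map_mul, map_mul, map_inv, ha ⟨t, hTQ ht⟩ ht] at h1
      have h2 : (x⁻¹ * (a : MulAut Q) x) * ⟨t, hTQ ht⟩ = ⟨t, hTQ ht⟩ * (x⁻¹ * (a : MulAut Q) x) := by
        rw [← mul_inv_eq_iff_eq_mul,
          show x⁻¹ * (a : MulAut Q) x * ⟨t, hTQ ht⟩ * (x⁻¹ * (a : MulAut Q) x)⁻¹ =
            x⁻¹ * ((a : MulAut Q) x * ⟨t, hTQ ht⟩ * ((a : MulAut Q) x)⁻¹) * x by group, h1]
        group
      exact congrArg Subtype.val h2)
  obtain ⟨T₀, hTT₀, hT₀⟩ := exists_fullyNormalized (F := F) (hTQ.trans hQc.1)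
  obtain ⟨hT₀a, hT₀r⟩ := automized_receptive hS hF hT₀
  obtain ⟨χ, hχ, -, himg⟩ := exists_map_normalizerIn hS hT₀a hT₀r hTT₀
  have hQN : Q ≤ normalizerIn S T := le_inf hQc.1 hQT
  obtain ⟨e, he, hev⟩ := exists_iso_restrict hχ hQN
  have hQ'c : F.IsCentric (imgHom χ Q) := isCentric_of_isConj hQc he.isConj
  have hT₀Q : T₀ ≤ imgHom χ Q := himg ▸ imgHom_mono χ hTQ
  have hQ'T : imgHom χ Q ≤ Subgroup.normalizer (T₀ : Set Ω) := by
    rintro _ ⟨g, hg, rfl⟩
    have := map_mem_normalizer (ψ := χ) (hTQ.trans hQN) (g := g) (hQT hg)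
    rwa [himg] at this
  have key : ∀ s ∈ centralizerIn S T₀, s ∈ Subgroup.normalizer (imgHom χ Q : Set Ω) →
      s ∈ imgHom χ Q := by
    intro s hs hsN
    by_contra hsQ
    set β := (imgHom χ Q).normalizerMonoidHom ⟨s, hsN⟩ with hβ
    have hβF : β ∈ F.autGroup (imgHom χ Q) := autInducedBy_le_autGroup hQ'c.1
      (mem_autInducedBy_iff.2 ⟨s, hs.1, hsN, fun _ => rfl⟩)
    have hαF := congr_mem_autGroup he.symm hβF
    have hK : (⟨_, hαF⟩ : F.autGroup Q) ∈ K := by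
      intro t ht
      refine e.injective ?_
      show e (e.symm (β (e t))) = e t
      rw [MulEquiv.apply_symm_apply]
      refine Subtype.ext ?_
      show s * (e t : Ω) * s⁻¹ = e t
      refine (mem_centralizerIn'.1 hs).2 _ ?_
      rw [← himg, hev]
      exact apply_mem_imgHom χ ht
    obtain ⟨u, hu⟩ := mem_Inn_of_normal_pGroup hQr hKn hKp hK
    refine not_mem_Inn_of_not_mem hQ'c ⟨hs.1, hsN⟩ hsQ (β := β) (fun _ => rfl) ⟨e u, ?_⟩
    refine MulEquiv.ext fun y => ?_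
    obtain ⟨z, rfl⟩ := e.surjective y
    have h := DFunLike.congr_fun hu z
    show e u * e z * (e u)⁻¹ = β (e z)
    rw [← map_inv, ← map_mul, ← map_mul]
    exact (congrArg e h).trans (e.apply_symm_apply _)
  -- `C_S(T₀) ≤ χ(Q)`
  have hCQ : centralizerIn S T₀ ≤ imgHom χ Q := by
    intro c hc'
    by_contra hcQ
    have hMS : imgHom χ Q ⊔ centralizerIn S T₀ ≤ S := sup_le hQ'c.1 (centralizerIn_le S T₀)
    have := finite_of_le hMS
    have hlt : imgHom χ Q < imgHom χ Q ⊔ centralizerIn S T₀ :=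
      lt_of_le_of_ne le_sup_left fun h => hcQ (h.symm ▸ Subgroup.mem_sup_right hc' :)
    obtain ⟨m, hm, hmQ⟩ := SetLike.exists_of_lt (lt_normalizerIn (hS.to_le hMS) hlt)
    have hmM : m ∈ ((imgHom χ Q ⊔ centralizerIn S T₀ : Subgroup Ω) : Set Ω) := hm.1
    rw [Subgroup.coe_mul_of_left_le_normalizer_right (imgHom χ Q) (centralizerIn S T₀)
      (fun q hq => ?_)] at hmM
    · obtain ⟨u, hu, s, hs, rfl⟩ := hmM
      refine hmQ (mul_mem hu (key s hs ?_))
      simpa using mul_mem (inv_mem (Subgroup.le_normalizer hu)) hm.2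
    · have := finite_of_le (centralizerIn_le S T₀)
      refine Subgroup.mem_normalizer_fintype fun x hx => ?_
      rw [SetLike.mem_coe, mem_centralizerIn'] at hx ⊢
      have hqS : q ∈ S := hQ'c.1 hq
      refine ⟨S.mul_mem (S.mul_mem hqS hx.1) (S.inv_mem hqS), fun t ht => ?_⟩
      have h1 := hx.2 _ ((Subgroup.mem_normalizer_iff''.1 (hQ'T hq) t).1 ht)
      calc _ = q * (x * (q⁻¹ * t * q) * x⁻¹) * q⁻¹ := by simp [mul_assoc]
        _ = t := by rw [h1]; simp [mul_assoc]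
  refine isCentric_of_isConj ?_ (isConj_symm hTT₀)
  refine isCentric_of_fullyCentralized hS hF (fullyCentralized_of_normalized hS hF hT₀)
    fun c hc' => ?_
  obtain ⟨g, hg, rfl⟩ := hCQ hc'
  rw [← himg]
  refine apply_mem_imgHom χ (hc g hg fun t ht => ?_)
  have h1 := (mem_centralizerIn'.1 hc').2 (χ ⟨t, hQN (hTQ ht)⟩)
    (himg ▸ apply_mem_imgHom χ ht)
  rw [mul_inv_eq_iff_eq_mul, ← map_mul, ← map_mul] at h1
  exact congrArg Subtype.val (F.injective_of_mem hχ h1)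

omit [Finite S] [Fact p.Prime] in
/-- `Q` is normal in its normalizer system. -/
theorem isNormal_normalizerSystem {F : FusionSystem S} {R : Subgroup Ω} (hRS : R ≤ S)
    {E : FusionSystem (normalizerIn S R)} (hE : F.IsNormalizerSystem R E) : E.IsNormal R := by
  have hRN : R ≤ normalizerIn S R := le_normalizerIn hRS
  refine ⟨hRN, fun P φ hφ => ?_⟩
  rw [hE P] at hφ
  obtain ⟨-, hPN, hφN, ψ, hψ, h1, h2⟩ := hφ
  refine ⟨ψ, ?_, h1, h2⟩
  rw [hE]
  refine ⟨hψ, sup_le hPN hRN, fun x => ?_, restrictHom ψ (sup_le le_rfl le_sup_right),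
    restrict_mem hψ _, fun x => rfl, ?_⟩
  · have hx : ψ x ∈ φ.range ⊔ R := range_extension h1 h2 ▸ ⟨x, rfl⟩
    refine sup_le ?_ hRN hx
    rintro _ ⟨y, rfl⟩
    exact hφN y
  · refine le_antisymm ?_ ?_
    · rintro _ ⟨x, hx, rfl⟩
      exact h2.le ⟨_, hx, rfl⟩
    · intro y hy
      obtain ⟨x, hx, rfl⟩ := h2.ge hy
      exact ⟨⟨x, Subgroup.mem_sup_right hx⟩, hx, rfl⟩

variable {F E : FusionSystem S} (good : Ω → Prop)

/-- If maps centralising a good element of their source lie in `E`, then so do the maps of the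
normalizer system of a fully normalized `R` with a good central element. -/
theorem normalizer_le_of_good (hS : IsPGroup p S) (hF : F.IsSaturated p) (hE : E.IsSaturated p)
    (hEF : E ≤ F)
    (hcen : ∀ (P : Subgroup Ω) (φ : P →* Ω), φ ∈ F.Hom P → ∀ x : P, good x →
      (∀ y : P, y * x = x * y) → φ ∈ E.Hom P)
    {R : Subgroup Ω} (hR : F.IsFullyNormalized R) {x₀ : Ω} (hx₀ : x₀ ∈ R) (hgood : good x₀)
    (hx₀R : ∀ y ∈ R, y * x₀ = x₀ * y) (P : Subgroup Ω) :
    F.normalizerHom R P ⊆ E.Hom P := by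
  obtain ⟨N, hN⟩ := exists_isNormalizerSystem F hR.1
  obtain ⟨N', hN'⟩ := exists_isNormalizerSystem E hR.1
  have hNs := isSaturated_normalizerSystem hS hF hR hN
  have hN's := isSaturated_normalizerSystem hS hE
    ⟨hR.1, fun Q ⟨φ, hφ, hr⟩ => hR.2 Q ⟨φ, hEF R hφ, hr⟩⟩ hN'
  have hN'le : N' ≤ N := fun P φ hφ => by
    rw [hN' P] at hφ
    rw [hN P]
    obtain ⟨h1, h2, h3, ψ, hψ, h4, h5⟩ := hφ
    exact ⟨hEF P h1, h2, h3, ψ, hEF _ hψ, h4, h5⟩
  have hNS := normalizerIn_le S R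
  have := finite_of_le hNS
  have hNp : IsPGroup p (normalizerIn S R) := hS.to_le hNS
  have hle : N ≤ N' := le_of_autGroups hNp hNs N' fun Q _ hc hr α hα => by
    have hnorm := isNormal_normalizerSystem hR.1 hN
    have hRQ : R ≤ Q := le_of_normal_of_radical hNp hnorm hc hr
    have := finite_of_le hc.1
    set T := R ⊔ (Q ⊓ Subgroup.centralizer (R : Set Ω)) with hT
    have hTQ : T ≤ Q := sup_le hRQ inf_le_left
    have hRT : R ≤ T := le_sup_left
    have haut : ∀ β ∈ N.autGroup Q, ∀ t : Q, (t : Ω) ∈ R → (β t : Ω) ∈ R := fun β hβ t ht =>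
      FusionClosed.apply_mem_stronglyClosed (stronglyClosed_of_normal hnorm)
        ((mem_autGroup_iff hc.1).1 hβ) ht
    have hautT : ∀ β ∈ N.autGroup Q, ∀ t : Q, (t : Ω) ∈ T → (β t : Ω) ∈ T := by
      intro β hβ
      have hle : T ≤ (T.comap (Q.subtype.comp β.toMonoidHom)).map Q.subtype := by
        refine sup_le (fun r hr' => ⟨⟨r, hRQ hr'⟩, Subgroup.mem_sup_left (haut β hβ _ hr'), rfl⟩)
          fun c hc' => ⟨⟨c, hc'.1⟩, Subgroup.mem_sup_right ⟨(β _).2, ?_⟩, rfl⟩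
        show (β ⟨c, hc'.1⟩ : Ω) ∈ Subgroup.centralizer (R : Set Ω)
        rw [Subgroup.mem_centralizer_iff]
        intro r hr'
        have h1 := haut β⁻¹ ((N.autGroup Q).inv_mem hβ) ⟨r, hRQ hr'⟩ hr'
        have h2 : (β⁻¹ ⟨r, hRQ hr'⟩) * ⟨c, hc'.1⟩ = ⟨c, hc'.1⟩ * β⁻¹ ⟨r, hRQ hr'⟩ :=
          Subtype.ext (Subgroup.mem_centralizer_iff.1 hc'.2 _ h1)
        have h3 := congrArg β h2
        rw [map_mul, map_mul,
          show β (β⁻¹ ⟨r, hRQ hr'⟩) = ⟨r, hRQ hr'⟩ from β.apply_symm_apply _] at h3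
        exact congrArg Subtype.val h3
      rintro ⟨t, htQ⟩ ht
      obtain ⟨u, hu, hut⟩ := hle ht
      obtain rfl : u = ⟨t, htQ⟩ := Subtype.ext hut
      exact hu
    have hTc : N.IsCentric T := isCentric_of_invariant hNp hNs hc hr hTQ hautT
      fun q hq hqT => Subgroup.mem_sup_right
        ⟨hq, Subgroup.mem_centralizer_iff.2 fun r hr' => (hqT r (hRT hr')).symm⟩
    have hI := (mem_autGroup_iff hc.1).1 hα
    refine (mem_autGroup_iff hc.1).2 (mem_of_restrict_centric hNp hNs hN's hN'le hTc hI hTQ ?_)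
    have hres : restrictHom (Q.subtype.comp α.toMonoidHom) hTQ ∈ F.Hom T := by
      have h := restrict_mem hI hTQ
      rw [hN T] at h
      exact h.1
    have hres' := hcen T _ hres ⟨x₀, hRT hx₀⟩ hgood fun y => Subtype.ext (by
      show (y : Ω) * x₀ = x₀ * y
      have hle : T ≤ Subgroup.centralizer ({x₀} : Set Ω) := by
        refine sup_le (fun r hr' => ?_) fun c hc' => ?_ <;> rw [Subgroup.mem_centralizer_iff] <;>
          intro z hz <;> rw [Set.mem_singleton_iff] at hz <;> subst hz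
        · exact (hx₀R r hr').symm
        · exact Subgroup.mem_centralizer_iff.1 hc'.2 z hx₀
      exact (Subgroup.mem_centralizer_iff.1 (hle y.2) x₀ rfl).symm)
    rw [hN' T]
    refine ⟨hres', hTQ.trans hc.1, fun x => hc.1 (α _).2,
      restrictHom (restrictHom (Q.subtype.comp α.toMonoidHom) hTQ) (sup_le le_rfl hRT),
      restrict_mem hres' _, fun x => rfl, le_antisymm ?_ fun y hy => ?_⟩
    · rintro _ ⟨x, hx, rfl⟩
      exact haut α hα _ hx
    · have h1 := haut α⁻¹ ((N.autGroup Q).inv_mem hα) ⟨y, hRQ hy⟩ hy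
      exact ⟨⟨_, Subgroup.mem_sup_right h1⟩, h1,
        congrArg Subtype.val (α.apply_symm_apply ⟨y, hRQ hy⟩)⟩
  intro φ hφ
  rw [← hN P] at hφ
  have h := hle P hφ
  rw [hN' P] at h
  exact h.1

/-- If maps centralising a good element of their source lie in `E`, then so does every map whose
source normalises the centralizer of a good element in it. -/
theorem mem_of_good (hS : IsPGroup p S) (hF : F.IsSaturated p) (hE : E.IsSaturated p) (hEF : E ≤ F)
    (hinv : ∀ (P : Subgroup Ω) (φ : P →* Ω), φ ∈ F.Hom P → ∀ x : P, good x → good (φ x))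
    (hcen : ∀ (P : Subgroup Ω) (φ : P →* Ω), φ ∈ F.Hom P → ∀ x : P, good x →
      (∀ y : P, y * x = x * y) → φ ∈ E.Hom P)
    {P : Subgroup Ω} {φ : P →* Ω} (hφ : φ ∈ F.Hom P) (x : P) (hx : good x)
    (hn : P ≤ Subgroup.normalizer
      ((P ⊓ Subgroup.centralizer ({(x : Ω)} : Set Ω) : Subgroup Ω) : Set Ω)) : φ ∈ E.Hom P := by
  have hPS := le_left hφ
  set R := P ⊓ Subgroup.centralizer ({(x : Ω)} : Set Ω) with hR
  have hRP : R ≤ P := inf_le_left
  have hxR : (x : Ω) ∈ R := ⟨x.2, Subgroup.mem_centralizer_iff.2 (by simp)⟩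
  have hxc : ∀ y ∈ R, y * (x : Ω) = x * y := fun y hy =>
    (Subgroup.mem_centralizer_iff.1 hy.2 x rfl).symm
  obtain ⟨R₀, hRR₀, hR₀⟩ := exists_fullyNormalized (F := F) (hRP.trans hPS)
  have hR₀E : E.IsFullyNormalized R₀ := ⟨hR₀.1, fun Q ⟨χ, hχ, hr⟩ => hR₀.2 Q ⟨χ, hEF R₀ hχ, hr⟩⟩
  -- the case in which `R` is carried onto `R₀`
  have core : ∀ (P' R' : Subgroup Ω) (hRP' : R' ≤ P') (x' : Ω) (hx' : x' ∈ R'),
      good x' → (∀ y ∈ R', y * x' = x' * y) → P' ≤ Subgroup.normalizer (R' : Set Ω) →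
      ∀ ψ ∈ F.Hom P', imgHom ψ R' = R₀ → ψ ∈ E.Hom P' := by
    intro P' R' hRP' x' hx' hgood hxc' hn' ψ hψ himg
    obtain ⟨ρ, hρ, hρv⟩ := exists_iso (restrict_mem hψ hRP') ((range_restrictHom ψ hRP').trans himg)
    have hρE : IsIso E ρ := hcen R' _ hρ ⟨x', hx'⟩ hgood fun y => Subtype.ext (hxc' y y.2)
    obtain ⟨ψ', hψ', hv⟩ := exists_extension (T := P') (automized_receptive hS hE hR₀E).2 hρE
      fun g hg => inf_normalizer_le_extender (F := F)
        (φ := R₀.subtype.comp ρ.toMonoidHom) hψ hRP' (fun y => (hρv y).symm) ⟨hg, hn' hg⟩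
    obtain ⟨e, he, hev⟩ := exists_iso_range hψ'
    have hR₀e : R₀ ≤ ψ'.range := by
      rw [← imgHom_eq_of_agree hRP' hv]
      exact imgHom_le_range _ _
    have hNe : ψ'.range ≤ normalizerIn S R₀ := by
      rintro _ ⟨g, rfl⟩
      refine ⟨apply_mem hψ' g, ?_⟩
      have := map_mem_normalizer (ψ := ψ') hRP' (g := g) (hn' g.2)
      rwa [imgHom_eq_of_agree hRP' hv] at this
    have hδF : ψ.comp e.symm.toMonoidHom ∈ F.Hom ψ'.range :=
      IsIso.comp_hom (IsIso.symm (hEF _ he)) hψ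
    have hfix : ∀ y : ψ'.range, (y : Ω) ∈ R₀ → (ψ.comp e.symm.toMonoidHom) y = y := by
      intro y hy
      obtain ⟨r, hr⟩ := ρ.surjective ⟨y, hy⟩
      have h1 : e ⟨r, hRP' r.2⟩ = y := Subtype.ext (by rw [hev, hv r (hRP' r.2), hr])
      show ψ (e.symm y) = y
      rw [← h1, MulEquiv.symm_apply_apply, h1]
      exact (hρv r).symm.trans (congrArg Subtype.val hr)
    have hδN : ψ.comp e.symm.toMonoidHom ∈ F.normalizerHom R₀ ψ'.range := by
      refine ⟨hδF, hNe, fun y => ⟨apply_mem hψ _, ?_⟩,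
        restrictHom (ψ.comp e.symm.toMonoidHom) (sup_le le_rfl hR₀e), restrict_mem hδF _,
        fun y => rfl, le_antisymm ?_ fun y hy => ?_⟩
      · have := map_mem_normalizer (ψ := ψ) hRP' (g := e.symm y) (hn' (e.symm y).2)
        rwa [himg] at this
      · rintro _ ⟨y, hy, rfl⟩
        have h0 : ((y : ↥(ψ'.range ⊔ R₀)) : Ω) ∈ R₀ := hy
        show (ψ.comp e.symm.toMonoidHom) ⟨y, _⟩ ∈ R₀
        rw [hfix ⟨(y : Ω), (sup_le le_rfl hR₀e) y.2⟩ h0]
        exact h0
      · exact ⟨⟨y, Subgroup.mem_sup_right hy⟩, hy, hfix ⟨y, hR₀e hy⟩ hy⟩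
    have hδE := normalizer_le_of_good good hS hF hE hEF hcen hR₀ (x₀ := ρ ⟨x', hx'⟩) (ρ _).2
      (hinv R' _ hρ ⟨x', hx'⟩ hgood) (fun y hy => by
        obtain ⟨r, hr⟩ := ρ.surjective ⟨y, hy⟩
        rw [show y = (ρ r : Ω) from (congrArg Subtype.val hr).symm]
        exact congrArg Subtype.val (show ρ r * ρ ⟨x', hx'⟩ = ρ ⟨x', hx'⟩ * ρ r by
          rw [← map_mul, ← map_mul]
          exact congrArg ρ (Subtype.ext (hxc' r r.2))))
      ψ'.range hδN
    exact mem_congr (IsIso.comp_hom he hδE) fun y => by simp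
  obtain ⟨hR₀a, hR₀r⟩ := automized_receptive hS hF hR₀
  obtain ⟨χ, hχ, -, himg⟩ := exists_map_normalizerIn hS hR₀a hR₀r
    (isConj_trans (isConj_symm (isConj_restrict hφ hRP)) hRR₀)
  have hrange : φ.range ≤ normalizerIn S (imgHom φ R) := by
    rintro _ ⟨g, rfl⟩
    exact ⟨apply_mem hφ g, map_mem_normalizer hRP (hn g.2)⟩
  obtain ⟨f, hf, hfv⟩ := exists_iso_range hφ
  have h1 : restrictHom χ hrange ∈ E.Hom φ.range := by
    refine core φ.range (imgHom φ R) (imgHom_le_range φ R) (φ x) (apply_mem_imgHom φ hxR)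
      (hinv P φ hφ x hx) ?_ (fun g hg => (hrange hg).2) _ (restrict_mem hχ hrange) ?_
    · rintro _ ⟨g, hg, rfl⟩
      rw [← map_mul, ← map_mul]
      exact congrArg φ (Subtype.ext (hxc g hg))
    · ext z
      constructor
      · rintro ⟨⟨g, hg⟩, hgR, rfl⟩
        rw [← himg]
        exact apply_mem_imgHom χ hgR
      · intro hz
        rw [← himg] at hz
        obtain ⟨g, hg, rfl⟩ := hz
        exact ⟨⟨g, imgHom_le_range φ R hg⟩, hg, rfl⟩
  have hcomp : (restrictHom χ hrange).comp f.toMonoidHom ∈ F.Hom P :=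
    IsIso.comp_hom hf (restrict_mem hχ hrange)
  have h2 : (restrictHom χ hrange).comp f.toMonoidHom ∈ E.Hom P := by
    refine core P R hRP x hxR hx hxc hn _ hcomp ?_
    rw [← himg]
    ext z
    constructor
    · rintro ⟨g, hg, rfl⟩
      refine ⟨⟨f g, hrange (f g).2⟩, ?_, rfl⟩
      show (f g : Ω) ∈ imgHom φ R
      rw [hfv]
      exact apply_mem_imgHom φ hg
    · rintro ⟨⟨w, hw⟩, ⟨g, hg, hgw⟩, rfl⟩
      refine ⟨g, hg, ?_⟩
      show χ ⟨f g, _⟩ = χ ⟨w, hw⟩
      exact congrArg χ (Subtype.ext ((hfv g).trans hgw))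
  obtain ⟨ω, hω, hωv⟩ := E.inv_mem h1
  refine mem_of_comp h2 hω (fun g => ⟨f g, rfl⟩) fun g => ?_
  exact ((hωv (f g)).trans (hfv g)).symm

/-- The criterion: `F = E` when every centric radical subgroup either has its automorphisms in `E`
or has a good element with normal centralizer. -/
theorem le_of_good (hS : IsPGroup p S) (hF : F.IsSaturated p) (hE : E.IsSaturated p) (hEF : E ≤ F)
    (hinv : ∀ (P : Subgroup Ω) (φ : P →* Ω), φ ∈ F.Hom P → ∀ x : P, good x → good (φ x))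
    (hcen : ∀ (P : Subgroup Ω) (φ : P →* Ω), φ ∈ F.Hom P → ∀ x : P, good x →
      (∀ y : P, y * x = x * y) → φ ∈ E.Hom P)
    (hcov : ∀ Q : Subgroup Ω, F.IsCentric Q → F.IsRadical p Q →
      F.autGroup Q ≤ E.autGroup Q ∨ ∃ x : Q, good x ∧ Q ≤ Subgroup.normalizer
        ((Q ⊓ Subgroup.centralizer ({(x : Ω)} : Set Ω) : Subgroup Ω) : Set Ω)) : F ≤ E :=
  le_of_autGroups hS hF E fun Q _ hc hr => (hcov Q hc hr).elim id fun ⟨x, hx, hn⟩ α hα =>
    (mem_autGroup_iff hc.1).2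
      (mem_of_good good hS hF hE hEF hinv hcen ((mem_autGroup_iff hc.1).1 hα) x hx hn)

end CfsgLib.FusionSub
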