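import Cfsg.Prelude.Def_FusionComponents
import Cfsg.Agent.FusionSub.Generation
import Cfsg.Agent.FusionSub.Simple

/-!
Systems in which `S` is normal, and abelian systems: `S = Z(F) × foc(F)`.
-/

set_option autoImplicit false

namespace CfsgLib.FusionSub

open Cfsg Cfsg.FusionSystem CfsgLib.Fusion

variable {Ω : Type*} [Group Ω] {S : Subgroup Ω} {F : FusionSystem S} {p : ℕ}

/-- If every map extends to `S` then `S` is normal. -/
theorem isNormal_self_of_extend [Finite S]
    (h : ∀ (P : Subgroup Ω) (φ : P →* Ω), φ ∈ F.Hom P →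
      ∃ ψ ∈ F.Hom S, ∀ (x : P) (hx : (x : Ω) ∈ S), ψ ⟨x, hx⟩ = φ x) : F.IsNormal S := by
  refine ⟨le_rfl, fun P φ hφ => ?_⟩
  have hPS := le_left hφ
  obtain ⟨ψ, hψ, hv⟩ := h P φ hφ
  refine ⟨_, restrict_mem hψ (sup_le hPS le_rfl), fun x => hv x _, ?_⟩
  refine le_antisymm ?_ fun y hy => ?_
  · rintro _ ⟨x, -, rfl⟩
    exact apply_mem hψ _
  · have : y ∈ ψ.range := (eq_S_of_isConj ⟨ψ, hψ, rfl⟩).symm ▸ hy
    obtain ⟨x, rfl⟩ := this
    exact ⟨⟨x, Subgroup.mem_sup_right x.2⟩, x.2, rfl⟩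

/-- If `Aut_F(Q)` has a normal Sylow `p`-subgroup for every fully normalized centric radical `Q`,
then `S` is normal in `F`. -/
theorem isNormal_self_of_normal_sylow [Finite S] [Fact p.Prime] (hS : IsPGroup p S)
    (hF : F.IsSaturated p)
    (hcl : ∀ P : Subgroup Ω, F.IsFullyNormalized P → F.IsCentric P → F.IsRadical p P →
      ∃ R : Sylow p (F.autGroup P), (R : Subgroup (F.autGroup P)).Normal) : F.IsNormal S := by
  let E : FusionSystem S :=
    { Hom := fun P => {φ | φ ∈ F.Hom P ∧ ∃ ψ ∈ F.Hom S, ∀ (x : P) (hx : (x : Ω) ∈ S), ψ ⟨x, hx⟩ = φ x}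
      le_of_mem := fun h => F.le_of_mem h.1
      injective_of_mem := fun h => F.injective_of_mem h.1
      conj_mem := fun hP hg => ⟨F.conj_mem hP hg, _, F.conj_mem le_rfl hg, fun x hx => rfl⟩
      comp_mem := by
        rintro P R φ ψ ⟨hφ, a, ha, hav⟩ ⟨hψ, b, hb, hbv⟩ h
        refine ⟨F.comp_mem hφ hψ h, _, F.comp_mem ha hb (apply_mem ha), fun x hx => ?_⟩
        refine Eq.trans ?_ (hbv ⟨φ x, h x⟩ (apply_mem hφ x))
        exact congrArg b (Subtype.ext (hav x hx))
      inv_mem := by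
        rintro P φ ⟨hφ, a, ha, hav⟩
        obtain ⟨ψ, hψ, hv⟩ := F.inv_mem hφ
        obtain ⟨e, he, hev⟩ := exists_iso ha (eq_S_of_isConj ⟨a, ha, rfl⟩)
        refine ⟨ψ, ⟨hψ, _, he.symm, ?_⟩, hv⟩
        rintro ⟨_, x, rfl⟩ hx
        rw [hv]
        have hex : (e ⟨x, le_left hφ x.2⟩ : Ω) = φ x :=
          (hev ⟨x, le_left hφ x.2⟩).trans (hav x _)
        show (e.symm ⟨φ x, hx⟩ : Ω) = x
        exact congrArg Subtype.val ((MulEquiv.symm_apply_eq e).2
          (Subtype.ext hex.symm : (⟨φ x, hx⟩ : S) = e ⟨x, le_left hφ x.2⟩)) }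
  have hle : F ≤ E := le_of_autGroups hS hF E fun Q hQ hc hr α hα => by
    obtain ⟨hQa, -⟩ := automized_receptive hS hF hQ
    have hQS : Q = S := by
      refine hQ.1.eq_or_lt.resolve_right fun hlt => ?_
      obtain ⟨g, hg, hgQ⟩ := SetLike.exists_of_lt (lt_normalizerIn hS hlt)
      obtain ⟨R, hRn⟩ := hcl Q hQ hc hr
      obtain ⟨T, hT⟩ := hQa.2
      have := finite_of_le hQ.1
      obtain ⟨a, ha⟩ := MulAction.exists_smul_eq (F.autGroup Q) R T
      rw [Sylow.smul_eq_iff_mem_normalizer.2 (by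
        show a ∈ Subgroup.normalizer ((R : Subgroup (F.autGroup Q)) : Set (F.autGroup Q))
        rw [Subgroup.normalizer_eq_top_iff.2 hRn]; exact Subgroup.mem_top a)] at ha
      have hle : (R : Subgroup (F.autGroup Q)) ≤ pCore p (F.autGroup Q) :=
        le_sSup ⟨hRn, R.isPGroup'⟩
      rw [ha, hT] at hle
      have hmem : Q.normalizerMonoidHom ⟨g, hg.2⟩ ∈ Inn Q := by
        rw [← hr.2]
        exact ⟨⟨_, autInducedBy_le_autGroup hQ.1
          (mem_autInducedBy_iff.2 ⟨g, hg.1, hg.2, fun _ => rfl⟩)⟩,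
          hle (mem_autInducedBy_iff.2 ⟨g, hg.1, hg.2, fun _ => rfl⟩), rfl⟩
      obtain ⟨q, hq⟩ := hmem
      refine hgQ ?_
      have hcz : (q : Ω)⁻¹ * g ∈ centralizerIn S Q := by
        refine mem_centralizerIn'.2 ⟨S.mul_mem (S.inv_mem (hQ.1 q.2)) hg.1, fun x hx => ?_⟩
        have h2 : (q : Ω) * x * (q : Ω)⁻¹ = g * x * g⁻¹ :=
          congrArg (fun a : MulAut Q => (a ⟨x, hx⟩ : Ω)) hq
        calc _ = (q : Ω)⁻¹ * (g * x * g⁻¹) * q := by simp [mul_assoc]
          _ = x := by rw [← h2]; simp [mul_assoc]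
      simpa using Q.mul_mem q.2 (centralizerIn_le_of_centric hc hcz)
    subst hQS
    have h := (mem_autGroup_iff le_rfl).1 hα
    exact (mem_autGroup_iff le_rfl).2 ⟨h, _, h, fun x hx => rfl⟩
  exact isNormal_self_of_extend fun P φ hφ => (hle P hφ).2

/-- For abelian `S` the automorphism group of `S` has order prime to `p`. -/
theorem not_dvd_card_autGroup_self [Finite S] [Fact p.Prime] (hS : IsPGroup p S)
    (hF : F.IsSaturated p) (hab : ∀ x ∈ S, ∀ y ∈ S, x * y = y * x) :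
    ¬ p ∣ Nat.card (F.autGroup S) := by
  obtain ⟨T, hT⟩ := (automized_receptive hS hF isFullyNormalized_self).1.2
  have h1 : autInducedBy S S = ⊥ := by
    rw [Subgroup.eq_bot_iff_forall]
    intro α hα
    obtain ⟨g, hg, -, hv⟩ := mem_autInducedBy_iff.1 hα
    exact MulEquiv.ext fun x => Subtype.ext (by
      rw [hv, hab g hg x x.2, mul_inv_cancel_right]; rfl)
  intro h
  exact T.ne_bot_of_dvd_card h (by rw [hT, h1, Subgroup.bot_subgroupOf])

/-- For abelian `S`, the focal subgroup and the centre of a saturated system decompose `S`. -/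
theorem center_focal_decomposition [Finite S] [Fact p.Prime] (hS : IsPGroup p S)
    (hF : F.IsSaturated p) (hab : ∀ x ∈ S, ∀ y ∈ S, x * y = y * x) :
    F.center ⊓ F.focalSubgroup = ⊥ ∧ F.center ⊔ F.focalSubgroup = S := by
  classical
  let : CommGroup S := { (inferInstance : Group S) with
    mul_comm := fun x y => Subtype.ext (hab x x.2 y y.2) }
  cases nonempty_fintype (F.autGroup S)
  let N : S →* S :=
    { toFun := fun s => ∏ α : F.autGroup S, (α : MulAut S) s
      map_one' := by simp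
      map_mul' := fun v w => by simp [Finset.prod_mul_distrib] }
  have hNinv : ∀ (β : F.autGroup S) (s : S), N ((β : MulAut S) s) = N s := fun β s =>
    Fintype.prod_equiv (Equiv.mulRight β) _ _ fun α => rfl
  have hNfix : ∀ (β : F.autGroup S) (s : S), (β : MulAut S) (N s) = N s := fun β s => by
    show (β : MulAut S) (∏ α : F.autGroup S, (α : MulAut S) s) = _
    rw [map_prod]
    exact Fintype.prod_equiv (Equiv.mulLeft β) _ _ fun α => rfl
  have hfoc : F.focalSubgroup ≤ N.ker.map S.subtype := by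
    refine (Subgroup.closure_le _).2 ?_
    rintro _ ⟨P, φ, x, hφ, rfl⟩
    obtain ⟨α, hα, hv⟩ := exists_aut_extending hS hF hab hφ
    refine ⟨⟨x, le_left hφ x.2⟩⁻¹ * α ⟨x, le_left hφ x.2⟩, ?_, ?_⟩
    · rw [SetLike.mem_coe, MonoidHom.mem_ker, map_mul, map_inv, hNinv ⟨α, hα⟩, inv_mul_cancel]
    · simp [hv]
  have hcen : ∀ z ∈ F.center, ∃ h : z ∈ S,
      ∀ α : F.autGroup S, (α : MulAut S) ⟨z, h⟩ = ⟨z, h⟩ := by
    have hle : F.center ≤ Subgroup.map S.subtype
        { carrier := {s | ∀ α : F.autGroup S, (α : MulAut S) s = s}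
          one_mem' := fun α => map_one _
          mul_mem' := fun {a b} ha hb α => by rw [map_mul, ha, hb]
          inv_mem' := fun {a} ha α => by rw [map_inv, ha] } := by
      refine sSup_le fun Q ⟨hQS, hext⟩ q hq => ?_
      refine ⟨⟨q, hQS hq⟩, fun α => ?_, rfl⟩
      obtain ⟨ψ, -, hψS, hψQ⟩ := hext S _ ((mem_autGroup_iff le_rfl).1 α.2)
      have h1 := hψS ⟨q, hQS hq⟩
      rw [show Subgroup.inclusion (le_sup_left : S ≤ S ⊔ Q) ⟨q, hQS hq⟩ =
        Subgroup.inclusion (le_sup_right : Q ≤ S ⊔ Q) ⟨q, hq⟩ from Subtype.ext rfl, hψQ] at h1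
      exact Subtype.ext h1.symm
    intro z hz
    obtain ⟨s, hs, rfl⟩ := hle hz
    exact ⟨s.2, hs⟩
  constructor
  · rw [Subgroup.eq_bot_iff_forall]
    rintro z ⟨hzc, hzf⟩
    obtain ⟨hzS, hfix⟩ := hcen z hzc
    obtain ⟨s, hs, hsz⟩ := hfoc hzf
    have hs' : s = ⟨z, hzS⟩ := Subtype.ext hsz
    subst hs'
    have h1 : N ⟨z, hzS⟩ = ⟨z, hzS⟩ ^ Fintype.card (F.autGroup S) := by
      show ∏ α : F.autGroup S, (α : MulAut S) ⟨z, hzS⟩ = _
      rw [Finset.prod_eq_pow_card (fun α _ => hfix α), Finset.card_univ]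
    rw [SetLike.mem_coe, MonoidHom.mem_ker, h1] at hs
    have hcop : (Nat.card (F.autGroup S)).Coprime (Nat.card S) := by
      obtain ⟨k, hk⟩ := hS.exists_card_eq
      rw [hk]
      exact (((Fact.out : p.Prime).coprime_iff_not_dvd.2
        (not_dvd_card_autGroup_self hS hF hab)).pow_left k).symm
    have h2 : orderOf (⟨z, hzS⟩ : S) = 1 := Nat.eq_one_of_dvd_coprimes hcop
      (Nat.card_eq_fintype_card (α := F.autGroup S) ▸ orderOf_dvd_of_pow_eq_one hs)
      (orderOf_dvd_natCard _)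
    rw [orderOf_eq_one_iff] at h2
    exact congrArg Subtype.val h2
  · refine le_antisymm (sup_le ?_ ?_) fun y hy => ?_
    · exact fun z hz => (hcen z hz).1
    · refine (Subgroup.closure_le _).2 ?_
      rintro _ ⟨P, φ, x, hφ, rfl⟩
      exact S.mul_mem (S.inv_mem (le_left hφ x.2)) (apply_mem hφ x)
    · have hC : (N.range.map S.subtype) ≤ F.center := by
        refine le_sSup ⟨Subgroup.map_subtype_le _, fun P φ hφ => ?_⟩
        obtain ⟨α, hα, hv⟩ := exists_aut_extending hS hF hab hφ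
        have hle : P ⊔ N.range.map S.subtype ≤ S :=
          sup_le (le_left hφ) (Subgroup.map_subtype_le _)
        refine ⟨_, restrict_mem ((mem_autGroup_iff le_rfl).1 hα) hle, fun x => (hv x).symm, ?_⟩
        rintro ⟨_, s, ⟨t, rfl⟩, rfl⟩
        exact congrArg Subtype.val (hNfix ⟨α, hα⟩ t)
      let D : Subgroup S := (F.center ⊔ F.focalSubgroup).subgroupOf S
      have hpow : (⟨y, hy⟩ : S) ^ Fintype.card (F.autGroup S) ∈ D := by
        have hsplit : (⟨y, hy⟩ : S) ^ Fintype.card (F.autGroup S) =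
            (∏ α : F.autGroup S, ((α : MulAut S) ⟨y, hy⟩)⁻¹ * ⟨y, hy⟩) * N ⟨y, hy⟩ := by
          show _ = _ * ∏ α : F.autGroup S, (α : MulAut S) ⟨y, hy⟩
          rw [← Finset.prod_mul_distrib]
          have : ∀ α : F.autGroup S,
              ((α : MulAut S) ⟨y, hy⟩)⁻¹ * ⟨y, hy⟩ * (α : MulAut S) ⟨y, hy⟩ = ⟨y, hy⟩ :=
            fun α => Subtype.ext (by
              show ((α : MulAut S) ⟨y, hy⟩ : Ω)⁻¹ * y * ((α : MulAut S) ⟨y, hy⟩ : Ω) = y
              rw [hab _ (S.inv_mem ((α : MulAut S) ⟨y, hy⟩).2) y hy, inv_mul_cancel_right])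
          simp only [this, Finset.prod_const, Finset.card_univ]
        rw [hsplit]
        refine D.mul_mem (D.prod_mem fun α _ => ?_) ?_
        · refine Subgroup.mem_sup_right ?_
          have := F.focalSubgroup.inv_mem
            (Subgroup.subset_closure ⟨S, _, ⟨y, hy⟩, (mem_autGroup_iff le_rfl).1 α.2, rfl⟩)
          simpa using this
        · exact Subgroup.mem_sup_left (hC ⟨_, ⟨_, rfl⟩, rfl⟩)
      have hcop : (Fintype.card (F.autGroup S)).Coprime (orderOf (⟨y, hy⟩ : S)) := by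
        obtain ⟨k, hk⟩ := hS.exists_card_eq
        refine Nat.Coprime.coprime_dvd_right (hk ▸ orderOf_dvd_natCard (⟨y, hy⟩ : S)) ?_
        rw [← Nat.card_eq_fintype_card]
        exact (((Fact.out : p.Prime).coprime_iff_not_dvd.2
          (not_dvd_card_autGroup_self hS hF hab)).pow_left k).symm
      obtain ⟨m, hm⟩ := exists_pow_eq_self_of_coprime hcop
      have : (⟨y, hy⟩ : S) ∈ D := hm ▸ D.pow_mem hpow m
      exact this

end CfsgLib.FusionSub
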