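import Cfsg.Agent.FusionSub.PSpFourBlocks
import Cfsg.Agent.FusionSimple.Generic
import Cfsg.Agent.Forms.SymplecticOrder
import Cfsg.Agent.Inv53.SL2Involutions
import Cfsg.Agent.BlocksCharsC.PGroupCenter

/-!
The 2-fusion system of `PSp(4,q)`, `q` odd, is simple.
-/

set_option autoImplicit false

namespace CfsgLib.FusionSub.PSpFour

open Matrix QuatSL2 CfsgLib.FusionSimple
open scoped MatrixGroups

variable {F : Type*} [Field F]

local notation "SP" => Matrix.symplecticGroup (Fin 2) F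

/-- The projection to `PSp(4,F)`. -/
noncomputable def proj : SP →* Cfsg.PSp 2 F := QuotientGroup.mk' _

/-- The image of `diag(a, b)`. -/
noncomputable def P (a b : SL(2, F)) : Cfsg.PSp 2 F := proj (pairM (a, b))

/-- The image of the block exchange. -/
noncomputable def W : Cfsg.PSp 2 F := proj wS

theorem proj_eq {x y : SP} (h : proj x = proj y) : x = y ∨ x = negOne * y := by
  have h' : x * y⁻¹ ∈ Subgroup.center SP := by
    have : proj (x * y⁻¹) = 1 := by rw [map_mul, map_inv, h, mul_inv_cancel]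
    exact (QuotientGroup.eq_one_iff _).1 this
  rcases center_cases h' with h1 | h1
  · exact Or.inl (mul_inv_eq_one.1 h1)
  · exact Or.inr (mul_inv_eq_iff_eq_mul.1 h1)

theorem proj_negOne : proj (negOne : SP) = 1 := (QuotientGroup.eq_one_iff _).2 negOne_mem_center

theorem negOne_mul_pair (a b : SL(2, F)) : negOne * pairM (a, b) = pairM (-a, -b) := by
  rw [← pairM_neg_one, ← map_mul]
  simp

theorem P_mul (a b c d : SL(2, F)) : P a b * P c d = P (a * c) (b * d) := by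
  rw [P, P, P, ← map_mul, ← map_mul, Prod.mk_mul_mk]

theorem P_inv (a b : SL(2, F)) : (P a b)⁻¹ = P a⁻¹ b⁻¹ := by
  rw [P, P, ← map_inv, ← map_inv, Prod.inv_mk]

theorem P_one : P (1 : SL(2, F)) 1 = 1 := by
  rw [P, ← Prod.one_eq_mk, map_one, map_one]

theorem P_neg (a b : SL(2, F)) : P (-a) (-b) = P a b := by
  rw [P, P, ← negOne_mul_pair, map_mul, proj_negOne, one_mul]

theorem P_neg_one_left : P (-1 : SL(2, F)) 1 = P 1 (-1) := by
  rw [← P_neg 1 (-1), neg_neg]

theorem P_inj {a b c d : SL(2, F)} (h : P a b = P c d) :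
    (a = c ∧ b = d) ∨ (a = -c ∧ b = -d) := by
  rcases proj_eq h with h | h
  · exact Or.inl (Prod.ext_iff.1 (pairM_injective h))
  · rw [negOne_mul_pair] at h
    exact Or.inr (Prod.ext_iff.1 (pairM_injective h))

theorem W_mul_W : (W : Cfsg.PSp 2 F) * W = 1 := by
  rw [W, ← map_mul, wS_sq, map_one]

theorem W_inv : (W : Cfsg.PSp 2 F)⁻¹ = W := inv_eq_of_mul_eq_one_right W_mul_W

theorem W_mul_P (a b : SL(2, F)) : W * P a b = P b a * W := by
  rw [W, P, P, ← map_mul, ← map_mul, wS_mul_pair]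

theorem W_ne_P (a b : SL(2, F)) : P a b ≠ W := by
  intro h
  rcases proj_eq h with h | h
  · exact wS_ne_pair a b h
  · have : pairM (-a, -b) = (wS : SP) := by
      rw [← negOne_mul_pair, h, ← mul_assoc, ← pairM_neg_one, ← map_mul]
      simp [show pairM ((1 : SL(2, F)), (1 : SL(2, F))) = 1 from map_one pairM]
    exact wS_ne_pair _ _ this

theorem W_conj_P (a b : SL(2, F)) : W * P a b * W⁻¹ = P b a := by
  rw [W_mul_P, mul_inv_cancel_right]

theorem P_conj_W (a b : SL(2, F)) :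
    P a b * W * (P a b)⁻¹ = P (a * b⁻¹) (b * a⁻¹) * W := by
  rw [P_inv, mul_assoc, W_mul_P, ← mul_assoc, P_mul]

theorem P_conj_P (a b c d : SL(2, F)) :
    P a b * P c d * (P a b)⁻¹ = P (a * c * a⁻¹) (b * d * b⁻¹) := by
  rw [P_inv, P_mul, P_mul]

/-- The wreath product of a subgroup of `SL(2,F)` inside `Sp(4,F)`. -/
def wr (Q : Subgroup SL(2, F)) : Subgroup SP where
  carrier := {x | ∃ a ∈ Q, ∃ b ∈ Q, x = pairM (a, b) ∨ x = pairM (a, b) * wS}
  one_mem' := ⟨1, one_mem Q, 1, one_mem Q, Or.inl (map_one pairM).symm⟩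
  mul_mem' := by
    rintro _ _ ⟨a, ha, b, hb, rfl | rfl⟩ ⟨c, hc, d, hd, rfl | rfl⟩
    · exact ⟨a * c, mul_mem ha hc, b * d, mul_mem hb hd, Or.inl (map_mul pairM (a, b) (c, d)).symm⟩
    · exact ⟨a * c, mul_mem ha hc, b * d, mul_mem hb hd,
        Or.inr (by rw [← mul_assoc, ← map_mul, Prod.mk_mul_mk])⟩
    · exact ⟨a * d, mul_mem ha hd, b * c, mul_mem hb hc,
        Or.inr (by rw [mul_assoc, wS_mul_pair, ← mul_assoc, ← map_mul, Prod.mk_mul_mk])⟩
    · refine ⟨a * d, mul_mem ha hd, b * c, mul_mem hb hc, Or.inl ?_⟩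
      rw [mul_assoc, ← mul_assoc wS, wS_mul_pair, mul_assoc, wS_sq, mul_one, ← map_mul,
        Prod.mk_mul_mk]
  inv_mem' := by
    rintro _ ⟨a, ha, b, hb, rfl | rfl⟩
    · exact ⟨a⁻¹, inv_mem ha, b⁻¹, inv_mem hb, Or.inl (map_inv pairM (a, b)).symm⟩
    · refine ⟨b⁻¹, inv_mem hb, a⁻¹, inv_mem ha, Or.inr ?_⟩
      rw [_root_.mul_inv_rev, inv_eq_of_mul_eq_one_right (wS_sq (F := F)), ← map_inv, Prod.inv_mk,
        wS_mul_pair]

theorem card_wr [Fintype F] (Q : Subgroup SL(2, F)) :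
    Nat.card (wr Q) = 2 * Nat.card Q ^ 2 := by
  let f : Q × Q × Bool → wr Q := fun x =>
    ⟨if x.2.2 then pairM (x.1.1, x.2.1.1) * wS else pairM (x.1.1, x.2.1.1), by
      split
      · exact ⟨_, x.1.2, _, x.2.1.2, Or.inr rfl⟩
      · exact ⟨_, x.1.2, _, x.2.1.2, Or.inl rfl⟩⟩
  have hno : ∀ a b c d : SL(2, F), pairM (a, b) * wS ≠ pairM (c, d) := fun a b c d h =>
    wS_ne_pair (a⁻¹ * c) (b⁻¹ * d) (by
      rw [← Prod.mk_mul_mk, map_mul, ← h, ← mul_assoc, ← map_mul, Prod.mk_mul_mk, inv_mul_cancel,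
        inv_mul_cancel, ← Prod.one_eq_mk, map_one, one_mul])
  have hinj : Function.Injective f := by
    rintro ⟨⟨a, _⟩, ⟨b, _⟩, e⟩ ⟨⟨c, _⟩, ⟨d, _⟩, e'⟩ h
    have h' := congrArg Subtype.val h
    cases e <;> cases e' <;> simp only [f, Bool.false_eq_true, if_false, if_true] at h'
    · obtain ⟨rfl, rfl⟩ := Prod.ext_iff.1 (pairM_injective h'); rfl
    · exact absurd h'.symm (hno _ _ _ _)
    · exact absurd h' (hno _ _ _ _)
    · obtain ⟨rfl, rfl⟩ := Prod.ext_iff.1 (pairM_injective (mul_right_cancel h')); rfl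
  have hsurj : Function.Surjective f := by
    rintro ⟨x, a, ha, b, hb, rfl | rfl⟩
    · exact ⟨(⟨a, ha⟩, ⟨b, hb⟩, false), rfl⟩
    · exact ⟨(⟨a, ha⟩, ⟨b, hb⟩, true), rfl⟩
  rw [← Nat.card_eq_of_bijective f ⟨hinj, hsurj⟩]
  simp [Nat.card_prod]
  ring

theorem center_le_wr {Q : Subgroup SL(2, F)} (h : -1 ∈ Q) :
    (proj : SP →* Cfsg.PSp 2 F).ker ≤ wr Q := by
  rw [proj, QuotientGroup.ker_mk']
  intro x hx
  rcases center_cases hx with rfl | rfl
  · exact one_mem _
  · exact ⟨-1, h, -1, h, Or.inl pairM_neg_one.symm⟩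

/-- The image of the wreath product in `PSp(4,F)`. -/
noncomputable def wrP (Q : Subgroup SL(2, F)) : Subgroup (Cfsg.PSp 2 F) := (wr Q).map proj

theorem P_mem_wrP {Q : Subgroup SL(2, F)} {a b : SL(2, F)} (ha : a ∈ Q) (hb : b ∈ Q) :
    P a b ∈ wrP Q :=
  Subgroup.mem_map_of_mem _ ⟨a, ha, b, hb, Or.inl rfl⟩

theorem W_mem_wrP (Q : Subgroup SL(2, F)) : W ∈ wrP Q :=
  Subgroup.mem_map_of_mem _
    ⟨1, one_mem Q, 1, one_mem Q, Or.inr (by rw [← Prod.one_eq_mk, map_one, one_mul])⟩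

theorem mem_wrP {Q : Subgroup SL(2, F)} {x : Cfsg.PSp 2 F} (hx : x ∈ wrP Q) :
    ∃ a ∈ Q, ∃ b ∈ Q, x = P a b ∨ x = P a b * W := by
  obtain ⟨y, ⟨a, ha, b, hb, rfl | rfl⟩, rfl⟩ := hx
  · exact ⟨a, ha, b, hb, Or.inl rfl⟩
  · exact ⟨a, ha, b, hb, Or.inr (map_mul _ _ _)⟩

theorem P_mem_wrP_iff {Q : Subgroup SL(2, F)} (h1 : -1 ∈ Q) {a b : SL(2, F)}
    (h : P a b ∈ wrP Q) : a ∈ Q ∧ b ∈ Q := by
  obtain ⟨c, hc, d, hd, e | e⟩ := mem_wrP h
  · rcases P_inj e with ⟨rfl, rfl⟩ | ⟨rfl, rfl⟩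
    · exact ⟨hc, hd⟩
    · exact ⟨by simpa using mul_mem h1 hc, by simpa using mul_mem h1 hd⟩
  · refine absurd ?_ (W_ne_P (c⁻¹ * a) (d⁻¹ * b))
    rw [← P_mul, e, ← mul_assoc, P_mul, inv_mul_cancel, inv_mul_cancel, P_one, one_mul]

theorem commute_sign {x : SP} (h2 : (2 : F) ≠ 0) (h : x * pairM (1, -1) = pairM (1, -1) * x) :
    ∃ a b : SL(2, F), x = pairM (a, b) := by
  have h' := congrArg Subtype.val h
  rw [Submonoid.coe_mul, Submonoid.coe_mul, coe_pair_sign] at h'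
  obtain ⟨A, B, C, D, hx⟩ : ∃ A B C D, x.1 = fromBlocks A B C D :=
    ⟨_, _, _, _, (fromBlocks_toBlocks _).symm⟩
  rw [hx] at h'
  simp [tens, fromBlocks_multiply, fromBlocks_inj] at h'
  obtain ⟨hA, hB, hC, hD⟩ := h'
  have diag : ∀ K : Matrix (Fin 2) (Fin 2) F, K * signMat = signMat * K →
      K = K 0 0 • e1 + K 1 1 • e2 := by
    intro K hK
    have k01 := congrFun (congrFun hK 0) 1
    have k10 := congrFun (congrFun hK 1) 0
    simp [signMat, Matrix.mul_apply, Fin.sum_univ_two] at k01 k10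
    have z01 : K 0 1 = 0 := by
      apply mul_left_cancel₀ h2; linear_combination -k01
    have z10 : K 1 0 = 0 := by
      apply mul_left_cancel₀ h2; linear_combination k10
    ext r s
    fin_cases r <;> fin_cases s <;> simp [e1, e2, z01, z10]
  set a : Matrix (Fin 2) (Fin 2) F := !![A 0 0, B 0 0; C 0 0, D 0 0] with ha
  set b : Matrix (Fin 2) (Fin 2) F := !![A 1 1, B 1 1; C 1 1, D 1 1] with hb
  have hxab : x.1 = pairMat a b := by
    rw [hx, diag A hA, diag B hB, diag C hC, diag D hD]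
    simp [pairMat, tens, fromBlocks_add, ha, hb, e1, e2]
  have hdet : a.det = 1 ∧ b.det = 1 := by
    obtain ⟨h1, h22, h12, h21, hs, -, -, t1, t2⟩ := e_facts (F := F)
    have hsp := SymplecticGroup.mem_iff.1 x.2
    rw [hxab, J_eq, pairMat, transpose_add, tens_transpose, tens_transpose, t1, t2] at hsp
    simp [add_mul, mul_add, tens_mul, h1, h22, h12, h21, tens_zero_right, J2_congr] at hsp
    simp [tens, fromBlocks_add, J2, fromBlocks_inj] at hsp
    have q0 := congrFun (congrFun hsp.2 0) 0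
    have q1 := congrFun (congrFun hsp.2 1) 1
    simp [e1, e2] at q0 q1
    exact ⟨q0, q1⟩
  exact ⟨⟨a, hdet.1⟩, ⟨b, hdet.2⟩, Subtype.ext hxab⟩

variable [Fintype F]

theorem index_wr_odd (hodd : Odd (Fintype.card F)) (Q : Sylow 2 SL(2, F)) :
    Odd (wr (Q : Subgroup SL(2, F))).index := by
  have : Fact (Nat.Prime 2) := ⟨Nat.prime_two⟩
  have hSL : Nat.card SL(2, F) = Fintype.card F * (Fintype.card F ^ 2 - 1) := Linear.card_SL_two
  have hmul := (Q : Subgroup SL(2, F)).card_mul_index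
  rw [hSL] at hmul
  have ho : Odd (Q : Subgroup SL(2, F)).index := by
    rw [Nat.odd_iff]
    have := Q.not_dvd_index
    omega
  have hM := (wr (Q : Subgroup SL(2, F))).card_mul_index
  rw [Forms.card_symplecticGroup, card_wr] at hM
  set q := Fintype.card F
  set a := Nat.card (Q : Subgroup SL(2, F))
  set o := (Q : Subgroup SL(2, F)).index
  obtain ⟨t, ht, htodd⟩ : ∃ t, q ^ 2 + 1 = 2 * t ∧ Odd t := by
    obtain ⟨r, hr⟩ := hodd
    exact ⟨2 * (r * r + r) + 1, by rw [hr]; ring, ⟨r * r + r, rfl⟩⟩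
  have hq1 : 1 ≤ q ^ 2 := Nat.one_le_pow _ _ Fintype.card_pos
  have key : q ^ (2 ^ 2) * ∏ i ∈ Finset.range 2, (q ^ (2 * (i + 1)) - 1) =
      2 * a ^ 2 * (o ^ 2 * q ^ 2 * t) := by
    obtain ⟨c, hc⟩ := Nat.exists_eq_add_of_le hq1
    have e4 : q ^ (2 * (1 + 1)) - 1 = c * (2 * t) := by
      rw [← ht, show q ^ (2 * (1 + 1)) = (q ^ 2) ^ 2 by ring, hc]
      have : (1 + c) ^ 2 = c * (1 + c + 1) + 1 := by ring
      omega
    have e2' : q ^ 2 - 1 = c := by omega
    rw [Finset.prod_range_succ, Finset.prod_range_one, e4, show 2 * (0 + 1) = 2 from rfl, e2',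
      show q ^ (2 ^ 2) = q ^ 4 from rfl]
    rw [e2'] at hmul
    calc q ^ 4 * (c * (c * (2 * t))) = 2 * t * q ^ 2 * (q * c) ^ 2 := by ring
      _ = _ := by rw [← hmul]; ring
  have hpos : 0 < 2 * a ^ 2 := Nat.mul_pos two_pos (pow_pos Nat.card_pos 2)
  rw [Nat.eq_of_mul_eq_mul_left hpos (hM.trans key)]
  exact ((ho.pow).mul hodd.pow).mul htodd

variable {Q : Sylow 2 SL(2, F)} {i j : SL(2, F)}

/-- The Sylow 2-subgroup of `PSp(4,F)` given by one of `SL(2,F)`. -/
theorem exists_sylow_wrP (hodd : Odd (Fintype.card F)) (h : Anti i j)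
    (hi : i ∈ (Q : Subgroup SL(2, F))) :
    ∃ U : Sylow 2 (Cfsg.PSp 2 F), (U : Subgroup (Cfsg.PSp 2 F)) = wrP (Q : Subgroup SL(2, F)) := by
  have : Fact (Nat.Prime 2) := ⟨Nat.prime_two⟩
  obtain ⟨n, hn⟩ := IsPGroup.iff_card.1 Q.isPGroup'
  have hp : IsPGroup 2 (wr (Q : Subgroup SL(2, F))) :=
    IsPGroup.of_card (n := 2 * n + 1) (by rw [card_wr, hn]; ring)
  have hidx : ¬ 2 ∣ (wrP (Q : Subgroup SL(2, F))).index := by
    rw [wrP, Subgroup.index_map_eq (f := proj) (wr (Q : Subgroup SL(2, F)))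
      (QuotientGroup.mk'_surjective _) (center_le_wr (h.ii ▸ mul_mem hi hi))]
    have := Nat.odd_iff.1 (index_wr_odd hodd Q)
    omega
  exact ⟨(hp.map proj).toSylow hidx, IsPGroup.toSylow_coe _ _⟩

theorem ne_one_of_anti (hodd : Odd (Fintype.card F)) (h : Anti i j) : i ≠ 1 ∧ i ≠ -1 :=
  ⟨fun e => not_commute hodd h (by rw [e]; simp), fun e => not_commute hodd h (by rw [e]; simp)⟩

/-- The centre of the Sylow subgroup has order two. -/
theorem center_wrP (hodd : Odd (Fintype.card F)) (h : Anti i j)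
    (hi : i ∈ (Q : Subgroup SL(2, F))) (hj : j ∈ (Q : Subgroup SL(2, F))) {x : Cfsg.PSp 2 F}
    (hx : x ∈ wrP (Q : Subgroup SL(2, F)))
    (hc : ∀ y ∈ wrP (Q : Subgroup SL(2, F)), x * y = y * x) : x = 1 ∨ x = P 1 (-1) := by
  have h2 := Linear.two_ne_zero_of_odd hodd
  have hneg : ∀ b : SL(2, F), b ≠ -b := fun b e => Linear.neg_one_ne_one (F := F) hodd (by
    have := congrArg (· * b⁻¹) e
    simpa using this.symm)
  obtain ⟨a, ha, b, hb, rfl | rfl⟩ := mem_wrP hx
  · have key : ∀ c ∈ (Q : Subgroup SL(2, F)), a * c = c * a ∧ b * c = c * b := by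
      intro c hc'
      constructor
      · have e := hc _ (P_mem_wrP hc' (one_mem _))
        rw [P_mul, P_mul, mul_one, one_mul] at e
        exact (P_inj e).elim And.left fun e => absurd e.2 (hneg b)
      · have e := hc _ (P_mem_wrP (one_mem _) hc')
        rw [P_mul, P_mul, mul_one, one_mul] at e
        exact (P_inj e).elim And.right fun e => absurd e.1 (hneg a)
    rcases h.eq_one_or h2 (key i hi).1 (key j hj).1 with rfl | rfl <;>
      rcases h.eq_one_or h2 (key i hi).2 (key j hj).2 with rfl | rfl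
    · exact Or.inl P_one
    · exact Or.inr rfl
    · exact Or.inr P_neg_one_left
    · exact Or.inl (by rw [P_neg, P_one])
  · exfalso
    have e := hc _ (P_mem_wrP hi (one_mem _))
    rw [mul_assoc, W_mul_P, ← mul_assoc, ← mul_assoc (P i 1), P_mul, P_mul, mul_one, one_mul] at e
    rcases P_inj (mul_right_cancel e) with ⟨e1, -⟩ | ⟨e1, -⟩
    · exact (ne_one_of_anti hodd h).1 (mul_eq_right.1 e1.symm)
    · refine (ne_one_of_anti hodd h).2 (mul_right_cancel (b := a) ?_)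
      rw [neg_one_mul, ← neg_neg (i * a), ← e1]

theorem closed_eq (hodd : Odd (Fintype.card F)) (h : Anti i j)
    (hi : i ∈ (Q : Subgroup SL(2, F))) (hj : j ∈ (Q : Subgroup SL(2, F)))
    {T : Subgroup (Cfsg.PSp 2 F)} (hT : Closed (wrP (Q : Subgroup SL(2, F))) T) :
    T = ⊥ ∨ T = wrP (Q : Subgroup SL(2, F)) := by
  have : Fact (Nat.Prime 2) := ⟨Nat.prime_two⟩
  have h2 := Linear.two_ne_zero_of_odd hodd
  obtain ⟨U, hU⟩ := exists_sylow_wrP hodd h hi
  by_cases hbot : T = ⊥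
  · exact Or.inl hbot
  refine Or.inr (le_antisymm hT.1 ?_)
  -- the central involution
  have hz : P (1 : SL(2, F)) (-1) ∈ T := by
    set U' := wrP (Q : Subgroup SL(2, F))
    have hp : IsPGroup 2 U' := hU ▸ U.isPGroup'
    have hn : (T.subgroupOf U').Normal := ⟨fun x hx g => by
      rw [Subgroup.mem_subgroupOf] at hx ⊢
      exact hT.2 _ hx (g : Cfsg.PSp 2 F) (mul_mem (mul_mem g.2 (hT.1 hx)) (inv_mem g.2))⟩
    have : Nontrivial (T.subgroupOf U') := by
      rw [Subgroup.nontrivial_iff_ne_bot]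
      intro e
      rw [Subgroup.subgroupOf_eq_bot] at e
      exact hbot (le_bot_iff.1 (e.le_bot.trans' (le_inf le_rfl hT.1)))
    obtain ⟨x, hx, hx1⟩ := BlocksCharsC.exists_mem_ne_one
      (BlocksCharsC.inf_center_ne_bot hp (T.subgroupOf U'))
    rcases center_wrP hodd h hi hj x.2 (fun y hy =>
      (congrArg Subtype.val (Subgroup.mem_center_iff.1 hx.2 ⟨y, hy⟩)).symm) with e | e
    · exact absurd (Subtype.ext e) hx1
    · rw [← e]; exact hx.1
  -- the block exchange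
  have hdet : (i.1 + j.1).det = 2 := h.det_add h2
  have hW : W ∈ T := by
    have e : proj (rotG h2 _ hdet) * P 1 (-1) * (proj (rotG h2 _ hdet))⁻¹ = W := by
      rw [P, W, ← map_mul, ← map_inv, ← map_mul, rotG_mul_sign, mul_inv_cancel_right]
    have := hT.2 _ hz (proj (rotG h2 _ hdet))
    rw [e] at this
    exact this (W_mem_wrP _)
  have hinv : ∀ a ∈ (Q : Subgroup SL(2, F)), P a a⁻¹ ∈ T := fun a ha => by
    have h' := hT.2 _ hW (P a 1)
    rw [P_conj_W, inv_one, mul_one, one_mul] at h'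
    simpa [mul_assoc, W_mul_W] using
      mul_mem (h' (mul_mem (P_mem_wrP ha (inv_mem ha)) (W_mem_wrP _))) hW
  let L : Subgroup SL(2, F) :=
    T.comap (proj.comp (pairM.comp (MonoidHom.inl SL(2, F) SL(2, F))))
  have hL : ∀ x, x ∈ L ↔ P x 1 ∈ T := fun x => Iff.rfl
  have sq_mem : ∀ x y : SL(2, F), x ∈ (Q : Subgroup SL(2, F)) → y ∈ (Q : Subgroup SL(2, F)) →
      x * x = -1 → y * y = -1 → y * x⁻¹ ∈ L := by
    intro x y hx hy hx2 hy2
    obtain ⟨g, hg⟩ := isConj_iff.1 (Inv53.sl2_isConj h2 hx2 hy2)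
    have h' := hT.2 _ (hinv x hx) (P g 1)
    rw [P_conj_P, hg, inv_one, mul_one, one_mul] at h'
    have := mul_mem (h' (P_mem_wrP hy (inv_mem hx))) (inv_mem (hinv x hx))
    rw [P_inv, P_mul, inv_inv, inv_mul_cancel] at this
    exact (hL _).2 this
  have hmul : ∀ x y : SL(2, F), x ∈ (Q : Subgroup SL(2, F)) → y ∈ (Q : Subgroup SL(2, F)) →
      x * x = -1 → y * y = -1 → y * x ∈ L := by
    intro x y hx hy hx2 hy2
    have := sq_mem x⁻¹ y (inv_mem hx) hy
      (by rw [← _root_.mul_inv_rev, hx2, inv_neg, inv_one]) hy2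
    rwa [inv_inv] at this
  have hiL : i ∈ L := by
    have := hmul (i * j) j (mul_mem hi hj) hj h.mul_pair.jj h.jj
    rwa [show j * (i * j) = i by
      rw [← mul_assoc, h.ji, neg_mul, mul_assoc, h.jj, mul_neg, mul_one, neg_neg]] at this
  obtain ⟨m, hm, ⟨e⟩⟩ := Linear.sylow_two_quaternion hodd Q
  have : NeZero (2 ^ m) := ⟨pow_ne_zero _ two_ne_zero⟩
  have hxa : ∀ l, (e.symm (QuaternionGroup.xa l) : SL(2, F)) ∈ L := by
    intro l
    set y := e.symm (QuaternionGroup.xa l) with hy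
    have ho : orderOf (y : SL(2, F)) = 4 := by
      rw [Subgroup.orderOf_coe, hy, MulEquiv.orderOf_eq, QuaternionGroup.orderOf_xa]
    have hy2 : (y : SL(2, F)) * y = -1 := by
      rw [← sq]
      refine Linear.eq_neg_one_of_sq hodd _ (fun e' => ?_) ?_
      · have := orderOf_dvd_of_pow_eq_one e'
        rw [ho] at this
        omega
      · rw [← pow_mul, show 2 * 2 = 4 from rfl, ← ho, pow_orderOf_eq_one]
    have := mul_mem (hmul i _ hi y.2 h.ii hy2) (inv_mem hiL)
    rwa [mul_inv_cancel_right] at this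
  have hQL : (Q : Subgroup SL(2, F)) ≤ L := by
    intro x hx
    cases hcase : e ⟨x, hx⟩ with
    | xa l =>
      have := hxa l
      rwa [← hcase, MulEquiv.symm_apply_apply] at this
    | a l =>
      have h1 := mul_mem (hxa 0) (hxa (l + 0))
      rw [← Subgroup.coe_mul, ← map_mul, QuaternionGroup.xa_mul_xa] at h1
      have h2' : e.symm (QuaternionGroup.a ((2 ^ m : ℕ) : ZMod (2 * 2 ^ m))) =
          ⟨-1, h.ii ▸ mul_mem hi hi⟩ := by
        apply Subtype.ext
        refine Linear.eq_neg_one_of_sq hodd _ ?_ ?_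
        · intro e'
          have e'' : e.symm (QuaternionGroup.a ((2 ^ m : ℕ) : ZMod (2 * 2 ^ m))) = 1 := Subtype.ext e'
          rw [EmbeddingLike.map_eq_one_iff, QuaternionGroup.one_def, QuaternionGroup.a.injEq,
            ZMod.natCast_eq_zero_iff] at e''
          have := Nat.le_of_dvd (pow_pos two_pos m) e''
          have := pow_pos (two_pos : 0 < 2) m
          omega
        · rw [← Subgroup.coe_pow, ← map_pow, sq, QuaternionGroup.a_mul_a, ← Nat.cast_add, ← two_mul,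
            ZMod.natCast_self, ← QuaternionGroup.one_def, map_one, Subgroup.coe_one]
      have hm1 : (-1 : SL(2, F)) ∈ L := h.ii ▸ mul_mem hiL hiL
      have h3 : (e.symm (QuaternionGroup.a l) : SL(2, F)) *
          (e.symm (QuaternionGroup.a ((2 ^ m : ℕ) : ZMod (2 * 2 ^ m))) : SL(2, F)) ∈ L := by
        rw [← Subgroup.coe_mul, ← map_mul, QuaternionGroup.a_mul_a]
        convert h1 using 5
        ring
      rw [h2'] at h3
      have := mul_mem h3 hm1
      rw [← hcase, MulEquiv.symm_apply_apply] at this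
      simpa using this
  intro x hx
  obtain ⟨a, ha, b, hb, hxab⟩ := mem_wrP hx
  have ha' : P a 1 ∈ T := (hL a).1 (hQL ha)
  have hb' : P 1 b ∈ T := by
    rw [← W_conj_P]
    exact mul_mem (mul_mem hW ((hL b).1 (hQL hb))) (inv_mem hW)
  have hab : P a b ∈ T := by
    have := mul_mem ha' hb'
    rwa [P_mul, mul_one, one_mul] at this
  rcases hxab with rfl | rfl
  · exact hab
  · exact mul_mem hab hW

theorem mem_normalizer_diag (hodd : Odd (Fintype.card F)) (h : Anti i j)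
    (hi : i ∈ (Q : Subgroup SL(2, F))) {g : SL(2, F)}
    (hg : g ∈ Subgroup.normalizer ((Q : Subgroup SL(2, F)) : Set SL(2, F))) :
    P g g ∈ Subgroup.normalizer (wrP (Q : Subgroup SL(2, F)) : Set (Cfsg.PSp 2 F)) := by
  refine Subgroup.mem_normalizer_fintype fun x hx => ?_
  have hgc : ∀ a ∈ (Q : Subgroup SL(2, F)), g * a * g⁻¹ ∈ (Q : Subgroup SL(2, F)) :=
    fun a ha => (Subgroup.mem_normalizer_iff.1 hg a).1 ha
  obtain ⟨a, ha, b, hb, rfl | rfl⟩ := mem_wrP hx
  · rw [SetLike.mem_coe, P_conj_P]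
    exact P_mem_wrP (hgc a ha) (hgc b hb)
  · rw [SetLike.mem_coe, show P g g * (P a b * W) * (P g g)⁻¹ =
      (P g g * P a b * (P g g)⁻¹) * (P g g * W * (P g g)⁻¹) by simp [mul_assoc], P_conj_P,
      P_conj_W, mul_inv_cancel, P_one, one_mul]
    exact mul_mem (P_mem_wrP (hgc a ha) (hgc b hb)) (W_mem_wrP _)

theorem three_cycle_basic (hodd : Odd (Fintype.card F)) (h : Anti i j)
    (hi : i ∈ (Q : Subgroup SL(2, F))) (hj : j ∈ (Q : Subgroup SL(2, F)))
    (h8 : Nat.card (Q : Subgroup SL(2, F)) = 8) {g : SL(2, F)}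
    (hg : g.1 = (1 / 2 : F) • ((i.1 + j.1) * (j.1 + i.1 * j.1)))
    (hgN : g ∈ Subgroup.normalizer ((Q : Subgroup SL(2, F)) : Set SL(2, F))) :
    P g g ∈ basicElts 2 (wrP (Q : Subgroup SL(2, F))) := by
  have h2 := Linear.two_ne_zero_of_odd hodd
  have hm1 : (-1 : SL(2, F)) ∈ (Q : Subgroup SL(2, F)) := h.ii ▸ mul_mem hi hi
  set gens : Set (Cfsg.PSp 2 F) :=
    {x | ∃ c ∈ (Q : Subgroup SL(2, F)), x = P c c} ∪ {P 1 (-1), W} with hgens
  set R := Subgroup.closure gens with hR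
  have hsR : P (1 : SL(2, F)) (-1) ∈ R := Subgroup.subset_closure (Or.inr (Or.inl rfl))
  have hwR : W ∈ R := Subgroup.subset_closure (Or.inr (Or.inr rfl))
  have hcR : ∀ c ∈ (Q : Subgroup SL(2, F)), P c c ∈ R := fun c hc =>
    Subgroup.subset_closure (Or.inl ⟨c, hc, rfl⟩)
  have hcR' : ∀ c ∈ (Q : Subgroup SL(2, F)), P c (-c) ∈ R := fun c hc => by
    have := mul_mem (hcR c hc) hsR
    rwa [P_mul, mul_one, mul_neg, mul_one] at this
  have normal_of : ∀ y : Cfsg.PSp 2 F, (∀ x ∈ gens, y * x * y⁻¹ ∈ R) →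
      y ∈ Subgroup.normalizer (R : Set (Cfsg.PSp 2 F)) := by
    intro y hy
    have hle : R ≤ R.comap (MulAut.conj y).toMonoidHom := by
      rw [hR, Subgroup.closure_le]
      exact hy
    exact Subgroup.mem_normalizer_fintype fun x hx => hle hx
  have hRU : R ≤ wrP (Q : Subgroup SL(2, F)) := by
    rw [hR, Subgroup.closure_le]
    rintro x (⟨c, hc, rfl⟩ | rfl | rfl)
    · exact P_mem_wrP hc hc
    · exact P_mem_wrP (one_mem _) hm1
    · exact W_mem_wrP _
  -- `U` normalises `R`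
  have hUN : wrP (Q : Subgroup SL(2, F)) ≤ Subgroup.normalizer (R : Set (Cfsg.PSp 2 F)) := by
    have hWN : W ∈ Subgroup.normalizer (R : Set (Cfsg.PSp 2 F)) := normal_of _ fun x hx => by
      rcases hx with ⟨c, hc, rfl⟩ | rfl | rfl
      · rw [W_conj_P]; exact hcR c hc
      · rw [W_conj_P, P_neg_one_left]; exact hsR
      · simpa using hwR
    have hPN : ∀ a ∈ (Q : Subgroup SL(2, F)), ∀ b ∈ (Q : Subgroup SL(2, F)),
        P a b ∈ Subgroup.normalizer (R : Set (Cfsg.PSp 2 F)) := fun a ha b hb => normal_of _ fun x hx => by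
      rcases hx with ⟨c, hc, rfl⟩ | rfl | rfl
      · rw [P_conj_P]
        rcases (conj_pm hodd h hi hj h8 ha hc).1 with e | e <;>
          rcases (conj_pm hodd h hi hj h8 hb hc).1 with e' | e' <;> rw [e, e']
        · exact hcR c hc
        · exact hcR' c hc
        · rw [← P_neg, neg_neg]; exact hcR' c hc
        · rw [P_neg]; exact hcR c hc
      · rw [P_conj_P]; simpa using hsR
      · rw [P_conj_W]
        refine mul_mem ?_ hwR
        have hab : a * b⁻¹ ∈ (Q : Subgroup SL(2, F)) := mul_mem ha (inv_mem hb)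
        rw [show b * a⁻¹ = (a * b⁻¹)⁻¹ by rw [_root_.mul_inv_rev, inv_inv]]
        rcases (conj_pm hodd h hi hj h8 hab hab).2 with e | e <;> rw [e]
        · exact hcR _ hab
        · exact hcR' _ hab
    intro x hx
    obtain ⟨a, ha, b, hb, rfl | rfl⟩ := mem_wrP hx
    · exact hPN a ha b hb
    · exact mul_mem (hPN a ha b hb) hWN
  have hUC : wrP (Q : Subgroup SL(2, F)) ⊓ Subgroup.centralizer (R : Set (Cfsg.PSp 2 F)) ≤ R := by
    have key : ∀ a ∈ (Q : Subgroup SL(2, F)), ∀ b ∈ (Q : Subgroup SL(2, F)),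
        P a b = P b a → P a b ∈ R := by
      intro a ha b hb e
      rcases P_inj e with ⟨rfl, -⟩ | ⟨rfl, -⟩
      · exact hcR a ha
      · rw [← P_neg, neg_neg]; exact hcR' b hb
    rintro x ⟨hx, hxc⟩
    have hc := Subgroup.mem_centralizer_iff.1 hxc W hwR
    obtain ⟨a, ha, b, hb, rfl | rfl⟩ := mem_wrP hx
    · rw [W_mul_P] at hc
      exact key a ha b hb (mul_right_cancel hc).symm
    · rw [← mul_assoc, W_mul_P] at hc
      exact mul_mem (key a ha b hb (mul_right_cancel (mul_right_cancel hc)).symm) hwR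
  -- the two involutions
  have rot : ∀ i' j' : SL(2, F), Anti i' j' → i' ∈ (Q : Subgroup SL(2, F)) →
      j' ∈ (Q : Subgroup SL(2, F)) → ∀ hd : (i'.1 + j'.1).det = 2,
      proj (rotG h2 _ hd) ∈ {y | y ∈ Subgroup.normalizer (R : Set (Cfsg.PSp 2 F)) ∧
        ∃ k : ℕ, orderOf y = 2 ^ k} := by
    intro i' j' h' hi' hj' hd
    obtain ⟨hii, hjj, hji⟩ := h'.mat
    obtain ⟨s1, s2, s3⟩ := h'.swap_identities
    set G := proj (rotG h2 _ hd) with hG
    have hsq : G * G = 1 := by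
      rw [hG, ← map_mul, rotG_sq h2 _ hd, proj_negOne]
      rw [add_mul, mul_add, mul_add, hii, hjj, hji]
      module
    refine ⟨normal_of _ fun x hx => ?_, ?_⟩
    · rcases hx with ⟨c, hc, rfl⟩ | rfl | rfl
      · have hex : ∃ d ∈ (Q : Subgroup SL(2, F)), (i'.1 + j'.1) * c.1 = d.1 * (i'.1 + j'.1) := by
          have hij' := mul_mem hi' hj'
          have hneg : ∀ d : SL(2, F), d ∈ (Q : Subgroup SL(2, F)) → -d ∈ (Q : Subgroup SL(2, F)) :=
            fun d hd => by simpa using mul_mem hm1 hd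
          rcases mem_cases hodd h' hi' hj' h8 hc with
            (rfl | rfl) | (rfl | rfl) | (rfl | rfl) | (rfl | rfl)
          · exact ⟨1, one_mem _, by simp⟩
          · exact ⟨-1, hm1, by simp⟩
          · exact ⟨j', hj', s1⟩
          · exact ⟨-j', hneg _ hj', by simp [s1]⟩
          · exact ⟨i', hi', s2⟩
          · exact ⟨-i', hneg _ hi', by simp [s2]⟩
          · exact ⟨-(i' * j'), hneg _ hij', by simpa using s3⟩
          · exact ⟨i' * j', hij', by simp [s3]⟩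
        obtain ⟨d, hdQ, hd'⟩ := hex
        rw [hG, P, ← map_mul, ← map_inv, ← map_mul, rotG_mul_diag h2 _ hd hd', mul_inv_cancel_right]
        exact hcR d hdQ
      · rw [hG, P, ← map_mul, ← map_inv, ← map_mul, rotG_mul_sign, mul_inv_cancel_right]
        exact hwR
      · rw [hG, W, ← map_mul, ← map_inv, ← map_mul, rotG_mul_wS, mul_inv_cancel_right]
        exact hsR
    · obtain ⟨k, -, hk⟩ := (Nat.dvd_prime_pow Nat.prime_two).1
        (orderOf_dvd_of_pow_eq_one (show G ^ 2 ^ 1 = 1 by rw [pow_one, sq, hsq]))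
      exact ⟨k, hk⟩
  refine ⟨mem_normalizer_diag hodd h hi hgN, Or.inr (Or.inr ⟨R, hRU, hUN, hUC, ?_⟩)⟩
  have d1 := h.det_add h2
  have d2 := h.mul_pair.det_add h2
  have hP : P g g = proj (rotG h2 _ d1) * proj (rotG h2 _ d2) := by
    rw [P, ← map_mul, rotG_mul_eq_pair h2 _ _ d1 d2 g
      (by rw [hg, Matrix.SpecialLinearGroup.coe_mul])]
  rw [hP]
  exact mul_mem (Subgroup.subset_closure (rot i j h hi hj d1))
    (Subgroup.subset_closure (rot j (i * j) h.mul_pair hj (mul_mem hi hj) d2))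

theorem normalizer_le (hodd : Odd (Fintype.card F)) (h : Anti i j)
    (hi : i ∈ (Q : Subgroup SL(2, F))) (hj : j ∈ (Q : Subgroup SL(2, F))) :
    Subgroup.normalizer (wrP (Q : Subgroup SL(2, F)) : Set (Cfsg.PSp 2 F)) ≤
      Subgroup.closure (basicElts 2 (wrP (Q : Subgroup SL(2, F)))) := by
  have h2 := Linear.two_ne_zero_of_odd hodd
  have hm1 : (-1 : SL(2, F)) ∈ (Q : Subgroup SL(2, F)) := h.ii ▸ mul_mem hi hi
  have inU : ∀ y ∈ wrP (Q : Subgroup SL(2, F)),
      y ∈ Subgroup.closure (basicElts 2 (wrP (Q : Subgroup SL(2, F)))) := fun y hy =>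
    Subgroup.subset_closure ⟨Subgroup.le_normalizer hy, Or.inl hy⟩
  have diag : ∀ g ∈ Subgroup.normalizer ((Q : Subgroup SL(2, F)) : Set SL(2, F)),
      P g g ∈ Subgroup.closure (basicElts 2 (wrP (Q : Subgroup SL(2, F)))) := by
    intro g hg
    by_cases h16 : 16 ≤ Nat.card (Q : Subgroup SL(2, F))
    · have := mem_of_normalizer hodd h hi hj h16 hg
      exact inU _ (P_mem_wrP this this)
    have h8 : Nat.card (Q : Subgroup SL(2, F)) = 8 := by
      obtain ⟨m, hm, ⟨e⟩⟩ := Linear.sylow_two_quaternion hodd Q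
      have : NeZero (2 ^ m) := ⟨pow_ne_zero _ two_ne_zero⟩
      rw [Nat.card_congr e.toEquiv, Nat.card_eq_fintype_card, QuaternionGroup.card] at h16 ⊢
      have : 2 ≤ 2 ^ m := le_self_pow (by norm_num) (by omega)
      rcases Nat.eq_or_lt_of_le hm with rfl | hm'
      · rfl
      · have : 2 ^ 2 ≤ 2 ^ m := Nat.pow_le_pow_right two_pos hm'
        omega
    obtain ⟨g₀, hg₀, hgi, hgj⟩ := exists_three_cycle hodd h
    have hg₀N := three_cycle_mem_normalizer hodd h hi hj h8 hgi hgj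
    obtain ⟨e, c, hc, rfl⟩ := normalizer_cases hodd h hi hj h8 hgi hgj hg
    rw [← P_mul]
    refine mul_mem ?_ (inU _ (P_mem_wrP hc hc))
    rw [show P (g₀ ^ e) (g₀ ^ e) = P g₀ g₀ ^ e by
      rw [P, P, ← map_pow, ← map_pow, Prod.pow_mk]]
    exact pow_mem (Subgroup.subset_closure (three_cycle_basic hodd h hi hj h8 hg₀ hg₀N)) e
  intro y hy
  -- the lift commutes with the central involution up to sign
  have hsU : P (1 : SL(2, F)) (-1) ∈ wrP (Q : Subgroup SL(2, F)) := P_mem_wrP (one_mem _) hm1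
  have hys : y * P 1 (-1) * y⁻¹ = P 1 (-1) := by
    have hmem := (Subgroup.mem_normalizer_iff.1 hy _).1 hsU
    refine (center_wrP hodd h hi hj hmem fun u hu => ?_).resolve_left fun e => ?_
    · have hu' := (Subgroup.mem_normalizer_iff.1 (inv_mem hy) u).1 hu
      have hsc : ∀ v ∈ wrP (Q : Subgroup SL(2, F)), P 1 (-1) * v = v * P 1 (-1) := by
        intro v hv
        obtain ⟨a, ha, b, hb, rfl | rfl⟩ := mem_wrP hv
        · rw [P_mul, P_mul]; simp
        · rw [mul_assoc, W_mul_P, ← mul_assoc, ← mul_assoc, P_mul, P_mul, ← P_neg (a * -1)]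
          simp
      have := congrArg (fun v => y * v * y⁻¹) (hsc _ hu')
      simpa [mul_assoc] using this
    · have e' : P (1 : SL(2, F)) (-1) = P 1 1 := by
        rw [P_one]
        simpa [mul_assoc] using congrArg (fun v => y⁻¹ * v * y) e
      rcases P_inj e' with ⟨-, e''⟩ | ⟨e'', -⟩
      · exact Linear.neg_one_ne_one hodd e''
      · exact Linear.neg_one_ne_one hodd e''.symm
  obtain ⟨X, rfl⟩ := QuotientGroup.mk'_surjective _ y
  change proj X ∈ Subgroup.closure (basicElts 2 (wrP (Q : Subgroup SL(2, F))))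
  change proj X * _ * (proj X)⁻¹ = _ at hys
  rw [P, ← map_mul, ← map_inv, ← map_mul] at hys
  obtain ⟨Y, hY, a, b, rfl⟩ : ∃ Y : SP, Y ∈ wr (Q : Subgroup SL(2, F)) ∧
      ∃ a b, X = pairM (a, b) * Y := by
    rcases proj_eq hys with e | e
    · obtain ⟨a, b, rfl⟩ := commute_sign h2 (mul_inv_eq_iff_eq_mul.1 e)
      exact ⟨1, one_mem _, a, b, (mul_one _).symm⟩
    · have hc : X * wS * pairM (1, -1) = pairM (1, -1) * (X * wS) := by
        have e' := mul_inv_eq_iff_eq_mul.1 e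
        rw [negOne_mul_pair, neg_neg] at e'
        rw [mul_assoc, wS_mul_pair, ← mul_assoc, ← mul_assoc]
        congr 1
        have hn : pairM ((-1 : SL(2, F)), (1 : SL(2, F))) = negOne * pairM (1, -1) := by
          rw [negOne_mul_pair, neg_neg]
        rw [hn, ← mul_assoc, Subgroup.mem_center_iff.1 negOne_mem_center X, mul_assoc, e',
          ← mul_assoc, negOne_mul_pair, neg_neg]
      obtain ⟨a, b, hab⟩ := commute_sign h2 hc
      exact ⟨wS, ⟨1, one_mem _, 1, one_mem _, Or.inr (by rw [← Prod.one_eq_mk, map_one, one_mul])⟩,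
        a, b, by rw [← hab, mul_assoc, wS_sq, mul_one]⟩
  have hYU : proj Y ∈ wrP (Q : Subgroup SL(2, F)) := Subgroup.mem_map_of_mem _ hY
  rw [map_mul]
  refine mul_mem ?_ (inU _ hYU)
  change P a b ∈ _
  have habN : P a b ∈ Subgroup.normalizer (wrP (Q : Subgroup SL(2, F)) : Set (Cfsg.PSp 2 F)) := by
    have := mul_mem hy (inv_mem (Subgroup.le_normalizer hYU))
    change proj (pairM (a, b) * Y) * _ ∈ _ at this
    rwa [map_mul, mul_inv_cancel_right] at this
  have conjP := fun v hv => (Subgroup.mem_normalizer_iff.1 habN v).1 hv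
  have hbN : b ∈ Subgroup.normalizer ((Q : Subgroup SL(2, F)) : Set SL(2, F)) :=
    Subgroup.mem_normalizer_fintype fun c hc => by
      have := conjP _ (P_mem_wrP (one_mem _) hc)
      rw [P_conj_P] at this
      exact (P_mem_wrP_iff hm1 this).2
  have hab : a * b⁻¹ ∈ (Q : Subgroup SL(2, F)) := by
    have := conjP _ (W_mem_wrP _)
    rw [P_conj_W] at this
    have := mul_mem this (inv_mem (W_mem_wrP _))
    rw [mul_inv_cancel_right] at this
    exact (P_mem_wrP_iff hm1 this).1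
  have e : P a b = P (a * b⁻¹) 1 * P b b := by
    rw [P_mul, inv_mul_cancel_right, one_mul]
  rw [e]
  exact mul_mem (inU _ (P_mem_wrP hab (one_mem _))) (diag b hbN)

/-- The 2-fusion system of `PSp(4,q)`, `q` odd, is simple. -/
theorem isSimple_PSp_four (hodd : Odd (Fintype.card F)) (S : Sylow 2 (Cfsg.PSp 2 F)) :
    (Cfsg.groupFusionSystem (S : Subgroup (Cfsg.PSp 2 F))).IsSimple 2 := by
  have : Fact (Nat.Prime 2) := ⟨Nat.prime_two⟩
  obtain ⟨Q, i, j, h, hi, hj⟩ := QuatSL2.exists_sylow (F := F) hodd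
  obtain ⟨U, hU⟩ := exists_sylow_wrP hodd h hi
  refine isSimple_of_one_sylow U ?_ (fun T hT => ?_) ?_ S
  · rw [hU]
    intro hbot
    have : W ∈ (⊥ : Subgroup (Cfsg.PSp 2 F)) := hbot ▸ W_mem_wrP _
    exact W_ne_P (1 : SL(2, F)) 1 (by rw [P_one, Subgroup.mem_bot.1 this])
  · rw [hU] at hT ⊢
    exact closed_eq hodd h hi hj hT
  · rw [hU]
    exact normalizer_le hodd h hi hj

end CfsgLib.FusionSub.PSpFour
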