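import Cfsg.Agent.FusionSub.QuatSL2
import Cfsg.Agent.SympOrders.Basic

/-!
The subgroup `SL(2,F) ≀ 2` of `Sp(4,F)` and two elements of `Sp(4,F)` fusing its involutions.
-/

set_option autoImplicit false

namespace CfsgLib.FusionSub.PSpFour

open Matrix
open scoped MatrixGroups

variable {F : Type*} [Field F]

local notation "M4" => Matrix (Fin 2 ⊕ Fin 2) (Fin 2 ⊕ Fin 2) F
local notation "M2" => Matrix (Fin 2) (Fin 2) F
local notation "SP" => Matrix.symplecticGroup (Fin 2) F

/-- The Kronecker product, in block form. -/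
def tens (a b : M2) : M4 := fromBlocks (a 0 0 • b) (a 0 1 • b) (a 1 0 • b) (a 1 1 • b)

theorem tens_mul (a b c d : M2) : tens a b * tens c d = tens (a * c) (b * d) := by
  simp only [tens, fromBlocks_multiply, Matrix.mul_apply, Fin.sum_univ_two, add_smul, smul_smul,
    smul_mul_assoc, mul_smul_comm, mul_comm]

theorem tens_transpose (a b : M2) : (tens a b)ᵀ = tens aᵀ bᵀ := by
  simp [tens, fromBlocks_transpose]

theorem tens_add_left (a a' b : M2) : tens (a + a') b = tens a b + tens a' b := by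
  simp [tens, fromBlocks_add, add_smul]

theorem tens_add_right (a b b' : M2) : tens a (b + b') = tens a b + tens a b' := by
  simp [tens, fromBlocks_add]

theorem tens_smul_left (r : F) (a b : M2) : tens (r • a) b = r • tens a b := by
  simp [tens, fromBlocks_smul, smul_smul]

theorem tens_smul_right (r : F) (a b : M2) : tens a (r • b) = r • tens a b := by
  simp [tens, fromBlocks_smul, smul_smul, mul_comm r]

theorem tens_neg_left (a b : M2) : tens (-a) b = -tens a b := by
  simp [tens, fromBlocks_neg]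

theorem tens_neg_right (a b : M2) : tens a (-b) = -tens a b := by
  simp [tens, fromBlocks_neg]

theorem tens_sub_right (a b b' : M2) : tens a (b - b') = tens a b - tens a b' := by
  rw [sub_eq_add_neg, tens_add_right, tens_neg_right, ← sub_eq_add_neg]

theorem tens_zero_right (a : M2) : tens a 0 = 0 := by
  simp [tens]

theorem tens_one : tens (1 : M2) 1 = 1 := by
  simp [tens]

/-- The symplectic form in two variables. -/
def J2 : M2 := !![0, -1; 1, 0]

theorem J_eq : Matrix.J (Fin 2) F = tens J2 1 := by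
  simp [tens, J2, Matrix.J]

theorem J2_congr (a : M2) : a * J2 * aᵀ = a.det • J2 := by
  ext r s
  fin_cases r <;> fin_cases s <;>
    simp [J2, Matrix.mul_apply, Fin.sum_univ_two, Matrix.det_fin_two] <;> ring

theorem tens_mem {a b : M2} (h : a.det • (b * bᵀ) = 1) : tens a b ∈ SP := by
  rw [SymplecticGroup.mem_iff, J_eq, tens_transpose, tens_mul, tens_mul, mul_one, J2_congr,
    tens_smul_left, ← tens_smul_right, h]

/-- The first idempotent. -/
def e1 : M2 := !![1, 0; 0, 0]

/-- The second idempotent. -/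
def e2 : M2 := !![0, 0; 0, 1]

/-- The exchange matrix. -/
def flipMat : M2 := !![0, 1; 1, 0]

/-- The sign matrix. -/
def signMat : M2 := !![1, 0; 0, -1]

/-- A Hadamard matrix. -/
def hada : M2 := !![1, 1; 1, -1]

theorem e_facts : (e1 : M2) * e1 = e1 ∧ (e2 : M2) * e2 = e2 ∧ (e1 : M2) * e2 = 0 ∧
    (e2 : M2) * e1 = 0 ∧ (e1 : M2) + e2 = 1 ∧ (flipMat : M2) * e1 = e2 * flipMat ∧
    (flipMat : M2) * e2 = e1 * flipMat ∧ (e1 : M2)ᵀ = e1 ∧ (e2 : M2)ᵀ = e2 := by
  refine ⟨?_, ?_, ?_, ?_, ?_, ?_, ?_, ?_, ?_⟩ <;> ext r s <;> fin_cases r <;> fin_cases s <;>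
    simp [e1, e2, flipMat]

theorem mat_facts : (flipMat : M2) * flipMat = 1 ∧ (flipMat : M2)ᵀ = flipMat ∧
    (hada : M2) * hada = (2 : F) • 1 ∧ (hada : M2)ᵀ = hada ∧
    (hada : M2) * signMat = flipMat * hada ∧ (hada : M2) * flipMat = signMat * hada ∧
    (signMat : M2) = e1 - e2 := by
  refine ⟨?_, ?_, ?_, ?_, ?_, ?_, ?_⟩ <;> ext r s <;> fin_cases r <;> fin_cases s <;>
    simp [flipMat, hada, signMat, e1, e2] <;> norm_num

/-- `(a, b) ↦ diag(a, b)`. -/
def pairMat (a b : M2) : M4 := tens a e1 + tens b e2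

theorem pairMat_mul (a b c d : M2) : pairMat a b * pairMat c d = pairMat (a * c) (b * d) := by
  obtain ⟨h1, h2, h12, h21, -⟩ := e_facts (F := F)
  simp [pairMat, add_mul, mul_add, tens_mul, h1, h2, h12, h21, tens_zero_right]

theorem pairMat_one : pairMat (1 : M2) 1 = 1 := by
  rw [pairMat, ← tens_add_right, (e_facts (F := F)).2.2.2.2.1, tens_one]

theorem pairMat_mem {a b : M2} (ha : a.det = 1) (hb : b.det = 1) : pairMat a b ∈ SP := by
  obtain ⟨h1, h2, h12, h21, hs, -, -, t1, t2⟩ := e_facts (F := F)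
  rw [SymplecticGroup.mem_iff, J_eq, pairMat, transpose_add, tens_transpose, tens_transpose, t1,
    t2]
  simp [add_mul, mul_add, tens_mul, h1, h2, h12, h21, tens_zero_right, J2_congr, ha, hb]
  rw [← tens_add_right, hs]

/-- The embedding of `SL(2,F) × SL(2,F)` in `Sp(4,F)`. -/
def pairM : SL(2, F) × SL(2, F) →* SP where
  toFun x := ⟨pairMat x.1.1 x.2.1, pairMat_mem x.1.2 x.2.2⟩
  map_one' := Subtype.ext pairMat_one
  map_mul' x y := Subtype.ext (pairMat_mul x.1.1 x.2.1 y.1.1 y.2.1).symm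

theorem coe_pairM (a b : SL(2, F)) : (pairM (a, b) : SP).1 = pairMat a.1 b.1 := rfl

theorem pairM_injective : Function.Injective (pairM (F := F)) := by
  rintro ⟨a, b⟩ ⟨c, d⟩ h
  have h' : pairMat a.1 b.1 = pairMat c.1 d.1 := congrArg Subtype.val h
  simp only [pairMat, tens, fromBlocks_add, fromBlocks_inj] at h'
  obtain ⟨k00, k01, k10, k11⟩ := h'
  refine Prod.ext (Subtype.ext ?_) (Subtype.ext ?_)
  · ext r s
    fin_cases r <;> fin_cases s
    · simpa [e1, e2] using congrFun (congrFun k00 0) 0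
    · simpa [e1, e2] using congrFun (congrFun k01 0) 0
    · simpa [e1, e2] using congrFun (congrFun k10 0) 0
    · simpa [e1, e2] using congrFun (congrFun k11 0) 0
  · ext r s
    fin_cases r <;> fin_cases s
    · simpa [e1, e2] using congrFun (congrFun k00 1) 1
    · simpa [e1, e2] using congrFun (congrFun k01 1) 1
    · simpa [e1, e2] using congrFun (congrFun k10 1) 1
    · simpa [e1, e2] using congrFun (congrFun k11 1) 1

/-- The element exchanging the two blocks. -/
def wS : SP := ⟨tens 1 flipMat, tens_mem (by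
  rw [Matrix.det_one, (mat_facts (F := F)).2.1, (mat_facts (F := F)).1, one_smul])⟩

theorem wS_sq : (wS : SP) * wS = 1 := by
  apply Subtype.ext
  show tens 1 flipMat * tens 1 flipMat = (1 : M4)
  rw [tens_mul, (mat_facts (F := F)).1, mul_one, tens_one]

theorem wS_mul_pair (a b : SL(2, F)) : wS * pairM (a, b) = pairM (b, a) * wS := by
  obtain ⟨-, -, -, -, -, h1, h2, -⟩ := e_facts (F := F)
  apply Subtype.ext
  show tens 1 flipMat * pairMat a.1 b.1 = pairMat b.1 a.1 * tens 1 flipMat
  simp [pairMat, mul_add, add_mul, tens_mul, h1, h2, add_comm]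

theorem wS_ne_pair (a b : SL(2, F)) : pairM (a, b) ≠ wS := by
  intro h
  have h' : pairMat a.1 b.1 = tens 1 flipMat := congrArg Subtype.val h
  simp only [pairMat, tens, fromBlocks_add, fromBlocks_inj] at h'
  simpa [e1, e2, flipMat] using congrFun (congrFun h'.1 0) 1

theorem neg_one_mem : (-1 : M4) ∈ SP := by
  simp [SymplecticGroup.mem_iff]

/-- The central involution. -/
def negOne : SP := ⟨-1, neg_one_mem⟩

theorem pairM_neg_one : pairM ((-1 : SL(2, F)), (-1 : SL(2, F))) = negOne := by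
  apply Subtype.ext
  show pairMat (-1 : SL(2, F)).1 (-1 : SL(2, F)).1 = -1
  rw [Matrix.SpecialLinearGroup.coe_neg, Matrix.SpecialLinearGroup.coe_one, pairMat, tens_neg_left,
    tens_neg_left, ← neg_add, ← tens_add_right, (e_facts (F := F)).2.2.2.2.1, tens_one]

theorem center_cases {x : SP} (hx : x ∈ Subgroup.center SP) : x = 1 ∨ x = negOne := by
  obtain ⟨c, hc⟩ := CfsgLib.SympOrders.scalar_of_mem_center hx
  have h := SymplecticGroup.mem_iff.1 x.2
  rw [hc] at h
  simp [smul_smul] at h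
  have h2 := congrFun (congrFun h (Sum.inr 0)) (Sum.inl 0)
  simp [Matrix.J] at h2
  rcases mul_self_eq_one_iff.1 h2 with rfl | rfl
  · exact Or.inl (Subtype.ext (by rw [hc, one_smul]; rfl))
  · exact Or.inr (Subtype.ext (by rw [hc, neg_one_smul]; rfl))

theorem negOne_mem_center : (negOne : SP) ∈ Subgroup.center SP :=
  CfsgLib.SympOrders.center_of_scalar (c := -1) (by rw [neg_one_smul]; rfl)

/-- An element of `Sp(4,F)` interchanging `diag(1,-1)` and `wS`. -/
noncomputable def rotG (h2 : (2 : F) ≠ 0) (a : M2) (ha : a.det = 2) : SP :=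
  ⟨tens a ((1 / 2 : F) • hada), tens_mem (by
    obtain ⟨-, -, hh, ht, -⟩ := mat_facts (F := F)
    rw [transpose_smul, ht, smul_mul_assoc, mul_smul_comm, hh, ha, smul_smul, smul_smul, smul_smul]
    rw [show (2 : F) * (1 / 2) * (1 / 2) * 2 = 1 by field_simp, one_smul])⟩

theorem rotG_mul (h2 : (2 : F) ≠ 0) (a b : M2) (ha : a.det = 2) (hb : b.det = 2) :
    (rotG h2 a ha * rotG h2 b hb).1 = tens ((1 / 2 : F) • (a * b)) 1 := by
  show tens a ((1 / 2 : F) • hada) * tens b ((1 / 2 : F) • hada) = _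
  rw [tens_mul, smul_mul_assoc, mul_smul_comm, (mat_facts (F := F)).2.2.1, smul_smul, smul_smul,
    tens_smul_right, tens_smul_left]
  congr 1
  field_simp

theorem rotG_mul_eq_pair (h2 : (2 : F) ≠ 0) (a b : M2) (ha : a.det = 2) (hb : b.det = 2)
    (g : SL(2, F)) (hg : g.1 = (1 / 2 : F) • (a * b)) :
    rotG h2 a ha * rotG h2 b hb = pairM (g, g) := by
  apply Subtype.ext
  rw [rotG_mul, coe_pairM, pairMat, ← tens_add_right, (e_facts (F := F)).2.2.2.2.1, hg]

theorem coe_pair_sign : (pairM ((1 : SL(2, F)), -1) : SP).1 = tens 1 signMat := by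
  rw [coe_pairM, Matrix.SpecialLinearGroup.coe_neg, Matrix.SpecialLinearGroup.coe_one, pairMat,
    tens_neg_left, ← sub_eq_add_neg, ← tens_sub_right, (mat_facts (F := F)).2.2.2.2.2.2]

theorem rotG_mul_wS (h2 : (2 : F) ≠ 0) (a : M2) (ha : a.det = 2) :
    rotG h2 a ha * wS = pairM (1, -1) * rotG h2 a ha := by
  apply Subtype.ext
  rw [Submonoid.coe_mul, Submonoid.coe_mul, coe_pair_sign]
  show tens a ((1 / 2 : F) • hada) * tens 1 flipMat = tens 1 signMat * tens a ((1 / 2 : F) • hada)
  rw [tens_mul, tens_mul, one_mul, mul_one, smul_mul_assoc, mul_smul_comm,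
    (mat_facts (F := F)).2.2.2.2.2.1]

theorem rotG_mul_sign (h2 : (2 : F) ≠ 0) (a : M2) (ha : a.det = 2) :
    rotG h2 a ha * pairM (1, -1) = wS * rotG h2 a ha := by
  apply Subtype.ext
  rw [Submonoid.coe_mul, Submonoid.coe_mul, coe_pair_sign]
  show tens a ((1 / 2 : F) • hada) * tens 1 signMat = tens 1 flipMat * tens a ((1 / 2 : F) • hada)
  rw [tens_mul, tens_mul, one_mul, mul_one, smul_mul_assoc, mul_smul_comm,
    (mat_facts (F := F)).2.2.2.2.1]

theorem rotG_mul_diag (h2 : (2 : F) ≠ 0) (a : M2) (ha : a.det = 2) {c d : SL(2, F)}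
    (h : a * c.1 = d.1 * a) : rotG h2 a ha * pairM (c, c) = pairM (d, d) * rotG h2 a ha := by
  apply Subtype.ext
  show tens a ((1 / 2 : F) • hada) * pairMat c.1 c.1 =
    pairMat d.1 d.1 * tens a ((1 / 2 : F) • hada)
  rw [pairMat, pairMat, ← tens_add_right, ← tens_add_right, (e_facts (F := F)).2.2.2.2.1, tens_mul,
    tens_mul, mul_one, one_mul, h]

theorem rotG_sq (h2 : (2 : F) ≠ 0) (a : M2) (ha : a.det = 2) (hsq : a * a = (-2 : F) • 1) :
    rotG h2 a ha * rotG h2 a ha = negOne := by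
  apply Subtype.ext
  rw [rotG_mul, hsq, smul_smul, show (1 / 2 : F) * -2 = -1 by field_simp, neg_one_smul,
    tens_neg_left, tens_one]
  rfl

end CfsgLib.FusionSub.PSpFour
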