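import Cfsg.Agent.Linear.SL2Sylow
import Cfsg.Agent.Linear.Basic
import Cfsg.Agent.SL2Trace.Basic
import Cfsg.Agent.S3116
import Cfsg.Agent.FusionSub.PSLThree

/-!
Quaternion Sylow 2-subgroups of `SL(2,q)`, `q` odd, and their normalizers.
-/

set_option autoImplicit false

namespace CfsgLib.FusionSub.QuatSL2

open Matrix
open scoped MatrixGroups

variable {F : Type*} [Field F]

/-- An anticommuting pair of square roots of `-1`. -/
structure Anti (i j : SL(2, F)) : Prop where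
  ii : i * i = -1
  jj : j * j = -1
  ji : j * i = -(i * j)

theorem Anti.mat {i j : SL(2, F)} (h : Anti i j) :
    i.1 * i.1 = -1 ∧ j.1 * j.1 = -1 ∧ j.1 * i.1 = -(i.1 * j.1) := by
  have h1 := congrArg Subtype.val h.ii
  have h2 := congrArg Subtype.val h.jj
  have h3 := congrArg Subtype.val h.ji
  simp only [Matrix.SpecialLinearGroup.coe_mul, Matrix.SpecialLinearGroup.coe_neg,
    Matrix.SpecialLinearGroup.coe_one] at h1 h2 h3
  exact ⟨h1, h2, h3⟩

theorem Anti.inv_left {i j : SL(2, F)} (h : Anti i j) : i⁻¹ = -i :=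
  inv_eq_of_mul_eq_one_right (by rw [mul_neg, h.ii, neg_neg])

theorem Anti.inv_right {i j : SL(2, F)} (h : Anti i j) : j⁻¹ = -j :=
  inv_eq_of_mul_eq_one_right (by rw [mul_neg, h.jj, neg_neg])

theorem Anti.mul_pair {i j : SL(2, F)} (h : Anti i j) : Anti j (i * j) := by
  refine ⟨h.jj, ?_, ?_⟩
  · calc i * j * (i * j) = i * (j * i) * j := by simp only [mul_assoc]
      _ = -1 := by
        rw [h.ji, mul_neg, neg_mul, ← mul_assoc i i j, h.ii, neg_mul, one_mul, neg_mul, h.jj]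
        simp
  · calc i * j * j = -i := by rw [mul_assoc, h.jj, mul_neg, mul_one]
      _ = -(j * (i * j)) := by
        rw [← mul_assoc, h.ji, neg_mul, mul_assoc i j j, h.jj, mul_neg, mul_one, neg_neg]

/-- An element commuting with both is `±1`. -/
theorem Anti.eq_one_or {i j x : SL(2, F)} (h : Anti i j) (h2 : (2 : F) ≠ 0) (hi : x * i = i * x)
    (hj : x * j = j * x) : x = 1 ∨ x = -1 := by
  obtain ⟨hii, hjj, hji⟩ := h.mat
  have hns : i.1 0 1 ≠ 0 ∨ i.1 1 0 ≠ 0 ∨ i.1 0 0 ≠ i.1 1 1 := by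
    by_contra hc
    push Not at hc
    obtain ⟨a, b, c⟩ := hc
    have hI : i.1 = i.1 0 0 • 1 := by
      ext r s; fin_cases r <;> fin_cases s <;> simp [a, b, ← c]
    have hcomm : j.1 * i.1 = i.1 * j.1 := by rw [hI]; simp
    rw [hji] at hcomm
    have h0 : (2 : F) • (i.1 * j.1) = 0 := by
      rw [two_smul]; nth_rewrite 1 [← hcomm]; exact neg_add_cancel _
    have h1 : i.1 * j.1 = 0 := (smul_eq_zero.1 h0).resolve_left h2
    have := congrArg Matrix.det h1
    simp at this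
  obtain ⟨a, b, hab⟩ := CfsgLib.Linear.exists_coord hns
    (show i.1 * x.1 = x.1 * i.1 by
      rw [← Matrix.SpecialLinearGroup.coe_mul, ← Matrix.SpecialLinearGroup.coe_mul, hi])
  have hxj : x.1 * j.1 = j.1 * x.1 := by
    rw [← Matrix.SpecialLinearGroup.coe_mul, ← Matrix.SpecialLinearGroup.coe_mul, hj]
  rw [hab, add_mul, mul_add, smul_mul_assoc, mul_smul_comm, one_mul, mul_one, add_right_inj,
    smul_mul_assoc, mul_smul_comm, hji, smul_neg] at hxj
  have hb : b = 0 := by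
    have h0 : (2 * b) • (i.1 * j.1) = 0 := by
      rw [mul_smul, two_smul]; nth_rewrite 1 [hxj]; exact neg_add_cancel _
    rcases smul_eq_zero.1 h0 with h' | h'
    · exact (mul_eq_zero.1 h').resolve_left h2
    · have := congrArg Matrix.det h'
      simp at this
  rw [hb, zero_smul, add_zero] at hab
  have hd := x.2
  rw [hab, Matrix.det_smul, Matrix.det_one, mul_one, Fintype.card_fin, sq_eq_one_iff] at hd
  rcases hd with rfl | rfl
  · exact Or.inl (Subtype.ext (by rw [hab, one_smul]; rfl))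
  · refine Or.inr (Subtype.ext ?_)
    rw [hab, Matrix.SpecialLinearGroup.coe_neg, Matrix.SpecialLinearGroup.coe_one]
    simp

theorem Anti.det_add {i j : SL(2, F)} (h : Anti i j) (h2 : (2 : F) ≠ 0) :
    (i.1 + j.1).det = 2 := by
  obtain ⟨hii, hjj, hji⟩ := h.mat
  have a00 := congrFun (congrFun hii 0) 0
  have a11 := congrFun (congrFun hii 1) 1
  have b00 := congrFun (congrFun hjj 0) 0
  have b11 := congrFun (congrFun hjj 1) 1
  have c00 := congrFun (congrFun hji 0) 0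
  have c11 := congrFun (congrFun hji 1) 1
  simp [Matrix.mul_apply, Fin.sum_univ_two] at a00 a11 b00 b11 c00 c11
  have di := SL2Trace.det_eq_one i
  have dj := SL2Trace.det_eq_one j
  have ti : i.1 0 0 + i.1 1 1 = 0 := by
    have : (i.1 0 0 + i.1 1 1) ^ 2 = 0 := by linear_combination a00 + a11 + 2 * di
    simpa using this
  have tj : j.1 0 0 + j.1 1 1 = 0 := by
    have : (j.1 0 0 + j.1 1 1) ^ 2 = 0 := by linear_combination b00 + b11 + 2 * dj
    simpa using this
  rw [Matrix.det_fin_two]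
  simp only [Matrix.add_apply]
  apply mul_left_cancel₀ h2
  linear_combination 2 * di + 2 * dj + (-2 : F) * c00 +
    2 * j.1 0 0 * ti + 2 * i.1 0 0 * tj

variable [Fintype F]

theorem exists_sylow (hodd : Odd (Fintype.card F)) :
    ∃ (Q : Sylow 2 SL(2, F)) (i j : SL(2, F)), Anti i j ∧ i ∈ (Q : Subgroup SL(2, F)) ∧
      j ∈ (Q : Subgroup SL(2, F)) := by
  have : Fact (Nat.Prime 2) := ⟨Nat.prime_two⟩
  obtain ⟨i, j, hi, hj, hij⟩ := Linear.exists_anticommuting_pair (F := F) hodd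
  have h : Anti i j := ⟨hi, hj, hij⟩
  have h4 : ∀ x : SL(2, F), x * x = -1 → IsPGroup 2 (Subgroup.zpowers x) := fun x hx => by
    have hx4 : x ^ 2 ^ 2 = 1 := by
      rw [show 2 ^ 2 = 2 + 2 from rfl, pow_add, sq, hx, neg_mul_neg, one_mul]
    obtain ⟨k, -, hk⟩ := (Nat.dvd_prime_pow Nat.prime_two).1 (orderOf_dvd_of_pow_eq_one hx4)
    exact IsPGroup.of_card (n := k) (by rw [Nat.card_zpowers, hk])
  have hnorm : Subgroup.zpowers j ≤ Subgroup.normalizer (Subgroup.zpowers i : Set SL(2, F)) := by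
    rw [Subgroup.zpowers_le]
    refine Subgroup.mem_normalizer_fintype ?_
    rintro _ ⟨l, rfl⟩
    refine ⟨-l, ?_⟩
    show i ^ (-l) = j * i ^ l * j⁻¹
    rw [← conj_zpow, hij, neg_mul, mul_assoc, h.inv_right, _root_.zpow_neg, ← _root_.inv_zpow, h.inv_left,
      mul_neg j j, hj, neg_neg, mul_one]
  obtain ⟨Q, hQ⟩ :=
    (IsPGroup.to_sup_of_normal_left' (h4 i hi) (h4 j hj) hnorm).exists_le_sylow
  exact ⟨Q, i, j, h, hQ (Subgroup.mem_sup_left (Subgroup.mem_zpowers _)),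
    hQ (Subgroup.mem_sup_right (Subgroup.mem_zpowers _))⟩

theorem mem_of_two_element {Q : Sylow 2 SL(2, F)} {g : SL(2, F)}
    (hg : g ∈ Subgroup.normalizer ((Q : Subgroup SL(2, F)) : Set SL(2, F)))
    (h : ∃ k : ℕ, orderOf g = 2 ^ k) : g ∈ (Q : Subgroup SL(2, F)) := by
  obtain ⟨k, hk⟩ := h
  have h1 : IsPGroup 2 (Subgroup.zpowers g) := IsPGroup.of_card (by rw [Nat.card_zpowers, hk])
  rw [← Q.is_maximal' (h1.to_sup_of_normal_right' Q.isPGroup' (Subgroup.zpowers_le.2 hg))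
    le_sup_right]
  exact Subgroup.mem_sup_left (Subgroup.mem_zpowers _)

/-- For quaternion Sylow subgroups of order at least 16 the Sylow subgroup is self-normalizing. -/
theorem mem_of_normalizer (hodd : Odd (Fintype.card F)) {Q : Sylow 2 SL(2, F)} {i j : SL(2, F)}
    (h : Anti i j) (hi : i ∈ (Q : Subgroup SL(2, F))) (hj : j ∈ (Q : Subgroup SL(2, F)))
    (h16 : 16 ≤ Nat.card (Q : Subgroup SL(2, F))) {g : SL(2, F)}
    (hg : g ∈ Subgroup.normalizer ((Q : Subgroup SL(2, F)) : Set SL(2, F))) :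
    g ∈ (Q : Subgroup SL(2, F)) := by
  have : Fact (Nat.Prime 2) := ⟨Nat.prime_two⟩
  have h2 : (2 : F) ≠ 0 := Linear.two_ne_zero_of_odd hodd
  obtain ⟨m, hm, ⟨e⟩⟩ := Linear.sylow_two_quaternion hodd Q
  have : NeZero (2 ^ m) := ⟨pow_ne_zero _ two_ne_zero⟩
  have hcard : Nat.card (Q : Subgroup SL(2, F)) = 2 ^ (m + 2) := by
    rw [Nat.card_congr e.toEquiv, Nat.card_eq_fintype_card, QuaternionGroup.card]
    ring
  have hm2 : 2 ≤ m := by
    by_contra hlt
    have : m = 1 := by omega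
    subst this
    rw [hcard] at h16
    norm_num at h16
  let X : (Q : Subgroup SL(2, F)) := e.symm (QuaternionGroup.a 1)
  have hX : orderOf X = 2 ^ (m + 1) := by
    rw [MulEquiv.orderOf_eq, QuaternionGroup.orderOf_a_one, pow_succ, mul_comm]
  have hY : e.symm (QuaternionGroup.xa 0) ∉ Subgroup.zpowers X := by
    intro hmem
    have := Subgroup.mem_map_of_mem e.toMonoidHom hmem
    rw [MonoidHom.map_zpowers] at this
    simp only [X, MulEquiv.coe_toMonoidHom, MulEquiv.apply_symm_apply] at this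
    obtain ⟨k, hk⟩ := mem_zpowers_iff_mem_range_orderOf.1 this |> Finset.mem_image.1
    simp [QuaternionGroup.a_one_pow] at hk
  have haut : IsPGroup 2 (MulAut (Q : Subgroup SL(2, F))) := by
    refine Cfsg.Agent.S3116.aut_two_group hX hY (by rw [hcard]) fun x hx => ?_
    have hd : 4 ∣ 2 ^ (m + 1 - 1) := by
      rw [Nat.add_sub_cancel]; exact pow_dvd_pow 2 hm2
    obtain ⟨c, hc⟩ := hd
    rw [hc, pow_mul]
    suffices x ^ 4 = 1 by rw [this, one_pow]
    cases hcase : e x with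
    | xa l =>
      apply e.injective
      have h4 := pow_orderOf_eq_one (QuaternionGroup.xa l)
      rw [QuaternionGroup.orderOf_xa] at h4
      rw [map_pow, hcase, h4, map_one]
    | a l =>
      refine absurd ⟨(l.val : ℤ), ?_⟩ hx
      apply e.injective
      show e (X ^ (l.val : ℤ)) = e x
      rw [zpow_natCast, map_pow, hcase, MulEquiv.apply_symm_apply, QuaternionGroup.a_one_pow,
        ZMod.natCast_zmod_val]
  obtain ⟨k, hk⟩ := haut ((Q : Subgroup SL(2, F)).normalizerMonoidHom ⟨g, hg⟩)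
  have hc : ∀ x ∈ (Q : Subgroup SL(2, F)), g ^ 2 ^ k * x = x * g ^ 2 ^ k := fun x hx => by
    rw [← map_pow] at hk
    have h1 : g ^ 2 ^ k * x * (g ^ 2 ^ k)⁻¹ = x :=
      congrArg Subtype.val (DFunLike.congr_fun hk (⟨x, hx⟩ : (Q : Subgroup SL(2, F))))
    exact mul_inv_eq_iff_eq_mul.1 h1
  refine mem_of_two_element hg ?_
  obtain ⟨l, -, hl⟩ := (Nat.dvd_prime_pow Nat.prime_two).1
    (orderOf_dvd_of_pow_eq_one (show g ^ 2 ^ (k + 1) = 1 by
      rw [pow_succ, pow_mul]
      rcases h.eq_one_or h2 (hc i hi) (hc j hj) with h' | h'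
      · rw [h', one_pow]
      · rw [h', neg_one_sq]))
  exact ⟨l, hl⟩

section card8

variable {Q : Sylow 2 SL(2, F)} {i j : SL(2, F)}

theorem not_commute (hodd : Odd (Fintype.card F)) (h : Anti i j) : i * j ≠ j * i := by
  intro hc
  rw [h.ji] at hc
  have := congrArg (fun x : SL(2, F) => x.1) hc
  simp only [Matrix.SpecialLinearGroup.coe_neg, Matrix.SpecialLinearGroup.coe_mul] at this
  have h0 : (2 : F) • (i.1 * j.1) = 0 := by
    rw [two_smul]; nth_rewrite 1 [this]; exact neg_add_cancel _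
  have h1 : i.1 * j.1 = 0 := (smul_eq_zero.1 h0).resolve_left (Linear.two_ne_zero_of_odd hodd)
  have := congrArg Matrix.det h1
  simp at this

theorem mem_cases (hodd : Odd (Fintype.card F)) (h : Anti i j) (hi : i ∈ (Q : Subgroup SL(2, F)))
    (hj : j ∈ (Q : Subgroup SL(2, F))) (h8 : Nat.card (Q : Subgroup SL(2, F)) = 8)
    {x : SL(2, F)} (hx : x ∈ (Q : Subgroup SL(2, F))) :
    (x = 1 ∨ x = -1) ∨ (x = i ∨ x = -i) ∨ (x = j ∨ x = -j) ∨ (x = i * j ∨ x = -(i * j)) := by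
  classical
  have hi2 : i ^ 2 ≠ 1 := by rw [sq, h.ii]; exact Linear.neg_one_ne_one hodd
  have hoi : orderOf i = 4 := by
    show orderOf i = 2 ^ (1 + 1)
    have : Fact (Nat.Prime 2) := ⟨Nat.prime_two⟩
    refine orderOf_eq_prime_pow (by rwa [pow_one]) ?_
    rw [show 2 ^ (1 + 1) = 2 * 2 from rfl, pow_mul, sq i, h.ii, neg_one_sq]
  let I : (Q : Subgroup SL(2, F)) := ⟨i, hi⟩
  have hoI : orderOf I = 4 := by rw [← Subgroup.orderOf_coe]; exact hoi
  have hidx : (Subgroup.zpowers I).index = 2 := by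
    have := Subgroup.card_mul_index (Subgroup.zpowers I)
    rw [Nat.card_zpowers, hoI, h8] at this
    omega
  have hz : ∀ y : (Q : Subgroup SL(2, F)), y ∈ Subgroup.zpowers I →
      (y.1 = 1 ∨ y.1 = -1) ∨ (y.1 = i ∨ y.1 = -i) := by
    intro y hy
    obtain ⟨k, hk, rfl⟩ := Finset.mem_image.1 (mem_zpowers_iff_mem_range_orderOf.1 hy)
    rw [Finset.mem_range, hoI] at hk
    rw [Subgroup.coe_pow]
    interval_cases k
    · simp
    · simp [I]
    · left; right; show i ^ 2 = -1; rw [sq, h.ii]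
    · right; right; show i ^ 3 = -i; rw [pow_succ, sq, h.ii, neg_mul, one_mul]
  have hJ : (⟨j, hj⟩ : (Q : Subgroup SL(2, F))) ∉ Subgroup.zpowers I := by
    rintro ⟨k, hk⟩
    have hk' : i ^ k = j := congrArg Subtype.val hk
    exact not_commute hodd h (hk' ▸ (Commute.zpow_right rfl k : Commute i (i ^ k)).eq)
  by_cases hmem : (⟨x, hx⟩ : (Q : Subgroup SL(2, F))) ∈ Subgroup.zpowers I
  · rcases hz _ hmem with h' | h'
    · exact Or.inl h'
    · exact Or.inr (Or.inl h')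
  · have h3 : (⟨x, hx⟩ * ⟨j, hj⟩⁻¹ : (Q : Subgroup SL(2, F))) ∈ Subgroup.zpowers I :=
      (Subgroup.mul_mem_iff_of_index_two hidx).2 (by simp [hmem, hJ])
    have e : ∀ c, x * j⁻¹ = c → x = c * j := fun c hc => by rw [← hc, inv_mul_cancel_right]
    rcases hz _ h3 with (h' | h') | (h' | h')
    · exact Or.inr (Or.inr (Or.inl (Or.inl (by rw [e _ h', one_mul]))))
    · exact Or.inr (Or.inr (Or.inl (Or.inr (by rw [e _ h', neg_mul, one_mul]))))
    · exact Or.inr (Or.inr (Or.inr (Or.inl (e _ h'))))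
    · exact Or.inr (Or.inr (Or.inr (Or.inr (by rw [e _ h', neg_mul]))))

theorem conj_pm (hodd : Odd (Fintype.card F)) (h : Anti i j) (hi : i ∈ (Q : Subgroup SL(2, F)))
    (hj : j ∈ (Q : Subgroup SL(2, F))) (h8 : Nat.card (Q : Subgroup SL(2, F)) = 8)
    {x y : SL(2, F)} (hx : x ∈ (Q : Subgroup SL(2, F))) (hy : y ∈ (Q : Subgroup SL(2, F))) :
    (x * y * x⁻¹ = y ∨ x * y * x⁻¹ = -y) ∧ (x⁻¹ = x ∨ x⁻¹ = -x) := by
  have h' := h.mul_pair
  have hk : i * (i * j) = -(i * j * i) := by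
    rw [mul_assoc i j i, h.ji, mul_neg, neg_neg]
  have pm : ∀ a b : SL(2, F), a * b = b * a ∨ a * b = -(b * a) →
      a * b * a⁻¹ = b ∨ a * b * a⁻¹ = -b := by
    rintro a b (e | e)
    · exact Or.inl (by rw [e, mul_inv_cancel_right])
    · exact Or.inr (by rw [e, neg_mul, mul_inv_cancel_right])
  refine ⟨pm x y ?_, ?_⟩
  · rcases mem_cases hodd h hi hj h8 hx with (rfl | rfl) | (rfl | rfl) | (rfl | rfl) | (rfl | rfl) <;>
    rcases mem_cases hodd h hi hj h8 hy with (rfl | rfl) | (rfl | rfl) | (rfl | rfl) | (rfl | rfl) <;>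
    simp [h.ji, h'.ji, hk]
  · rcases mem_cases hodd h hi hj h8 hx with (rfl | rfl) | (rfl | rfl) | (rfl | rfl) | (rfl | rfl)
    · simp
    · left; rw [inv_eq_iff_mul_eq_one]; simp
    · exact Or.inr h.inv_left
    · right; rw [inv_neg, h.inv_left]
    · exact Or.inr h.inv_right
    · right; rw [inv_neg, h.inv_right]
    · exact Or.inr h'.inv_right
    · right; rw [inv_neg, h'.inv_right]

omit [Fintype F] in
theorem Anti.swap_identities (h : Anti i j) :
    (i.1 + j.1) * i.1 = j.1 * (i.1 + j.1) ∧ (i.1 + j.1) * j.1 = i.1 * (i.1 + j.1) ∧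
      (i.1 + j.1) * (i.1 * j.1) = -(i.1 * j.1) * (i.1 + j.1) := by
  obtain ⟨hii, hjj, hji⟩ := h.mat
  refine ⟨?_, ?_, ?_⟩
  · rw [add_mul, mul_add, hii, hjj, hji]; abel
  · rw [add_mul, mul_add, hii, hjj]; abel
  · have k1 : i.1 * (i.1 * j.1) = -j.1 := by rw [← mul_assoc, hii, neg_mul, one_mul]
    have k2 : j.1 * (i.1 * j.1) = i.1 := by
      rw [← mul_assoc, hji, neg_mul, mul_assoc, hjj, mul_neg, mul_one, neg_neg]
    have k3 : i.1 * j.1 * i.1 = j.1 := by rw [mul_assoc, hji, mul_neg, k1, neg_neg]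
    have k4 : i.1 * j.1 * j.1 = -i.1 := by rw [mul_assoc, hjj, mul_neg, mul_one]
    rw [add_mul, mul_add, neg_mul, neg_mul, k1, k2, k3, k4]
    abel

/-- The element of order 3 permuting `i`, `j`, `ij` cyclically up to signs. -/
theorem exists_three_cycle (hodd : Odd (Fintype.card F)) (h : Anti i j) :
    ∃ g : SL(2, F), g.1 = (1 / 2 : F) • ((i.1 + j.1) * (j.1 + i.1 * j.1)) ∧
      g * i * g⁻¹ = -j ∧ g * j * g⁻¹ = -(i * j) := by
  have h2 := Linear.two_ne_zero_of_odd hodd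
  have h' := h.mul_pair
  have hd : ((1 / 2 : F) • ((i.1 + j.1) * (j.1 + i.1 * j.1))).det = 1 := by
    have := h'.det_add h2
    rw [Matrix.SpecialLinearGroup.coe_mul] at this
    rw [Matrix.det_smul, Matrix.det_mul, h.det_add h2, this, Fintype.card_fin]
    field_simp
  let g : SL(2, F) := ⟨_, hd⟩
  have hg : g.1 = (1 / 2 : F) • ((i.1 + j.1) * (j.1 + i.1 * j.1)) := rfl
  obtain ⟨-, a2, a3⟩ := h.swap_identities
  obtain ⟨b1, -, b3⟩ := h'.swap_identities
  rw [Matrix.SpecialLinearGroup.coe_mul] at b1 b3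
  obtain ⟨hii, hjj, hji⟩ := h.mat
  have hji2 : j.1 * (i.1 * j.1) = i.1 := by
    rw [← mul_assoc, hji, neg_mul, mul_assoc, hjj, mul_neg, mul_one, neg_neg]
  rw [hji2] at b3
  obtain ⟨a1, -, -⟩ := h.swap_identities
  have key : g.1 * i.1 = -j.1 * g.1 ∧ g.1 * j.1 = -(i.1 * j.1) * g.1 := by
    constructor
    · rw [hg, smul_mul_assoc, mul_smul_comm, mul_assoc, b3, neg_mul, mul_neg, ← mul_assoc, a1,
        mul_assoc, neg_mul]
    · rw [hg, smul_mul_assoc, mul_smul_comm, mul_assoc, b1, ← mul_assoc, a3, mul_assoc]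
  refine ⟨g, hg, ?_, ?_⟩
  · rw [mul_inv_eq_iff_eq_mul]
    exact Subtype.ext (by
      rw [Matrix.SpecialLinearGroup.coe_mul, Matrix.SpecialLinearGroup.coe_mul,
        Matrix.SpecialLinearGroup.coe_neg, key.1])
  · rw [mul_inv_eq_iff_eq_mul]
    exact Subtype.ext (by
      rw [Matrix.SpecialLinearGroup.coe_mul, Matrix.SpecialLinearGroup.coe_mul,
        Matrix.SpecialLinearGroup.coe_neg, Matrix.SpecialLinearGroup.coe_mul, key.2])

theorem three_cycle_mem_normalizer (hodd : Odd (Fintype.card F)) (h : Anti i j)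
    (hi : i ∈ (Q : Subgroup SL(2, F))) (hj : j ∈ (Q : Subgroup SL(2, F)))
    (h8 : Nat.card (Q : Subgroup SL(2, F)) = 8) {g : SL(2, F)} (hgi : g * i * g⁻¹ = -j)
    (hgj : g * j * g⁻¹ = -(i * j)) :
    g ∈ Subgroup.normalizer ((Q : Subgroup SL(2, F)) : Set SL(2, F)) := by
  have hm1 : (-1 : SL(2, F)) ∈ (Q : Subgroup SL(2, F)) := h.ii ▸ mul_mem hi hi
  have hneg : ∀ x ∈ (Q : Subgroup SL(2, F)), -x ∈ (Q : Subgroup SL(2, F)) := fun x hx => by
    have := mul_mem hm1 hx
    rwa [neg_mul, one_mul] at this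
  refine Subgroup.mem_normalizer_fintype fun x hx => ?_
  rw [SetLike.mem_coe] at hx ⊢
  have hgij : g * (i * j) * g⁻¹ ∈ (Q : Subgroup SL(2, F)) := by
    rw [show g * (i * j) * g⁻¹ = (g * i * g⁻¹) * (g * j * g⁻¹) by simp [mul_assoc], hgi, hgj]
    exact mul_mem (hneg _ hj) (hneg _ (mul_mem hi hj))
  have hneg' : ∀ y, g * y * g⁻¹ ∈ (Q : Subgroup SL(2, F)) →
      g * -y * g⁻¹ ∈ (Q : Subgroup SL(2, F)) := fun y hy => by
    rw [mul_neg, neg_mul]; exact hneg _ hy
  have h1 : g * 1 * g⁻¹ ∈ (Q : Subgroup SL(2, F)) := by simp [one_mem]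
  rcases mem_cases hodd h hi hj h8 hx with (rfl | rfl) | (rfl | rfl) | (rfl | rfl) | (rfl | rfl)
  · exact h1
  · exact hneg' _ h1
  · rw [hgi]; exact hneg _ hj
  · exact hneg' _ (by rw [hgi]; exact hneg _ hj)
  · rw [hgj]; exact hneg _ (mul_mem hi hj)
  · exact hneg' _ (by rw [hgj]; exact hneg _ (mul_mem hi hj))
  · exact hgij
  · exact hneg' _ hgij

/-- The normalizer of a Sylow subgroup of order 8 is generated by it and a three-cycle. -/
theorem normalizer_cases (hodd : Odd (Fintype.card F)) (h : Anti i j)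
    (hi : i ∈ (Q : Subgroup SL(2, F))) (hj : j ∈ (Q : Subgroup SL(2, F)))
    (h8 : Nat.card (Q : Subgroup SL(2, F)) = 8) {g₀ : SL(2, F)} (hgi : g₀ * i * g₀⁻¹ = -j)
    (hgj : g₀ * j * g₀⁻¹ = -(i * j)) {g : SL(2, F)}
    (hg : g ∈ Subgroup.normalizer ((Q : Subgroup SL(2, F)) : Set SL(2, F))) :
    ∃ e : ℕ, ∃ c ∈ (Q : Subgroup SL(2, F)), g = g₀ ^ e * c := by
  have h2 := Linear.two_ne_zero_of_odd hodd
  have hg₀ := three_cycle_mem_normalizer hodd h hi hj h8 hgi hgj
  have hne := Linear.neg_one_ne_one (F := F) hodd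
  have hi1 : i ≠ 1 ∧ i ≠ -1 := ⟨fun e => not_commute hodd h (by rw [e]; simp),
    fun e => not_commute hodd h (by rw [e]; simp)⟩
  have hgim : g * i * g⁻¹ ∈ (Q : Subgroup SL(2, F)) := (Subgroup.mem_normalizer_iff.1 hg i).1 hi
  have hk : g₀ * g₀ * i * (g₀ * g₀)⁻¹ = i * j := by
    rw [show g₀ * g₀ * i * (g₀ * g₀)⁻¹ = g₀ * (g₀ * i * g₀⁻¹) * g₀⁻¹ by simp [mul_assoc],
      hgi, mul_neg, neg_mul, hgj, neg_neg]
  obtain ⟨e, he⟩ : ∃ e : ℕ, g * i * g⁻¹ = g₀ ^ e * i * (g₀ ^ e)⁻¹ ∨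
      g * i * g⁻¹ = -(g₀ ^ e * i * (g₀ ^ e)⁻¹) := by
    rcases mem_cases hodd h hi hj h8 hgim with (e' | e') | e' | (e' | e') | e'
    · exact absurd (by simpa [mul_assoc] using congrArg (fun x => g⁻¹ * x * g) e' : i = 1) hi1.1
    · exact absurd (by simpa [mul_assoc] using congrArg (fun x => g⁻¹ * x * g) e' : i = -1) hi1.2
    · refine ⟨0, ?_⟩
      simpa using e'
    · exact ⟨1, Or.inr (by rw [pow_one, hgi, neg_neg, e'])⟩
    · exact ⟨1, Or.inl (by rw [pow_one, hgi, e'])⟩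
    · exact ⟨2, by rwa [sq, hk]⟩
  set c := (g₀ ^ e)⁻¹ * g with hc
  refine ⟨e, c, ?_, by rw [hc, mul_inv_cancel_left]⟩
  have hcN : c ∈ Subgroup.normalizer ((Q : Subgroup SL(2, F)) : Set SL(2, F)) :=
    mul_mem (inv_mem (pow_mem hg₀ e)) hg
  have hci : c * i * c⁻¹ = i ∨ c * i * c⁻¹ = -i := by
    rcases he with he | he
    · left
      rw [hc, show (g₀ ^ e)⁻¹ * g * i * ((g₀ ^ e)⁻¹ * g)⁻¹ =
        (g₀ ^ e)⁻¹ * (g * i * g⁻¹) * g₀ ^ e by simp [mul_assoc], he]
      simp [mul_assoc]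
    · right
      rw [hc, show (g₀ ^ e)⁻¹ * g * i * ((g₀ ^ e)⁻¹ * g)⁻¹ =
        (g₀ ^ e)⁻¹ * (g * i * g⁻¹) * g₀ ^ e by simp [mul_assoc], he]
      simp [mul_assoc]
  have hneg : ∀ x y, c * x * c⁻¹ = y → c * -x * c⁻¹ = -y := fun x y e => by
    rw [mul_neg, neg_mul, e]
  have hnot : ¬ (c * j * c⁻¹ = i * j ∨ c * j * c⁻¹ = -(i * j)) := by
    intro hjk
    -- an odd power of `c` swaps the two pairs, yet lies in `Q`
    have hck : c * (i * j) * c⁻¹ = j ∨ c * (i * j) * c⁻¹ = -j := by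
      have hmul : c * (i * j) * c⁻¹ = (c * i * c⁻¹) * (c * j * c⁻¹) := by simp [mul_assoc]
      rw [hmul]
      have hii' : i * (i * j) = -j := by rw [← mul_assoc, h.ii, neg_mul, one_mul]
      rcases hci with a | a <;> rcases hjk with b | b <;> simp [a, b, hii']
    have hodd' : ∀ l : ℕ, c ^ (2 * l + 1) * j * (c ^ (2 * l + 1))⁻¹ = i * j ∨
        c ^ (2 * l + 1) * j * (c ^ (2 * l + 1))⁻¹ = -(i * j) := by
      intro l
      induction l with
      | zero => simpa using hjk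
      | succ l ih =>
        rw [show c ^ (2 * (l + 1) + 1) * j * (c ^ (2 * (l + 1) + 1))⁻¹ =
          c * (c * (c ^ (2 * l + 1) * j * (c ^ (2 * l + 1))⁻¹) * c⁻¹) * c⁻¹ by
            rw [show 2 * (l + 1) + 1 = (2 * l + 1) + 1 + 1 by ring, pow_succ', pow_succ']
            simp [mul_assoc]]
        rcases ih with a | a <;> rw [a] <;> rcases hck with b | b <;> rcases hjk with d | d <;>
          simp [b, d]
    obtain ⟨a, o, ho, hao⟩ := Nat.exists_eq_pow_mul_and_not_dvd (orderOf_pos c).ne' 2 (by norm_num)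
    obtain ⟨l, rfl⟩ : Odd o := Nat.not_even_iff_odd.1 fun he => ho he.two_dvd
    have hmem : c ^ (2 * l + 1) ∈ (Q : Subgroup SL(2, F)) := by
      refine mem_of_two_element (pow_mem hcN _) ?_
      obtain ⟨b, -, hb⟩ := (Nat.dvd_prime_pow Nat.prime_two).1
        (orderOf_dvd_of_pow_eq_one (show (c ^ (2 * l + 1)) ^ 2 ^ a = 1 by
          rw [← pow_mul, mul_comm, ← hao, pow_orderOf_eq_one]))
      exact ⟨b, hb⟩
    have hjne : i * j ≠ j ∧ i * j ≠ -j := ⟨fun e => hi1.1 (mul_eq_right.1 e),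
      fun e => hi1.2 (mul_right_cancel (b := j) (by rw [e, neg_mul, one_mul]))⟩
    rcases (conj_pm hodd h hi hj h8 hmem hj).1 with e1 | e1 <;> rcases hodd' l with e2 | e2 <;>
      rw [e1] at e2
    · exact hjne.1 e2.symm
    · exact hjne.2 (neg_eq_iff_eq_neg.1 e2.symm)
    · exact hjne.2 e2.symm
    · exact hjne.1 (neg_injective e2).symm
  have hcj : c * j * c⁻¹ = j ∨ c * j * c⁻¹ = -j := by
    rcases mem_cases hodd h hi hj h8 ((Subgroup.mem_normalizer_iff.1 hcN j).1 hj) with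
      (e' | e') | (e' | e') | e' | e'
    · exact absurd (by simpa [mul_assoc] using congrArg (fun x => c⁻¹ * x * c) e' : j = 1)
        (fun e => not_commute hodd h (by rw [e]; simp))
    · exact absurd (by simpa [mul_assoc] using congrArg (fun x => c⁻¹ * x * c) e' : j = -1)
        (fun e => not_commute hodd h (by rw [e]; simp))
    · exfalso
      rcases hci with a | a
      · have := mul_left_cancel (mul_right_cancel (e'.trans a.symm))
        exact not_commute hodd h (by rw [this])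
      · have := mul_left_cancel (mul_right_cancel
          (e'.trans (show i = c * -i * c⁻¹ by rw [hneg i _ a, neg_neg])))
        exact not_commute hodd h (by rw [this]; simp)
    · exfalso
      rcases hci with a | a
      · have := mul_left_cancel (mul_right_cancel (e'.trans (hneg i _ a).symm))
        exact not_commute hodd h (by rw [this]; simp)
      · have := mul_left_cancel (mul_right_cancel (e'.trans a.symm))
        exact not_commute hodd h (by rw [this])
    · exact e'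
    · exact absurd e' hnot
  -- multiply by an element of `Q` to centralise `Q`
  have comm : ∀ d x : SL(2, F), d * x * d⁻¹ = x → d * x = x * d := fun d x e => mul_inv_eq_iff_eq_mul.1 e
  have fin : ∀ d ∈ (Q : Subgroup SL(2, F)), d * c * i * (d * c)⁻¹ = i →
      d * c * j * (d * c)⁻¹ = j → c ∈ (Q : Subgroup SL(2, F)) := by
    intro d hd e1 e2
    have hdc : d * c ∈ (Q : Subgroup SL(2, F)) := by
      rcases h.eq_one_or h2 (comm _ _ e1) (comm _ _ e2) with e | e <;> rw [e]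
      · exact one_mem _
      · exact h.ii ▸ mul_mem hi hi
    simpa using mul_mem (inv_mem hd) hdc
  have exp : ∀ d x : SL(2, F), d * c * x * (d * c)⁻¹ = d * (c * x * c⁻¹) * d⁻¹ := fun d x => by simp [mul_assoc]
  have hij : i * j * i⁻¹ = -j := by
    rw [show i * j = -(j * i) by rw [h.ji, neg_neg], neg_mul, mul_inv_cancel_right]
  have hji : j * i * j⁻¹ = -i := by rw [h.ji, neg_mul, mul_inv_cancel_right]
  rcases hci with a | a <;> rcases hcj with b | b
  · exact fin 1 (one_mem _) (by rw [exp, a]; simp) (by rw [exp, b]; simp)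
  · exact fin i hi (by rw [exp, a]; simp) (by rw [exp, b, mul_neg, neg_mul, hij, neg_neg])
  · exact fin j hj (by rw [exp, a, mul_neg, neg_mul, hji, neg_neg]) (by rw [exp, b]; simp)
  · refine fin (i * j) (mul_mem hi hj) ?_ ?_
    · rw [exp, a, mul_neg, neg_mul,
        show i * j * i * (i * j)⁻¹ = i * (j * i * j⁻¹) * i⁻¹ by simp [mul_assoc], hji]
      simp
    · rw [exp, b, mul_neg, neg_mul,
        show i * j * j * (i * j)⁻¹ = i * (j * j * j⁻¹) * i⁻¹ by simp [mul_assoc],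
        mul_inv_cancel_right, hij, neg_neg]

end card8

end CfsgLib.FusionSub.QuatSL2
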