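import Cfsg.Agent.FusionSub.SmallElements
import Cfsg.Agent.FusionSub.GoodElements
import Cfsg.Agent.Fusion.Hyperfocal
import Cfsg.Agent.BlocksCharsC.PGroupCenter

/-!
Abelian subgroups of small exponent of the hyperfocal subgroup control fusion.
-/

set_option autoImplicit false

namespace CfsgLib.FusionSub

open Cfsg Cfsg.FusionSystem CfsgLib.Fusion

variable {Ω : Type*} [Group Ω] {S : Subgroup Ω} {p : ℕ}

/-- An abelian subgroup all of whose elements are small. -/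
def SmallAb (F : FusionSystem S) (p : ℕ) (A : Subgroup Ω) : Prop :=
  (∀ a ∈ A, IsSmall F p a) ∧ ∀ a ∈ A, ∀ b ∈ A, a * b = b * a

theorem IsSmall.mul {F : FusionSystem S} {a b : Ω} (ha : IsSmall F p a) (hb : IsSmall F p b)
    (hc : Commute a b) : IsSmall F p (a * b) := by
  refine ⟨(F.hyperfocalSubgroup p).mul_mem ha.1 hb.1, ?_⟩
  rcases ha.2 with h1 | ⟨hp, h1⟩
  · rcases hb.2 with h2 | ⟨hp, h2⟩
    · exact Or.inl (by rw [hc.mul_pow, h1, h2, one_mul])
    · subst hp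
      refine Or.inr ⟨rfl, ?_⟩
      rw [hc.mul_pow, h2, show 4 = 2 * 2 from rfl, pow_mul, h1, one_pow, one_mul]
  · subst hp
    refine Or.inr ⟨rfl, ?_⟩
    rcases hb.2 with h2 | ⟨-, h2⟩
    · rw [hc.mul_pow, h1, show 4 = 2 * 2 from rfl, pow_mul, h2, one_pow, one_mul]
    · rw [hc.mul_pow, h1, h2, one_mul]

theorem IsSmall.pow {F : FusionSystem S} {a : Ω} (ha : IsSmall F p a) (k : ℤ) :
    IsSmall F p (a ^ k) := by
  refine ⟨(F.hyperfocalSubgroup p).zpow_mem ha.1 k, ?_⟩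
  have h : ∀ n : ℕ, a ^ n = 1 → (a ^ k) ^ n = 1 := fun n hn => by
    rw [← zpow_natCast, ← zpow_mul, mul_comm, zpow_mul, zpow_natCast, hn, one_zpow]
  exact ha.2.imp (h p) (And.imp_right (h 4))

variable [Finite S] [Fact p.Prime]

theorem IsSmall.map (hS : IsPGroup p S) {F : FusionSystem S} (hF : F.IsSaturated p) {P : Subgroup Ω}
    {φ : P →* Ω} (hφ : φ ∈ F.Hom P) {x : P} (hx : IsSmall F p (x : Ω)) : IsSmall F p (φ x) := by
  refine ⟨FusionClosed.apply_mem_stronglyClosed (stronglyClosed_hyperfocal hS hF) hφ hx.1, ?_⟩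
  have h : ∀ n : ℕ, (x : Ω) ^ n = 1 → φ x ^ n = 1 := fun n hn => by
    rw [← map_pow, show x ^ n = 1 from Subtype.ext (by simpa using hn), map_one]
  exact hx.2.imp (h p) (And.imp_right (h 4))

omit [Finite S] [Fact p.Prime] in
theorem pResidual_mono_hyperfocal {F : FusionSystem S} {T : Subgroup Ω} {C : FusionSystem T}
    (hTS : T ≤ S) (hCF : ∀ P, C.Hom P ⊆ F.Hom P) :
    C.hyperfocalSubgroup p ≤ F.hyperfocalSubgroup p := by
  refine (Subgroup.closure_le _).2 ?_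
  rintro _ ⟨P, α, x, hP, hα, rfl⟩
  have hle : C.autGroup P ≤ F.autGroup P := fun β hβ =>
    (mem_autGroup_iff (hP.trans hTS)).2 (hCF P ((mem_autGroup_iff hP).1 hβ))
  refine Subgroup.subset_closure ⟨P, Subgroup.inclusion hle α, x, hP.trans hTS, ?_, rfl⟩
  have h1 := Subgroup.mem_map_of_mem (Subgroup.inclusion hle) hα
  rw [pResidual, MonoidHom.map_closure] at h1
  refine Subgroup.closure_mono ?_ h1
  rintro _ ⟨g, hg, rfl⟩
  exact Nat.Coprime.coprime_dvd_left (orderOf_map_dvd _ g) hg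

/-- The inductive statement: a map centralising a small abelian subgroup of its source lies in `E`. -/
theorem mem_of_central_smallAb (hS : IsPGroup p S) {E F : FusionSystem S} (hE : E.IsSaturated p)
    (hF : F.IsSaturated p) (hEF : E ≤ F)
    (hAgree : ∀ A : Subgroup Ω, SmallAb F p A → F.Hom A ⊆ E.Hom A) :
    ∀ (d : ℕ) (A : Subgroup Ω), Nat.card S - Nat.card A ≤ d → SmallAb F p A →
      ∀ (P : Subgroup Ω) (φ : P →* Ω), φ ∈ F.Hom P → A ≤ P →
        (∀ a ∈ A, ∀ x ∈ P, a * x = x * a) → φ ∈ E.Hom P := by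
  intro d
  induction d using Nat.strong_induction_on with
  | _ d ih =>
  intro A hd hA P φ hφ hAP hcomm
  have hPS := le_left hφ
  have hAS : A ≤ S := hAP.trans hPS
  obtain ⟨A₀, hconj, hfc⟩ := exists_fullyCentralized (F := F) hAS
  have hfcE : E.IsFullyCentralized A₀ :=
    ⟨hfc.1, fun Q ⟨χ, hχ, hr⟩ => hfc.2 Q ⟨χ, hEF A₀ hχ, hr⟩⟩
  obtain ⟨e₀, he₀F⟩ := isConj_iff.1 hconj
  have hA₀ : SmallAb F p A₀ := by
    refine ⟨fun a ha => ?_, fun a ha b hb => ?_⟩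
    · obtain ⟨u, hu⟩ := e₀.surjective ⟨a, ha⟩
      rw [show a = (e₀ u : Ω) from (congrArg Subtype.val hu).symm]
      exact IsSmall.map hS hF he₀F (hA.1 u u.2)
    · have h := hA.2 (e₀.symm ⟨a, ha⟩) (e₀.symm ⟨a, ha⟩).2 (e₀.symm ⟨b, hb⟩) (e₀.symm ⟨b, hb⟩).2
      have h' : e₀.symm ⟨a, ha⟩ * e₀.symm ⟨b, hb⟩ = e₀.symm ⟨b, hb⟩ * e₀.symm ⟨a, ha⟩ := Subtype.ext h
      rw [← map_mul, ← map_mul] at h'
      exact congrArg Subtype.val (e₀.symm.injective h')
  obtain ⟨C, hC⟩ := exists_isCentralizerSystem F hfc.1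
  obtain ⟨C', hC'⟩ := exists_isCentralizerSystem E hfc.1
  have hTS : centralizerIn S A₀ ≤ S := centralizerIn_le S A₀
  have := finite_of_le hTS
  have hTp : IsPGroup p (centralizerIn S A₀) := hS.to_le hTS
  have hCs := isSaturated_centralizerSystem hS hF hfc hC
  have hC's := isSaturated_centralizerSystem hS hE hfcE hC'
  have hCF : ∀ Q, C.Hom Q ⊆ F.Hom Q := fun Q ψ hψ => by rw [hC Q] at hψ; exact hψ.1
  have hC'C : C' ≤ C := fun Q ψ hψ => by
    rw [hC' Q] at hψ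
    rw [hC Q]
    obtain ⟨h1, h2, h3, χ, hχ, h4, h5⟩ := hψ
    exact ⟨hEF Q h1, h2, h3, χ, hEF _ hχ, h4, h5⟩
  -- maps of `C` fix `A₀`
  have hfixA : ∀ (Q : Subgroup Ω) (ψ : Q →* Ω), ψ ∈ C.Hom Q → ∀ y : Q,
      ((y : Ω) ∈ A₀ ∨ ψ y ∈ A₀) → ψ y = y := by
    intro Q ψ hψ y hy
    rw [hC Q] at hψ
    obtain ⟨-, -, -, χ, hχ, h4, h5⟩ := hψ
    rcases hy with hy | hy
    · rw [← h4, show Subgroup.inclusion (le_sup_left : Q ≤ Q ⊔ A₀) y =
        Subgroup.inclusion (le_sup_right : A₀ ≤ Q ⊔ A₀) ⟨y, hy⟩ from Subtype.ext rfl]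
      exact h5 ⟨y, hy⟩
    · have h6 := F.injective_of_mem hχ ((h4 y).trans (h5 ⟨ψ y, hy⟩).symm)
      exact (congrArg Subtype.val h6).symm
  let good : Ω → Prop := fun x => IsSmall F p x ∧ x ∈ centralizerIn S A₀ ∧ x ∉ A₀
  have hinv : ∀ (Q : Subgroup Ω) (ψ : Q →* Ω), ψ ∈ C.Hom Q → ∀ y : Q, good y → good (ψ y) :=
    fun Q ψ hψ y hy => ⟨IsSmall.map hS hF (hCF Q hψ) hy.1, apply_mem hψ y, fun h =>
      hy.2.2 (hfixA Q ψ hψ y (Or.inr h) ▸ h)⟩
  have hcen : ∀ (Q : Subgroup Ω) (ψ : Q →* Ω), ψ ∈ C.Hom Q → ∀ y : Q, good y →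
      (∀ z : Q, z * y = y * z) → ψ ∈ C'.Hom Q := by
    intro Q ψ hψ y hy hyc
    have hψ' := hψ
    rw [hC Q] at hψ'
    obtain ⟨-, hQT, hψT, χ, hχ, h4, h5⟩ := hψ'
    set B := A₀ ⊔ Subgroup.zpowers (y : Ω) with hB
    have hya : ∀ a ∈ A₀, Commute a (y : Ω) := fun a ha =>
      Subgroup.mem_centralizer_iff.1 hy.2.1.2 a ha
    have hBmem : ∀ b ∈ B, ∃ a ∈ A₀, ∃ k : ℤ, b = a * (y : Ω) ^ k := by
      intro b hb
      have hb' : b ∈ ((A₀ ⊔ Subgroup.zpowers (y : Ω) : Subgroup Ω) : Set Ω) := hb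
      rw [Subgroup.coe_mul_of_left_le_normalizer_right A₀ (Subgroup.zpowers (y : Ω))
        (fun a ha => Subgroup.centralizer_le_normalizer _ (Subgroup.mem_centralizer_iff.2 (by
          rintro _ ⟨k, rfl⟩; exact ((hya a ha).zpow_right k).eq.symm)))] at hb'
      obtain ⟨a, ha, z, ⟨k, rfl⟩, rfl⟩ := hb'
      exact ⟨a, ha, k, rfl⟩
    have hBsmall : SmallAb F p B := by
      refine ⟨fun b hb => ?_, fun b hb b' hb' => ?_⟩
      · obtain ⟨a, ha, k, rfl⟩ := hBmem b hb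
        exact (hA₀.1 a ha).mul (hy.1.pow k) ((hya a ha).zpow_right k)
      · obtain ⟨a, ha, k, rfl⟩ := hBmem b hb
        obtain ⟨a', ha', k', rfl⟩ := hBmem b' hb'
        exact (((show Commute a a' from hA₀.2 a ha a' ha').mul_right ((hya a ha).zpow_right k')).mul_left
          (((hya a' ha').zpow_right k).symm.mul_right (Commute.zpow_zpow_self _ k k'))).eq
    have hBW : B ≤ Q ⊔ A₀ :=
      sup_le le_sup_right (Subgroup.zpowers_le.2 (Subgroup.mem_sup_left y.2))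
    have hlt : Nat.card A < Nat.card B := by
      rw [card_eq_of_isConj hconj]
      have := finite_of_le (hBW.trans (le_left hχ))
      have hlt' : A₀ < B := lt_of_le_of_ne le_sup_left fun h =>
        hy.2.2 (by rw [h]; exact Subgroup.mem_sup_right (Subgroup.mem_zpowers _))
      exact Set.Finite.card_lt_card (Set.toFinite _) hlt'
    have hBS : Nat.card B ≤ Nat.card S := Subgroup.card_le_of_le (hBW.trans (le_left hχ))
    have hcentral : ∀ b ∈ B, ∀ w ∈ Q ⊔ A₀, b * w = w * b := by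
      intro b hb w hw
      obtain ⟨a, ha, k, rfl⟩ := hBmem b hb
      have h1 : Commute a w ∧ Commute (y : Ω) w := by
        have hle : Q ⊔ A₀ ≤ Subgroup.centralizer ({a, (y : Ω)} : Set Ω) := by
          refine sup_le (fun q hq => ?_) fun q hq => ?_ <;> rw [Subgroup.mem_centralizer_iff] <;>
            rintro z (rfl | rfl)
          · exact (Subgroup.mem_centralizer_iff.1 (hQT hq).2 _ ha)
          · exact (congrArg Subtype.val (hyc ⟨q, hq⟩)).symm
          · exact hA₀.2 _ ha q hq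
          · exact (hya q hq).eq.symm
        have h := Subgroup.mem_centralizer_iff.1 (hle hw)
        exact ⟨h a (Or.inl rfl), h (y : Ω) (Or.inr rfl)⟩
      exact (h1.1.mul_left (h1.2.zpow_left k)).eq
    have hχE := ih (Nat.card S - Nat.card B) (by omega) B le_rfl hBsmall _ χ hχ hBW hcentral
    rw [hC' Q]
    exact ⟨mem_congr (restrict_mem hχE le_sup_left) fun z => (h4 z).symm, hQT, hψT, χ, hχE, h4, h5⟩
  have hcov : ∀ Q : Subgroup Ω, C.IsCentric Q → C.IsRadical p Q →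
      C.autGroup Q ≤ C'.autGroup Q ∨ ∃ x : Q, good x ∧ Q ≤ Subgroup.normalizer
        ((Q ⊓ Subgroup.centralizer ({(x : Ω)} : Set Ω) : Subgroup Ω) : Set Ω) := by
    intro Q hQc hQr
    have := finite_of_le hQc.1
    have hQp : IsPGroup p Q := hTp.to_le hQc.1
    obtain ⟨D, hDinv, hDsmall, hDdet⟩ := exists_detect (F := C) hTp hQc.1
    have hsmall : ∀ d ∈ D, IsSmall F p (d : Ω) := fun d hd =>
      ⟨pResidual_mono_hyperfocal hTS hCF (hDsmall d hd).1, (hDsmall d hd).2⟩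
    by_cases hDA : ∀ d ∈ D, (d : Ω) ∈ A₀
    · left
      have htop : IsPGroup p (⊤ : Subgroup (C.autGroup Q)) :=
        FusionClosed.isPGroup_of_coprime_trivial fun a _ hcop =>
          Subtype.ext (hDdet a a.2 (by rwa [Subgroup.orderOf_coe]) fun d hd => Subtype.ext
            (hfixA Q _ ((mem_autGroup_iff hQc.1).1 a.2) d (Or.inl (hDA d hd))))
      intro α hα
      exact Inn_le_autGroup hQc.1 (mem_Inn_of_normal_pGroup hQr inferInstance htop
        (α := ⟨α, hα⟩) trivial)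
    · right
      push Not at hDA
      obtain ⟨d₁, hd₁, hd₁A⟩ := hDA
      have hDn : D.Normal := ⟨fun d hd q => hDinv _ (Inn_le_autGroup hQc.1 ⟨q, rfl⟩) d hd⟩
      have hcA : ∀ q : Q, ∀ a ∈ A₀, (q : Ω) * a = a * q := fun q a ha =>
        (Subgroup.mem_centralizer_iff.1 (hQc.1 q.2).2 a ha).symm
      let K : Subgroup Q := D ⊓ A₀.subgroupOf Q
      have hKn : K.Normal := ⟨fun k hk q => by
        have h1 : q * k * q⁻¹ = k := Subtype.ext (by
          show (q : Ω) * k * (q : Ω)⁻¹ = k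
          rw [hcA q k hk.2, mul_inv_cancel_right])
        rwa [h1]⟩
      have hMn : (D.map (QuotientGroup.mk' K)).Normal :=
        hDn.map _ (QuotientGroup.mk'_surjective K)
      have hMnt : Nontrivial (D.map (QuotientGroup.mk' K)) := by
        rw [Subgroup.nontrivial_iff_ne_bot]
        intro h
        rw [Subgroup.map_eq_bot_iff, QuotientGroup.ker_mk'] at h
        exact hd₁A (Subgroup.mem_subgroupOf.1 (h hd₁).2)
      obtain ⟨yb, ⟨⟨x, hxD, rfl⟩, hxc⟩, hx1⟩ := BlocksCharsC.exists_mem_ne_one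
        (BlocksCharsC.inf_center_ne_bot (hQp.to_quotient K) (D.map (QuotientGroup.mk' K)))
      have hxA : (x : Ω) ∉ A₀ := fun h =>
        hx1 ((QuotientGroup.eq_one_iff x).2 ⟨hxD, Subgroup.mem_subgroupOf.2 h⟩)
      refine ⟨x, ⟨hsmall x hxD, hQc.1 x.2, hxA⟩, fun q hq => ?_⟩
      have hqx : (x : Ω)⁻¹ * q⁻¹ * x * q ∈ A₀ := by
        have h1 := Subgroup.mem_center_iff.1 hxc (QuotientGroup.mk' K ⟨q, hq⟩)
        rw [← map_mul, ← map_mul, QuotientGroup.mk'_eq_mk'] at h1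
        obtain ⟨k, hk, hqk⟩ := h1
        have h2 : k = (⟨q, hq⟩ * x)⁻¹ * (x * ⟨q, hq⟩) := by rw [← hqk, inv_mul_cancel_left]
        have h3 := Subgroup.mem_subgroupOf.1 hk.2
        rw [h2] at h3
        simpa [mul_assoc] using h3
      have hRfin := finite_of_le ((inf_le_left : Q ⊓ Subgroup.centralizer ({(x : Ω)} : Set Ω) ≤ Q).trans
        hQc.1)
      refine Subgroup.mem_normalizer_fintype fun r hr => ?_
      refine ⟨Q.mul_mem (Q.mul_mem hq hr.1) (Q.inv_mem hq), Subgroup.mem_centralizer_iff.2 ?_⟩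
      rintro z rfl
      have hrx : (x : Ω) * r = r * x := Subgroup.mem_centralizer_iff.1 hr.2 x rfl
      obtain ⟨c, hcA', hc⟩ : ∃ c ∈ A₀, q⁻¹ * (x : Ω) * q = x * c :=
        ⟨_, hqx, by simp [mul_assoc]⟩
      calc (x : Ω) * (q * r * q⁻¹) = q * ((q⁻¹ * (x : Ω) * q) * r) * q⁻¹ := by simp [mul_assoc]
        _ = q * (r * (q⁻¹ * (x : Ω) * q)) * q⁻¹ := by
            congr 2
            rw [hc, mul_assoc, ← hcA ⟨r, hr.1⟩ c hcA', ← mul_assoc, hrx, mul_assoc]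
        _ = q * r * q⁻¹ * (x : Ω) := by simp [mul_assoc]
  have hCC' : C ≤ C' := le_of_good good hTp hCs hC's hC'C hinv hcen hcov
  -- transport to `A₀`
  have hA'S : imgHom φ A ≤ S := imgHom_le hφ A
  obtain ⟨f, hf, hfv⟩ := exists_iso_restrict hφ hAP
  have hA' : SmallAb F p (imgHom φ A) := by
    refine ⟨?_, ?_⟩
    · rintro _ ⟨a, ha, rfl⟩
      exact IsSmall.map hS hF hφ (hA.1 a ha)
    · rintro _ ⟨a, ha, rfl⟩ _ ⟨b, hb, rfl⟩
      rw [← map_mul, ← map_mul]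
      exact congrArg φ (Subtype.ext (hA.2 a ha b hb))
  have he₀ : IsIso E e₀ := hAgree A hA he₀F
  have hf' : IsIso E f := hAgree A hA hf
  have hr₀ := receptive_of_fullyCentralized hS hE hfcE
  obtain ⟨χ, hχ, hχv⟩ := exists_extension (T := centralizerIn S A) hr₀ he₀
    (centralizerIn_le_extender _)
  obtain ⟨χ', hχ', hχ'v⟩ := exists_extension (T := centralizerIn S (imgHom φ A)) hr₀
    (hf'.symm.trans he₀) (centralizerIn_le_extender _)
  have hPC : P ≤ centralizerIn S A := fun x hx =>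
    mem_centralizerIn.2 ⟨hPS hx, fun z hz => hcomm z hz x hx⟩
  have hAC : A ≤ centralizerIn S A := fun z hz => hPC (hAP hz)
  have hrC : φ.range ≤ centralizerIn S (imgHom φ A) := by
    rintro _ ⟨x, rfl⟩
    refine mem_centralizerIn.2 ⟨apply_mem hφ x, ?_⟩
    rintro _ ⟨z, hz, rfl⟩
    rw [← map_mul, ← map_mul]
    exact congrArg φ (Subtype.ext (hcomm z hz x x.2))
  obtain ⟨g, hg, hgv⟩ := exists_iso_range hφ
  obtain ⟨a, ha, hav⟩ := exists_iso_restrict hχ hPC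
  obtain ⟨b, hb, hbv⟩ := exists_iso_restrict hχ' hrC
  let θ := (a.symm.trans g).trans b
  have hθF : IsIso F θ := ((IsIso.symm (hEF _ ha)).trans hg).trans (hEF _ hb)
  have hfix : ∀ y : imgHom χ P, (y : Ω) ∈ A₀ → (θ y : Ω) = y := by
    intro y hy
    have hz : (a (⟨(e₀.symm ⟨y, hy⟩ : A), hAP (e₀.symm ⟨y, hy⟩).2⟩) : Ω) = y := by
      rw [hav, hχv (e₀.symm ⟨y, hy⟩) (hAC (e₀.symm ⟨y, hy⟩).2), MulEquiv.apply_symm_apply]
    have hy' : a.symm y = ⟨(e₀.symm ⟨y, hy⟩ : A), hAP (e₀.symm ⟨y, hy⟩).2⟩ :=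
      (MulEquiv.symm_apply_eq a).2 (Subtype.ext hz.symm)
    simp only [θ, MulEquiv.trans_apply, hy', hbv]
    have h1 : (g ⟨(e₀.symm ⟨y, hy⟩ : A), hAP (e₀.symm ⟨y, hy⟩).2⟩ : Ω) =
        (f (e₀.symm ⟨y, hy⟩) : Ω) := by rw [hgv, hfv]
    have h2 := hχ'v (f (e₀.symm ⟨y, hy⟩)) (hrC (h1 ▸ (g _).2))
    refine (congrArg χ' (Subtype.ext h1)).trans (h2.trans ?_)
    simp
  have hA₀le : A₀ ≤ imgHom χ P := by
    intro y hy
    refine ⟨⟨(e₀.symm ⟨y, hy⟩ : A), hAC (e₀.symm ⟨y, hy⟩).2⟩, hAP (e₀.symm ⟨y, hy⟩).2, ?_⟩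
    rw [hχv (e₀.symm ⟨y, hy⟩) (hAC (e₀.symm ⟨y, hy⟩).2), MulEquiv.apply_symm_apply]
  have hcent : ∀ (R T : Subgroup Ω) (ξ : T →* Ω), ξ ∈ E.Hom T → imgHom ξ R = A₀ → R ≤ T →
      (∀ x : T, (x : Ω) ∈ Subgroup.centralizer (R : Set Ω)) →
      ∀ x : T, ξ x ∈ centralizerIn S A₀ := by
    intro R T ξ hξ himg hRT hc x
    refine ⟨apply_mem hξ x, ?_⟩
    have := map_mem_centralizer (ψ := ξ) hRT (g := x) (hc x)
    rwa [himg] at this
  have hle₁ : imgHom χ P ≤ centralizerIn S A₀ := by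
    rintro _ ⟨x, -, rfl⟩
    exact hcent A _ χ hχ (imgHom_eq_of_agree hAC hχv) hAC (fun x => x.2.2) x
  have hle₂ : ∀ y : imgHom χ P, (θ y : Ω) ∈ centralizerIn S A₀ := by
    intro y
    obtain ⟨x, -, hx⟩ := (θ y).2
    rw [← hx]
    exact hcent (imgHom φ A) _ χ' hχ'
      (imgHom_eq_of_agree ((imgHom_le_range φ A).trans hrC) hχ'v)
      ((imgHom_le_range φ A).trans hrC) (fun x => x.2.2) x
  have hθC : (imgHom χ' φ.range).subtype.comp θ.toMonoidHom ∈ C.Hom (imgHom χ P) := by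
    rw [hC]
    refine ⟨hθF, hle₁, hle₂, _, restrict_mem hθF (sup_le le_rfl hA₀le), fun x => rfl, fun z => ?_⟩
    exact hfix ⟨z, hA₀le z.2⟩ z.2
  have hθ' := hCC' _ hθC
  rw [hC'] at hθ'
  have hθE : IsIso E θ := hθ'.1
  refine mem_congr ((ha.trans hθE).trans hb.symm) fun x => ?_
  simp [θ, ← hgv]

/-- Two saturated systems with the same maps between small abelian subgroups of the hyperfocal
subgroup are equal. -/
theorem hom_eq_of_smallAb (hS : IsPGroup p S) {E F : FusionSystem S} (hE : E.IsSaturated p)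
    (hF : F.IsSaturated p) (hEF : E ≤ F)
    (hAgree : ∀ A : Subgroup Ω, SmallAb F p A → F.Hom A ⊆ E.Hom A) (P : Subgroup Ω) :
    E.Hom P = F.Hom P := by
  refine Set.Subset.antisymm (hEF P) fun φ hφ => ?_
  have hbot : SmallAb F p (⊥ : Subgroup Ω) := ⟨fun a ha => by
    rw [Subgroup.mem_bot] at ha; subst ha
    exact ⟨one_mem _, Or.inl (one_pow _)⟩, fun a ha b hb => by
    rw [Subgroup.mem_bot] at ha; subst ha; simp⟩
  exact mem_of_central_smallAb hS hE hF hEF hAgree _ ⊥ le_rfl hbot P φ hφ bot_le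
    (fun a ha x _ => by rw [Subgroup.mem_bot] at ha; subst ha; simp)

/-- The form with `homSet` hypotheses. -/
theorem hom_eq_of_homSet_smallAb (hS : IsPGroup p S) {E F : FusionSystem S} (hE : E.IsSaturated p)
    (hF : F.IsSaturated p) (hEF : E.IsSubsystemOf F)
    (hodd : p ≠ 2 → ∀ A B : Subgroup Ω, A ≤ (F.hyperfocalSubgroup p) → B ≤ (F.hyperfocalSubgroup p) →
      Cfsg.IsElementaryAbelian p A → Cfsg.IsElementaryAbelian p B → E.homSet A B = F.homSet A B)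
    (htwo : p = 2 → ∀ A B : Subgroup Ω, A ≤ (F.hyperfocalSubgroup p) → B ≤ (F.hyperfocalSubgroup p) →
      IsMulCommutative ↥A → IsMulCommutative ↥B → (∀ a ∈ A, a ^ 4 = 1) → (∀ b ∈ B, b ^ 4 = 1) →
      E.homSet A B = F.homSet A B) (P : Subgroup Ω) : E.Hom P = F.Hom P := by
  refine hom_eq_of_smallAb hS hE hF hEF (fun A hA φ hφ => ?_) P
  have hB : SmallAb F p φ.range := by
    refine ⟨?_, ?_⟩
    · rintro _ ⟨a, rfl⟩
      exact IsSmall.map hS hF hφ (hA.1 a a.2)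
    · rintro _ ⟨a, rfl⟩ _ ⟨b, rfl⟩
      rw [← map_mul, ← map_mul]
      exact congrArg φ (Subtype.ext (hA.2 a a.2 b b.2))
  have hc : ∀ B : Subgroup Ω, SmallAb F p B → B ≤ F.hyperfocalSubgroup p ∧ IsMulCommutative B :=
    fun B h => ⟨fun b hb => (h.1 b hb).1, ⟨⟨fun a b => Subtype.ext (h.2 a a.2 b b.2)⟩⟩⟩
  have hmem : φ ∈ F.homSet A φ.range := ⟨hφ, fun x => ⟨x, rfl⟩⟩
  by_cases hp : p = 2
  · have h4 : ∀ B : Subgroup Ω, SmallAb F p B → ∀ b ∈ B, b ^ 4 = 1 := fun B h b hb => by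
      rcases (h.1 b hb).2 with e | ⟨-, e⟩
      · subst hp
        rw [show 4 = 2 * 2 from rfl, pow_mul, e, one_pow]
      · exact e
    rw [← htwo hp A _ (hc A hA).1 (hc _ hB).1 (hc A hA).2 (hc _ hB).2 (h4 A hA) (h4 _ hB)] at hmem
    exact hmem.1
  · have he : ∀ B : Subgroup Ω, SmallAb F p B → Cfsg.IsElementaryAbelian p B := fun B h =>
      ⟨(hc B h).2, fun b hb => ((h.1 b hb).2).resolve_right fun e => hp e.1⟩
    rw [← hodd hp A _ (hc A hA).1 (hc _ hB).1 (he A hA) (he _ hB)] at hmem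
    exact hmem.1

end CfsgLib.FusionSub
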