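import Cfsg.Agent.FusionSub.NormalS
import Cfsg.Agent.Fusion.Hyperfocal
import Cfsg.Agent.FusionClosed.Stabilizer
import Cfsg.Agent.Techniques.SmallExponent

/-!
Criteria for `S` to be normal in a saturated system in terms of the elements of order `p` (or `4`)
of the hyperfocal subgroup.
-/

set_option autoImplicit false

namespace CfsgLib.FusionSub

open Cfsg Cfsg.FusionSystem CfsgLib.Fusion

variable {Ω : Type*} [Group Ω] {S : Subgroup Ω} {F : FusionSystem S} {p : ℕ}

/-- Elements of order dividing `p`, or `4` when `p = 2`, of the hyperfocal subgroup. -/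
def IsSmall (F : FusionSystem S) (p : ℕ) (x : Ω) : Prop :=
  x ∈ F.hyperfocalSubgroup p ∧ (x ^ p = 1 ∨ (p = 2 ∧ x ^ 4 = 1))

theorem IsSmall.mem_S {x : Ω} (h : IsSmall F p x) : x ∈ S := hyperfocal_le h.1

/-- The invariant subgroup of exponent `p` or `4` detecting the `p'`-elements of `Aut_F(Q)`. -/
theorem exists_detect [Finite S] [Fact p.Prime] (hS : IsPGroup p S) {Q : Subgroup Ω} (hQ : Q ≤ S) :
    ∃ D : Subgroup Q, (∀ α ∈ F.autGroup Q, ∀ d ∈ D, α d ∈ D) ∧
      (∀ d ∈ D, IsSmall F p (d : Ω)) ∧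
      ∀ α ∈ F.autGroup Q, (orderOf α).Coprime p → (∀ d ∈ D, α d = d) → α = 1 := by
  have := finite_of_le hQ
  obtain ⟨D, hinv, hres, hexp, -, hdet⟩ := Techniques.exists_small_detecting
    (isPGroup_of_le_S hS hQ) (F.autGroup Q) (Inn_le_autGroup hQ)
  refine ⟨D, hinv, fun d hd => ⟨?_, ?_⟩, hdet⟩
  · have hle : Subgroup.closure {y : Q | ∃ α ∈ pResidual p ↥(F.autGroup Q), ∃ x : Q,
        y = x⁻¹ * (α : MulAut Q) x} ≤ (F.hyperfocalSubgroup p).comap Q.subtype := by
      rw [Subgroup.closure_le]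
      rintro _ ⟨α, hα, x, rfl⟩
      exact Subgroup.subset_closure ⟨Q, α, x, hQ, hα, rfl⟩
    exact hle (hres hd)
  · rcases Techniques.pow_smallExp_eq_one_iff.1 (hexp d hd) with h | ⟨h, h'⟩
    · exact Or.inl (by simpa using congrArg Subtype.val h)
    · exact Or.inr ⟨h, by simpa using congrArg Subtype.val h'⟩

/-- A `p'`-automorphism stabilising a series on the small elements is trivial. -/
theorem eq_one_of_stab [Finite S] [Fact p.Prime] (hS : IsPGroup p S) {Q : Subgroup Ω} (hQ : Q ≤ S)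
    {D : Subgroup Q} (hinv : ∀ α ∈ F.autGroup Q, ∀ d ∈ D, α d ∈ D)
    (hsmall : ∀ d ∈ D, IsSmall F p (d : Ω))
    (hdet : ∀ α ∈ F.autGroup Q, (orderOf α).Coprime p → (∀ d ∈ D, α d = d) → α = 1)
    (c : ℕ → Subgroup Ω) (h0 : c 0 = ⊥) (hall : ∀ x, IsSmall F p x → ∃ i, x ∈ c i)
    {α : MulAut Q} (hα : α ∈ F.autGroup Q) (hcop : (orderOf α).Coprime p)
    (hstab : ∀ i, ∀ d ∈ D, (d : Ω) ∈ c (i + 1) → (d : Ω)⁻¹ * (α d : Ω) ∈ c i) : α = 1 := by
  have := finite_of_le hQ
  have key : ∀ i, ∀ d ∈ D, (d : Ω) ∈ c i → α d = d := by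
    intro i
    induction i with
    | zero =>
      intro d _ hd
      rw [h0, Subgroup.mem_bot] at hd
      rw [show d = 1 from Subtype.ext hd, map_one]
    | succ i ih =>
      intro d hdD hd
      refine Techniques.eq_of_fix_quotient (isPGroup_of_le_S hS hQ) hcop
        (ih _ (mul_mem (inv_mem hdD) (hinv α hα d hdD)) ?_)
      simpa using hstab i d hdD hd
  refine hdet α hα hcop fun d hd => ?_
  obtain ⟨i, hi⟩ := hall d (hsmall d hd)
  exact key i d hd hi

/-- If a series centralised by `S` is invariant on small elements, then `S` is normal in `F`. -/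
theorem isNormal_self_of_series [Finite S] [Fact p.Prime] (hS : IsPGroup p S) (hF : F.IsSaturated p)
    (c : ℕ → Subgroup Ω) (h0 : c 0 = ⊥) (hall : ∀ x, IsSmall F p x → ∃ i, x ∈ c i)
    (hstep : ∀ i x, IsSmall F p x → x ∈ c (i + 1) → ∀ s ∈ S, x⁻¹ * (s * x * s⁻¹) ∈ c i)
    (hinvar : ∀ (i : ℕ) (Q : Subgroup Ω) (φ : Q →* Ω), φ ∈ F.Hom Q → ∀ x : Q, IsSmall F p (x : Ω) →
      IsSmall F p (φ x) → (x : Ω) ∈ c i → φ x ∈ c i) : F.IsNormal S := by
  refine isNormal_self_of_normal_sylow hS hF fun Q hQ hc hr => ?_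
  obtain ⟨hQa, -⟩ := automized_receptive hS hF hQ
  have := finite_of_le hQ.1
  obtain ⟨D, hDinv, hDsmall, hDdet⟩ := exists_detect (F := F) hS hQ.1
  have hmove : ∀ α ∈ F.autGroup Q, ∀ i, ∀ d ∈ D, (d : Ω) ∈ c i → (α d : Ω) ∈ c i := fun α hα i d hd hdi =>
    hinvar i Q (Q.subtype.comp α.toMonoidHom) ((mem_autGroup_iff hQ.1).1 hα) d (hDsmall d hd)
      (hDsmall _ (hDinv α hα d hd)) hdi
  let K : Set (F.autGroup Q) :=
    {α | ∀ i, ∀ d ∈ D, (d : Ω) ∈ c (i + 1) → (d : Ω)⁻¹ * ((α : MulAut Q) d : Ω) ∈ c i}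
  let K' : Subgroup (F.autGroup Q) := Subgroup.closure K
  have hmulK : ∀ a b : F.autGroup Q, a ∈ K → b ∈ K → a * b ∈ K := by
    intro a b ha hb i d hd hdi
    have h1 := ha i _ (hDinv b b.2 d hd) (hmove b b.2 _ d hd hdi)
    have h2 := mul_mem (hb i d hd hdi) h1
    rw [mul_assoc, mul_inv_cancel_left] at h2
    exact h2
  have hone : (1 : F.autGroup Q) ∈ K := fun i d _ _ => by simp
  have hK' : ∀ a : F.autGroup Q, a ∈ K' → a ∈ K := by
    intro a ha
    rw [← Subgroup.mem_toSubmonoid, Subgroup.closure_toSubmonoid_of_finite] at ha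
    induction ha using Submonoid.closure_induction with
    | mem x hx => exact hx
    | one => exact hone
    | mul x y _ _ hx hy => exact hmulK x y hx hy
  have hn : K'.Normal := by
    refine ⟨fun a ha g => Subgroup.subset_closure ?_⟩
    intro i d hd hdi
    set e : Q := (↑g : MulAut Q)⁻¹ d with he
    have heD : e ∈ D := hDinv _ (inv_mem g.2) d hd
    have hde : (g : MulAut Q) e = d := MulEquiv.apply_symm_apply _ _
    have hei : (e : Ω) ∈ c (i + 1) := hmove _ (inv_mem g.2) _ d hd hdi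
    have h1 : ((g : MulAut Q) (e⁻¹ * (a : MulAut Q) e) : Ω) ∈ c i :=
      hmove g g.2 i _ (mul_mem (inv_mem heD) (hDinv a a.2 e heD))
        (by simpa using hK' a ha i e heD hei)
    rw [map_mul, map_inv, hde] at h1
    simpa [he] using h1
  have hp : IsPGroup p K' := FusionClosed.isPGroup_of_coprime_trivial fun a ha hcop =>
    Subtype.ext (eq_one_of_stab hS hQ.1 hDinv hDsmall hDdet c h0 hall a.2
      (by rwa [Subgroup.orderOf_coe]) (hK' a ha))
  obtain ⟨T, hT⟩ := hQa.2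
  have hTK : (T : Subgroup (F.autGroup Q)) ≤ K' := by
    intro a ha
    rw [hT, Subgroup.mem_subgroupOf] at ha
    obtain ⟨g, hgS, -, hg⟩ := mem_autInducedBy_iff.1 ha
    refine Subgroup.subset_closure fun i d hd hdi => ?_
    rw [hg]
    exact hstep i d (hDsmall d hd) hdi g hgS
  exact ⟨T, (T.is_maximal' hp hTK).symm ▸ hn⟩

/-- The upper central series of `S`, in the ambient group. -/
def upperSeries (S : Subgroup Ω) (i : ℕ) : Subgroup Ω := (Subgroup.upperCentralSeries S i).map S.subtype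

theorem upperSeries_zero : upperSeries S 0 = ⊥ := by
  simp [upperSeries]

theorem exists_mem_upperSeries [Finite S] [Fact p.Prime] (hS : IsPGroup p S) {x : Ω} (hx : x ∈ S) :
    ∃ i, x ∈ upperSeries S i := by
  have := hS.isNilpotent
  obtain ⟨n, hn⟩ := (inferInstance : Group.IsNilpotent S).nilpotent
  exact ⟨n, ⟨⟨x, hx⟩, by rw [hn]; exact Subgroup.mem_top _, rfl⟩⟩

theorem upperSeries_step {i : ℕ} {x : Ω} (hx : x ∈ upperSeries S (i + 1)) {s : Ω} (hs : s ∈ S) :
    x⁻¹ * (s * x * s⁻¹) ∈ upperSeries S i := by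
  obtain ⟨y, hy, rfl⟩ := hx
  have h1 := Subgroup.mem_upperCentralSeries_succ_iff.1 (inv_mem hy) ⟨s, hs⟩
  exact ⟨_, h1, by simp [mul_assoc, commutatorElement_def]⟩

theorem upperSeries_invariant [Finite S] {i : ℕ} {ψ : S →* Ω} (hψ : ψ ∈ F.Hom S) {x : S}
    (hx : (x : Ω) ∈ upperSeries S i) : ψ x ∈ upperSeries S i := by
  obtain ⟨y, hy, hyx⟩ := hx
  obtain ⟨e, -, hev⟩ := exists_iso hψ (eq_S_of_isConj ⟨ψ, hψ, rfl⟩)
  have hyx' : y = x := Subtype.ext hyx
  subst hyx'
  refine ⟨e y, ?_, hev y⟩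
  have h := (inferInstance : (Subgroup.upperCentralSeries S i).Characteristic).fixed e
  rw [← h] at hy
  exact hy

/-- A map on a small element restricted to the cyclic subgroup it generates. -/
theorem exists_cyclic_map [Fact p.Prime] {Q : Subgroup Ω} {φ : Q →* Ω} (hφ : φ ∈ F.Hom Q) {x : Q}
    (hx : IsSmall F p (x : Ω)) (hφx : IsSmall F p (φ x)) (hne : (x : Ω) ≠ 1) :
    ∃ (A B : Subgroup Ω) (hA : (x : Ω) ∈ A), A ≤ F.hyperfocalSubgroup p ∧ B ≤ F.hyperfocalSubgroup p ∧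
      IsCyclic A ∧ (Nat.card A = p ∨ Nat.card A = 4) ∧ IsCyclic B ∧ (Nat.card B = p ∨ Nat.card B = 4) ∧
      ∃ χ ∈ F.homSet A B, χ ⟨x, hA⟩ = φ x := by
  have hp : p.Prime := Fact.out
  have hle : Subgroup.zpowers (x : Ω) ≤ Q := Subgroup.zpowers_le.2 x.2
  have hord : orderOf (φ x) = orderOf (x : Ω) :=
    (orderOf_injective φ (F.injective_of_mem hφ) x).trans (Subgroup.orderOf_coe x).symm
  have hcard : orderOf (x : Ω) = p ∨ orderOf (x : Ω) = 4 := by
    rcases hx.2 with h | ⟨rfl, h⟩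
    · exact Or.inl (orderOf_eq_prime h hne)
    · by_cases h2 : (x : Ω) ^ 2 = 1
      · exact Or.inl (orderOf_eq_prime h2 hne)
      · exact Or.inr (orderOf_eq_prime_pow (p := 2) (n := 1) (by rwa [pow_one]) h)
  refine ⟨Subgroup.zpowers (x : Ω), Subgroup.zpowers (φ x), Subgroup.mem_zpowers _,
    Subgroup.zpowers_le.2 hx.1, Subgroup.zpowers_le.2 hφx.1, inferInstance,
    by rwa [Nat.card_zpowers], inferInstance, by rwa [Nat.card_zpowers, hord],
    restrictHom φ hle, ⟨restrict_mem hφ hle, ?_⟩, rfl⟩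
  rintro ⟨_, n, rfl⟩
  refine ⟨n, ?_⟩
  show (φ x) ^ n = φ ⟨(x : Ω) ^ n, _⟩
  rw [← map_zpow]
  rfl

/-- Small fusion in the normalizer of `S` forces `S` to be normal. -/
theorem isNormal_self_of_small_normalizer [Finite S] [Fact p.Prime] (hS : IsPGroup p S)
    (hF : F.IsSaturated p)
    (h : ∀ A B : Subgroup Ω, A ≤ F.hyperfocalSubgroup p → B ≤ F.hyperfocalSubgroup p → IsCyclic A →
      (Nat.card A = p ∨ Nat.card A = 4) → IsCyclic B → (Nat.card B = p ∨ Nat.card B = 4) →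
      F.homSet A B ⊆ F.normalizerHom S A) : F.IsNormal S := by
  refine isNormal_self_of_series hS hF (upperSeries S) upperSeries_zero
    (fun x hx => exists_mem_upperSeries hS hx.mem_S) (fun i x _ hx s hs => upperSeries_step hx hs)
    fun i Q φ hφ x hx hφx hxi => ?_
  by_cases hne : (x : Ω) = 1
  · rw [show x = 1 from Subtype.ext hne, map_one]
    exact one_mem _
  obtain ⟨A, B, hA, hAh, hBh, hAc, hAn, hBc, hBn, χ, hχ, hχx⟩ := exists_cyclic_map hφ hx hφx hne
  obtain ⟨-, -, -, ψ, hψ, hψv, -⟩ := h A B hAh hBh hAc hAn hBc hBn hχ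
  have hψS := restrict_mem hψ (le_sup_right : S ≤ A ⊔ S)
  have := upperSeries_invariant (x := ⟨x, hx.mem_S⟩) hψS hxi
  rw [← hχx, ← hψv]
  exact this

/-- Small fusion in `S` forces `F` to be the inner system. -/
theorem hom_eq_inner_of_small [Finite S] [Fact p.Prime] (hS : IsPGroup p S) (hF : F.IsSaturated p)
    (h : ∀ A B : Subgroup Ω, A ≤ F.hyperfocalSubgroup p → B ≤ F.hyperfocalSubgroup p → IsCyclic A →
      (Nat.card A = p ∨ Nat.card A = 4) → IsCyclic B → (Nat.card B = p ∨ Nat.card B = 4) →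
      F.homSet A B ⊆ (Cfsg.innerFusionSystem S).Hom A) (P : Subgroup Ω) :
    F.Hom P = (Cfsg.innerFusionSystem S).Hom P := by
  refine hom_eq_of_le (le_of_autGroups hS hF _ fun Q hQ hc hr => ?_)
    (fun R φ hφ => by
      obtain ⟨hR, g, hg, hv⟩ := hφ
      exact conj_mem' hR hg hv) P
  have := finite_of_le hQ.1
  obtain ⟨D, hDinv, hDsmall, hDdet⟩ := exists_detect (F := F) hS hQ.1
  have hp : IsPGroup p (⊤ : Subgroup (F.autGroup Q)) :=
    FusionClosed.isPGroup_of_coprime_trivial fun a _ hcop =>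
      Subtype.ext (eq_one_of_stab hS hQ.1 hDinv hDsmall hDdet (upperSeries S) upperSeries_zero
        (fun x hx => exists_mem_upperSeries hS hx.mem_S) a.2 (by rwa [Subgroup.orderOf_coe])
        fun i d hd hdi => by
          by_cases hne : (d : Ω) = 1
          · rw [show d = 1 from Subtype.ext hne, map_one]
            simp
          obtain ⟨A, B, hA, hAh, hBh, hAc, hAn, hBc, hBn, χ, hχ, hχx⟩ := exists_cyclic_map
            ((mem_autGroup_iff hQ.1).1 a.2) (hDsmall d hd) (hDsmall _ (hDinv _ a.2 d hd)) hne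
          obtain ⟨-, s, hs, hsv⟩ := h A B hAh hBh hAc hAn hBc hBn hχ
          have e : ((a : MulAut Q) d : Ω) = s * d * s⁻¹ := hχx.symm.trans (hsv ⟨d, hA⟩)
          rw [e]
          exact upperSeries_step hdi hs)
  intro α hα
  have h1 : α ∈ (pCore p (F.autGroup Q)).map (F.autGroup Q).subtype :=
    ⟨⟨α, hα⟩, (le_sSup ⟨inferInstance, hp⟩ : (⊤ : Subgroup (F.autGroup Q)) ≤ pCore p _) trivial,
      rfl⟩
  rw [hr.2] at h1
  exact Inn_le_autGroup hQ.1 h1

/-- Small focal elements generating normal subgroups of `S` force `S` to be normal. -/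
theorem isNormal_self_of_small_normal [Finite S] [Fact p.Prime] (hS : IsPGroup p S)
    (hF : F.IsSaturated p)
    (hnorm : ∀ x ∈ F.focalSubgroup, (x ^ p = 1 ∨ (p = 2 ∧ x ^ 4 = 1)) → ∀ s ∈ S,
      s * x * s⁻¹ ∈ Subgroup.zpowers x) : F.IsNormal S := by
  have hp : p.Prime := Fact.out
  have hfocS : F.focalSubgroup ≤ S := by
    refine (Subgroup.closure_le _).2 ?_
    rintro _ ⟨P, φ, x, hφ, rfl⟩
    exact S.mul_mem (S.inv_mem (le_left hφ x.2)) (apply_mem hφ x)
  -- focal elements of order `p` are central in `S`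
  have hcen : ∀ x ∈ F.focalSubgroup, x ^ p = 1 → ∀ s ∈ S, s * x = x * s := by
    intro x hx hxp s hs
    obtain ⟨n, hn⟩ := hnorm x hx (Or.inl hxp) s hs
    have hn' : s * x * s⁻¹ = x ^ n := hn.symm
    obtain ⟨k, hk⟩ := IsPGroup.iff_orderOf.1 hS ⟨s, hs⟩
    have hrec : ∀ m : ℕ, s ^ m * x * (s ^ m)⁻¹ = x ^ (n ^ m) := by
      intro m
      induction m with
      | zero => simp
      | succ m ih =>
        rw [pow_succ', show s * s ^ m * x * (s * s ^ m)⁻¹ = s * (s ^ m * x * (s ^ m)⁻¹) * s⁻¹ by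
          simp [mul_assoc], ih, ← conj_zpow, hn', ← zpow_mul, pow_succ']
    have h1 := hrec (p ^ k)
    have hs1 : s ^ p ^ k = 1 := by
      have := congrArg Subtype.val (hk ▸ pow_orderOf_eq_one (⟨s, hs⟩ : S))
      simpa using this
    rw [hs1, one_mul, inv_one, mul_one] at h1
    by_cases hx1 : x = 1
    · simp [hx1]
    have hord : (orderOf x : ℤ) = p := by rw [orderOf_eq_prime hxp hx1]
    have hfermat : (n : ZMod p) ^ p ^ k = (n : ZMod p) := ZMod.pow_card_pow _
    have : x ^ n = x := by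
      refine (?_ : x ^ n = x ^ (1 : ℤ)).trans (zpow_one x)
      rw [zpow_eq_zpow_iff_modEq, orderOf_eq_prime hxp hx1, ← ZMod.intCast_eq_intCast_iff]
      have h2 : x ^ (n ^ p ^ k) = x ^ (1 : ℤ) := by rw [zpow_one]; exact h1.symm
      rw [zpow_eq_zpow_iff_modEq, orderOf_eq_prime hxp hx1, ← ZMod.intCast_eq_intCast_iff,
        Int.cast_pow, hfermat] at h2
      exact h2
    rw [this] at hn'
    exact mul_inv_eq_iff_eq_mul.1 hn'
  let E₁ : Subgroup Ω := Subgroup.closure {x | x ∈ F.focalSubgroup ∧ x ^ p = 1}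
  let c : ℕ → Subgroup Ω := fun i => if i = 0 then ⊥ else if i = 1 then E₁ else S
  have hE₁ : ∀ x ∈ E₁, x ∈ S ∧ x ^ p = 1 ∧ ∀ s ∈ S, s * x = x * s := by
    intro x hx
    induction hx using Subgroup.closure_induction with
    | mem y hy => exact ⟨hfocS hy.1, hy.2, hcen y hy.1 hy.2⟩
    | one => exact ⟨S.one_mem, one_pow _, fun s _ => by simp⟩
    | mul a b _ _ ha hb =>
      refine ⟨S.mul_mem ha.1 hb.1, ?_, fun s hs => ?_⟩
      · rw [Commute.mul_pow (hb.2.2 a ha.1), ha.2.1, hb.2.1, one_mul]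
      · rw [← mul_assoc, ha.2.2 s hs, mul_assoc, hb.2.2 s hs, mul_assoc]
    | inv a _ ha =>
      exact ⟨S.inv_mem ha.1, by rw [inv_pow, ha.2.1, inv_one],
        fun s hs => (Commute.inv_right (ha.2.2 s hs)).eq⟩
  refine isNormal_self_of_series hS hF c (by simp [c]) (fun x hx => ⟨2, by simpa [c] using hx.mem_S⟩)
    ?_ ?_
  · intro i x hx hxi s hs
    rcases i with _ | _ | i
    ·
      have hx1 : x ∈ E₁ := by simpa [c] using hxi
      simp [c, (hE₁ x hx1).2.2 s hs]
    ·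
      show x⁻¹ * (s * x * s⁻¹) ∈ E₁
      have hxf := hyperfocal_le_focal hx.1
      obtain ⟨n, hn⟩ := hnorm x hxf hx.2 s hs
      have hn' : s * x * s⁻¹ = x ^ n := hn.symm
      rw [hn']
      rcases hx.2 with h | ⟨h2, h⟩
      · refine Subgroup.subset_closure ⟨F.focalSubgroup.mul_mem (inv_mem hxf) (zpow_mem hxf n), ?_⟩
        rw [((Commute.refl x).inv_left.zpow_right n).mul_pow, inv_pow, h, inv_one, one_mul,
          ← zpow_natCast, ← zpow_mul, mul_comm, zpow_mul, zpow_natCast, h, one_zpow]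
      · subst h2
        refine Subgroup.subset_closure ⟨F.focalSubgroup.mul_mem (inv_mem hxf) (zpow_mem hxf n), ?_⟩
        have hodd : ¬ (2 : ℤ) ∣ n ∨ x ^ 2 = 1 := by
          by_cases h2 : (2 : ℤ) ∣ n
          · refine Or.inr ?_
            obtain ⟨m, rfl⟩ := h2
            have hh : (s * x * s⁻¹) ^ 2 = 1 := by
              rw [hn', ← zpow_natCast, ← zpow_mul, show ((2 * m) * ((2 : ℕ) : ℤ)) = ((4 : ℕ) : ℤ) * m by
                push_cast; ring, zpow_mul, zpow_natCast, h, one_zpow]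
            rw [conj_pow, conj_eq_one_iff] at hh
            exact hh
          · exact Or.inl h2
        rw [← zpow_neg_one, ← zpow_add, ← zpow_natCast, ← zpow_mul]
        rcases hodd with hn2 | hx2
        · obtain ⟨m, rfl⟩ : Odd n := Int.not_even_iff_odd.1 fun he => hn2 he.two_dvd
          rw [show ((-1 + (2 * m + 1)) * ((2 : ℕ) : ℤ)) = ((4 : ℕ) : ℤ) * m by push_cast; ring,
            zpow_mul, zpow_natCast, h, one_zpow]
        · rw [mul_comm, zpow_mul, zpow_natCast, hx2, one_zpow]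
    ·
      show x⁻¹ * (s * x * s⁻¹) ∈ S
      exact S.mul_mem (S.inv_mem hx.mem_S) (S.mul_mem (S.mul_mem hs hx.mem_S) (S.inv_mem hs))
  · intro i Q φ hφ x hx hφx hxi
    rcases i with _ | _ | i
    ·
      have : x = 1 := Subtype.ext (by simpa [c] using hxi)
      simp [this]
    ·
      show φ x ∈ E₁
      refine Subgroup.subset_closure ⟨hyperfocal_le_focal hφx.1, ?_⟩
      rw [← map_pow, show x ^ p = 1 from Subtype.ext (by
        simpa using (hE₁ x (by simpa [c] using hxi)).2.1), map_one]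
    · exact hφx.mem_S

end CfsgLib.FusionSub
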